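import Cfsg.Agent.H58.Util4
import Cfsg.Agent.H58.Cert.FiS
import Cfsg.Agent.H58.Cert.FiT3
import Cfsg.Agent.H58.Cert.FiT2

/-! Order bounds in groups generated by involutions a, …, i, l (letters 1, …, 9, 12) satisfying the
Coxeter relations of Y₃₃₂ with `l` central, the spider relation and `l = (abcdefh)^9`. -/

set_option autoImplicit false
set_option maxRecDepth 100000

namespace Cfsg.Agent.H58.FiY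

open Cfsg.Agent.H58

def iv : ℕ := 57491748161315509379136

def rels : List (List ℕ) := [[1, 2, 1, 2, 1, 2],
  [1, 3, 1, 3],
  [1, 4, 1, 4],
  [1, 5, 1, 5],
  [1, 6, 1, 6],
  [1, 7, 1, 7],
  [1, 8, 1, 8],
  [1, 9, 1, 9],
  [1, 12, 1, 12],
  [2, 3, 2, 3, 2, 3],
  [2, 4, 2, 4],
  [2, 5, 2, 5],
  [2, 6, 2, 6],
  [2, 7, 2, 7],
  [2, 8, 2, 8],
  [2, 9, 2, 9],
  [2, 12, 2, 12],
  [3, 4, 3, 4, 3, 4],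
  [3, 5, 3, 5],
  [3, 6, 3, 6],
  [3, 7, 3, 7],
  [3, 8, 3, 8],
  [3, 9, 3, 9],
  [3, 12, 3, 12],
  [4, 5, 4, 5, 4, 5],
  [4, 6, 4, 6],
  [4, 7, 4, 7],
  [4, 8, 4, 8, 4, 8],
  [4, 9, 4, 9],
  [4, 12, 4, 12],
  [5, 6, 5, 6, 5, 6],
  [5, 7, 5, 7],
  [5, 8, 5, 8],
  [5, 9, 5, 9],
  [5, 12, 5, 12],
  [6, 7, 6, 7, 6, 7],
  [6, 8, 6, 8],
  [6, 9, 6, 9],
  [6, 12, 6, 12],
  [7, 8, 7, 8],
  [7, 9, 7, 9],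
  [7, 12, 7, 12],
  [8, 9, 8, 9, 8, 9],
  [8, 12, 8, 12],
  [9, 12, 9, 12],
  [4, 3, 2, 4, 5, 6, 4, 8, 9, 4, 3, 2, 4, 5, 6, 4, 8, 9, 4, 3, 2, 4, 5, 6, 4, 8, 9, 4, 3, 2, 4, 5, 6, 4, 8, 9, 4, 3, 2, 4, 5, 6, 4, 8, 9, 4, 3, 2, 4, 5, 6, 4, 8, 9, 4, 3, 2, 4, 5, 6, 4, 8, 9, 4, 3, 2, 4, 5, 6, 4, 8, 9, 4, 3, 2, 4, 5, 6, 4, 8, 9, 4, 3, 2, 4, 5, 6, 4, 8, 9],
  [12, 8, 6, 5, 4, 3, 2, 1, 8, 6, 5, 4, 3, 2, 1, 8, 6, 5, 4, 3, 2, 1, 8, 6, 5, 4, 3, 2, 1, 8, 6, 5, 4, 3, 2, 1, 8, 6, 5, 4, 3, 2, 1, 8, 6, 5, 4, 3, 2, 1, 8, 6, 5, 4, 3, 2, 1, 8, 6, 5, 4, 3, 2, 1]]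

variable {G : Type*} [Group G] {e : ℕ → G} (Q : RuleOK e rels iv)
include Q

theorem card_D5 : Finite (clL e [3, 4, 5, 6, 8]) ∧ Nat.card (clL e [3, 4, 5, 6, 8]) ≤ 1920 :=
  card_step card_le_bot (FiD5.relIndex_le Q ⊥ (forall_nil _))

theorem card_E6 : Finite (clL e [2, 3, 4, 5, 6, 8]) ∧ Nat.card (clL e [2, 3, 4, 5, 6, 8]) ≤ 51840 :=
  card_step (card_D5 Q) (FiE6.relIndex_le Q _ (mem_clL e _ _ (by decide)))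

theorem card_E7 : Finite (clL e [2, 3, 4, 5, 6, 7, 8]) ∧
    Nat.card (clL e [2, 3, 4, 5, 6, 7, 8]) ≤ 2903040 :=
  card_step (card_E6 Q) (FiE7.relIndex_le Q _ (mem_clL e _ _ (by decide)))

theorem card_O7 {n : ℕ} (h : Finite (clL e [2, 3, 4, 5, 6, 7, 8]) ∧
    Nat.card (clL e [2, 3, 4, 5, 6, 7, 8]) ≤ n) : Finite (clL e [2, 3, 4, 5, 6, 7, 8, 9]) ∧
    Nat.card (clL e [2, 3, 4, 5, 6, 7, 8, 9]) ≤ 3159 * n :=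
  card_step h (FiT3.relIndex_le Q _ (mem_clL e _ _ (by decide)))

theorem card_O7l : Finite (clL e [2, 3, 4, 5, 6, 7, 8, 9, 12]) ∧
    Nat.card (clL e [2, 3, 4, 5, 6, 7, 8, 9, 12]) ≤ 18341406720 :=
  card_step (card_O7 Q (card_E7 Q)) (FiL.relIndex_le Q _ (mem_clL e _ _ (by decide)))

theorem relIndex_O7 (H : Subgroup G) (h : ∀ x ∈ ([2, 3, 4, 5, 6, 7, 8, 9, 12] : List ℕ), e x ∈ H) :
    H.relIndex (clL e [1, 2, 3, 4, 5, 6, 7, 8, 9]) ≠ 0 ∧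
      H.relIndex (clL e [1, 2, 3, 4, 5, 6, 7, 8, 9]) ≤ 14080 :=
  FiT2.relIndex_le Q H h

end Cfsg.Agent.H58.FiY
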