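import Cfsg.Agent.H58.Util
import Cfsg.Prelude.Def_Spor_Fi22
import Cfsg.Agent.H58.FiY
import Cfsg.Agent.H58.Mod.Fi22M
import Cfsg.Agent.H58.Cert.Fi22A
import Cfsg.Agent.H58.Cert.Fi22S

set_option autoImplicit false
set_option maxRecDepth 100000
set_option linter.constructorNameAsVariable false
set_option exponentiation.threshold 400000

namespace Cfsg.Agent.H58.Fi22P

open Cfsg Cfsg.Agent.H58

def code : Spor.Fi22.Gen → ℕ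
  | .a => 1
  | .b => 2
  | .c => 3
  | .d => 4
  | .e => 5
  | .f => 6
  | .g => 7
  | .h => 8
  | .i => 9

def L : List (FreeGroup Spor.Fi22.Gen) := [1, Spor.Fi22.a, Spor.Fi22.b, Spor.Fi22.c, Spor.Fi22.d, Spor.Fi22.e, Spor.Fi22.f, Spor.Fi22.g, Spor.Fi22.h, Spor.Fi22.i]

def allG : List Spor.Fi22.Gen := [.a, .b, .c, .d, .e, .f, .g, .h, .i]

theorem hall : ∀ g, g ∈ allG := by intro g; cases g <;> decide

def iv : ℕ := 164412590478073920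

def rels : List (List ℕ) := [[1, 2, 1, 2, 1, 2],
  [1, 3, 1, 3],
  [1, 4, 1, 4],
  [1, 5, 1, 5],
  [1, 6, 1, 6],
  [1, 7, 1, 7],
  [1, 8, 1, 8],
  [1, 9, 1, 9],
  [2, 3, 2, 3, 2, 3],
  [2, 4, 2, 4],
  [2, 5, 2, 5],
  [2, 6, 2, 6],
  [2, 7, 2, 7],
  [2, 8, 2, 8],
  [2, 9, 2, 9],
  [3, 4, 3, 4, 3, 4],
  [3, 5, 3, 5],
  [3, 6, 3, 6],
  [3, 7, 3, 7],
  [3, 8, 3, 8],
  [3, 9, 3, 9],
  [4, 5, 4, 5, 4, 5],
  [4, 6, 4, 6],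
  [4, 7, 4, 7],
  [4, 8, 4, 8, 4, 8],
  [4, 9, 4, 9],
  [5, 6, 5, 6, 5, 6],
  [5, 7, 5, 7],
  [5, 8, 5, 8],
  [5, 9, 5, 9],
  [6, 7, 6, 7, 6, 7],
  [6, 8, 6, 8],
  [6, 9, 6, 9],
  [7, 8, 7, 8],
  [7, 9, 7, 9],
  [8, 9, 8, 9, 8, 9],
  [4, 3, 2, 4, 5, 6, 4, 8, 9, 4, 3, 2, 4, 5, 6, 4, 8, 9, 4, 3, 2, 4, 5, 6, 4, 8, 9, 4, 3, 2, 4, 5, 6, 4, 8, 9, 4, 3, 2, 4, 5, 6, 4, 8, 9, 4, 3, 2, 4, 5, 6, 4, 8, 9, 4, 3, 2, 4, 5, 6, 4, 8, 9, 4, 3, 2, 4, 5, 6, 4, 8, 9, 4, 3, 2, 4, 5, 6, 4, 8, 9, 4, 3, 2, 4, 5, 6, 4, 8, 9],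
  [1, 2, 3, 4, 5, 6, 8, 1, 2, 3, 4, 5, 6, 8, 1, 2, 3, 4, 5, 6, 8, 1, 2, 3, 4, 5, 6, 8, 1, 2, 3, 4, 5, 6, 8, 1, 2, 3, 4, 5, 6, 8, 1, 2, 3, 4, 5, 6, 8, 1, 2, 3, 4, 5, 6, 8, 1, 2, 3, 4, 5, 6, 8],
  [2, 3, 4, 5, 6, 7, 8, 2, 3, 4, 5, 6, 7, 8, 2, 3, 4, 5, 6, 7, 8, 2, 3, 4, 5, 6, 7, 8, 2, 3, 4, 5, 6, 7, 8, 2, 3, 4, 5, 6, 7, 8, 2, 3, 4, 5, 6, 7, 8, 2, 3, 4, 5, 6, 7, 8, 2, 3, 4, 5, 6, 7, 8]]

theorem pres : presOK L (coxAll Spor.Fi22.edges ++ Spor.Fi22.extra) code iv allG rels = true := by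
  decide +kernel

/-- the projection from the free group -/
abbrev π : FreeGroup Spor.Fi22.Gen →* Spor.Fi22 :=
  PresentedGroup.mk (Spor.coxRelators Spor.Fi22.edges ∪ {r | r ∈ Spor.Fi22.extra})

/-- the letters: 1 = a, 2 = b, 3 = c, 4 = d, 5 = e, 6 = f, 7 = g, 8 = h, 9 = i -/
def el : ℕ → Spor.Fi22 := elOf π L

theorem R : RuleOK el rels iv := ruleOK_of_presOK π hall (mk_allRels _ _) pres

theorem hc : ∀ g, el (code g) = π (FreeGroup.of g) ∧ code g < 64 := code_of_presOK π hall pres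

theorem eq_top (K : Subgroup Spor.Fi22) (h : ∀ x ∈ ([1, 2, 3, 4, 5, 6, 7, 8, 9] : List ℕ), el x ∈ K) : K = ⊤ :=
  closure_letters_eq_top hc K (by intro g; cases g <;> exact h _ (by decide))

theorem hgen : Subgroup.closure (Set.range el) = ⊤ :=
  eq_top _ fun x _ => Subgroup.subset_closure ⟨x, rfl⟩

theorem homM : homOK L (coxAll Spor.Fi22.edges ++ Spor.Fi22.extra) code Fi22M.iv Fi22M.rels Fi22M.wit Fi22M.nets.length = true := by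
  decide +kernel

/-- the action on 3510 points -/
noncomputable def M : Model Spor.Fi22 :=
  coxModel Spor.Fi22.edges Spor.Fi22.extra L Fi22M.nets 3510 Fi22M.netsOK Fi22M.ruleN (fun g => (hc g).2) homM

def yws : List (List ℕ) := [[], [], [], [0], [0], [0], [0], [0], [0], [0], [0], [0], [0], [0], [0], [0], [0], [0], [0], [0], [0], [0], [0], [0], [0], [0], [0], [0], [0], [0], [0], [0], [0], [0], [0], [0], [0], [0], [0], [0], [0], [0], [0], [0], [0], [0], [0], [0], [0], [0], [0], [0], [0], [0]]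

theorem yok : extOK rels iv 10 yws FiY.rels FiY.iv [(1, 0), (3, 0), (5, 0), (7, 0), (9, 0), (11, 0), (13, 0), (15, 0), (0, 0), (17, 0), (19, 0), (21, 0), (23, 0), (25, 0), (27, 0), (29, 0), (0, 0), (31, 0), (33, 0), (35, 0), (37, 0), (39, 0), (41, 0), (0, 0), (43, 0), (45, 0), (47, 0), (49, 0), (51, 0), (0, 0), (53, 0), (55, 0), (57, 0), (59, 0), (0, 0), (61, 0), (63, 0), (65, 0), (0, 0), (67, 0), (69, 0), (0, 0), (71, 0), (0, 0), (0, 0), (73, 0), (76, 0)]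
    [(0, 0), (0, 0), (0, 0), (0, 0), (0, 0), (0, 0), (0, 0), (0, 0), (0, 0), (0, 0), (0, 0), (0, 0), (0, 0), (0, 0), (0, 0), (0, 0), (0, 0), (0, 0), (0, 0), (0, 0), (0, 0), (0, 0), (0, 0), (0, 0), (0, 0), (0, 0), (0, 0), (0, 0), (0, 0), (0, 0), (0, 0), (0, 0), (0, 0), (0, 0), (0, 0), (0, 0), (0, 0), (0, 0), (0, 0), (0, 0), (0, 0), (0, 0), (0, 0), (0, 0), (0, 0), (0, 0), (0, 0), (0, 0), (0, 0), (0, 0), (0, 0), (0, 0), (0, 0), (0, 0), (0, 0), (0, 0), (0, 0), (0, 0), (0, 0), (0, 0), (0, 0), (0, 0), (0, 0), (0, 0)] = true := by decide +kernel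

theorem RY : RuleOK (elX el iv 10 yws) FiY.rels FiY.iv := R.extend yok

theorem card_E7 : Finite (clL el [2, 3, 4, 5, 6, 7, 8]) ∧
    Nat.card (clL el [2, 3, 4, 5, 6, 7, 8]) ≤ 1451520 :=
  card_step (card_congr (clL_elX_eq_clL el iv 10 yws _ (by decide)) (FiY.card_E6 RY))
    (Fi22E7.relIndex_le R _ (mem_clL el _ _ (by decide)))

/-- the subgroup O7(3) generated by b, …, i -/
abbrev K : Subgroup Spor.Fi22 := clL el [2, 3, 4, 5, 6, 7, 8, 9]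

theorem card_K_le : Finite K ∧ Nat.card K ≤ 4585351680 :=
  card_congr (clL_elX_eq_clL el iv 10 yws _ (by decide))
    (FiY.card_O7 RY (card_congr (clL_elX_eq_clL el iv 10 yws _ (by decide)).symm card_E7))

theorem relIndex_K : K.relIndex ⊤ ≠ 0 ∧ K.relIndex ⊤ ≤ 14080 :=
  relIndex_top_of (eq_top _ (el_mem_clL_elX el iv 10 yws [1, 2, 3, 4, 5, 6, 7, 8, 9] _ (by decide)))
    (FiY.relIndex_O7 RY K (elX_mem iv 10 yws (el_mem_closure el _) _ (by decide +kernel)))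

theorem card_le : Finite Spor.Fi22 ∧ Nat.card Spor.Fi22 ≤ 64561751654400 :=
  card_top_le rfl (card_step card_K_le relIndex_K)

theorem finite : Finite Spor.Fi22 := card_le.1

theorem lf0 : fixErr Fi22M.nets [[1], [2], [3], [4], [5], [6], [7], [8], [9]] [] = 0 := by decide +kernel
theorem lo0 : orbErr Fi22M.nets [[1], [2], [3], [4], [5], [6], [7], [8], [9]] [1, 0, 2, 3, 1, 4, 7, 5, 8, 3, 2, 6, 4, 7, 3, 1, 5, 4, 2, 7, 8, 3, 5, 1, 0, 6, 7, 8, 2, 4, 3, 1, 5, 0, 6, 2, 7, 1, 3, 2] 0 12 3510 = 0 := by decide +kernel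
theorem lf1 : fixErr Fi22M.nets [[1], [3], [4], [5], [6], [8], [7], [9], [2, 3, 4, 8, 5, 4, 3, 2, 1, 2, 3, 4, 5, 8, 4, 3, 2]] [0] = 0 := by decide +kernel
theorem lo1 : orbErr Fi22M.nets [[1], [3], [4], [5], [6], [8], [7], [9], [2, 3, 4, 8, 5, 4, 3, 2, 1, 2, 3, 4, 5, 8, 4, 3, 2]] [0, 1, 2, 3, 5, 4, 7, 2, 6, 1, 3, 5, 2, 4, 3, 5, 1, 7, 4, 2, 6, 5, 1, 3, 8, 4, 7, 3, 5, 2, 1, 3] 1 12 2816 = 0 := by decide +kernel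
theorem lf2 : fixErr Fi22M.nets [[4], [7], [5], [6], [8], [9], [3, 4, 5, 2, 3, 4, 8, 4, 5, 3, 4, 1, 2, 1, 3, 2, 1, 4, 5, 8, 4, 3, 2, 1]] [1, 0] = 0 := by decide +kernel
theorem lo2 : orbErr Fi22M.nets [[4], [7], [5], [6], [8], [9], [3, 4, 5, 2, 3, 4, 8, 4, 5, 3, 4, 1, 2, 1, 3, 2, 1, 4, 5, 8, 4, 3, 2, 1]] [0, 1, 2, 3, 4, 5, 0, 2, 1, 0, 4, 5, 3, 0, 6, 5, 3, 4, 1, 2, 0, 3, 2, 4] 190 12 1680 = 0 := by decide +kernel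
theorem lf3 : fixErr Fi22M.nets [[5], [6], [9], [8], [4, 8, 5, 6, 4, 5, 3, 4, 5, 2, 3, 4, 8, 4, 5, 3, 4, 1, 2, 1, 3, 2, 1, 4, 5, 8, 4, 3, 2, 1, 6, 5, 4], [4, 8, 9, 5, 4, 8, 3, 4, 5, 2, 3, 4, 8, 4, 5, 3, 4, 1, 2, 1, 3, 2, 1, 4, 5, 8, 4, 3, 2, 1, 9, 8, 4]] [190, 1, 0] = 0 := by decide +kernel
theorem lo3 : orbErr Fi22M.nets [[5], [6], [9], [8], [4, 8, 5, 6, 4, 5, 3, 4, 5, 2, 3, 4, 8, 4, 5, 3, 4, 1, 2, 1, 3, 2, 1, 4, 5, 8, 4, 3, 2, 1, 6, 5, 4], [4, 8, 9, 5, 4, 8, 3, 4, 5, 2, 3, 4, 8, 4, 5, 3, 4, 1, 2, 1, 3, 2, 1, 4, 5, 8, 4, 3, 2, 1, 9, 8, 4]] [0, 2, 1, 3, 4, 2, 3, 2, 5, 0, 1, 0, 4] 67 12 243 = 0 := by decide +kernel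
theorem lf4 : fixErr Fi22M.nets [[6], [8], [7, 6, 1, 2, 3, 4, 8, 5, 4, 1, 2, 3, 1, 2, 1, 4, 3, 5, 4, 8, 4, 3, 2, 5, 4, 3, 9, 6, 7, 5, 6, 4, 5, 3, 4, 5, 2, 3, 4, 8, 4, 5, 3, 4, 1, 2, 1, 3, 2, 1, 4, 5, 8, 4, 3, 2, 1, 6, 5, 4, 7, 6, 5, 9, 8, 4], [4, 8, 9, 7, 6, 1, 2, 3, 4, 8, 5, 4, 1, 2, 3, 1, 2, 1, 4, 3, 5, 4, 8, 4, 3, 2, 5, 4, 3, 9, 8, 6, 7, 4, 5, 4, 6, 5, 7, 8, 4, 3, 4, 5, 2, 3, 4, 8, 4, 5, 3, 4, 1, 2, 1, 3, 2, 1, 4, 5, 8, 4, 3, 2, 1, 6, 5]] [67, 190, 1, 0] = 0 := by decide +kernel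
theorem lo4 : orbErr Fi22M.nets [[6], [8], [7, 6, 1, 2, 3, 4, 8, 5, 4, 1, 2, 3, 1, 2, 1, 4, 3, 5, 4, 8, 4, 3, 2, 5, 4, 3, 9, 6, 7, 5, 6, 4, 5, 3, 4, 5, 2, 3, 4, 8, 4, 5, 3, 4, 1, 2, 1, 3, 2, 1, 4, 5, 8, 4, 3, 2, 1, 6, 5, 4, 7, 6, 5, 9, 8, 4], [4, 8, 9, 7, 6, 1, 2, 3, 4, 8, 5, 4, 1, 2, 3, 1, 2, 1, 4, 3, 5, 4, 8, 4, 3, 2, 5, 4, 3, 9, 8, 6, 7, 4, 5, 4, 6, 5, 7, 8, 4, 3, 4, 5, 2, 3, 4, 8, 4, 5, 3, 4, 1, 2, 1, 3, 2, 1, 4, 5, 8, 4, 3, 2, 1, 6, 5]] [0, 1, 2, 3] 8 12 16 = 0 := by decide +kernel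

theorem card_ge : 64561751654400 ≤ Nat.card ((⊤ : Subgroup Spor.Fi22).map M.φ) :=
  have := finite
  (show 3510 * (2816 * (1680 * (243 * (16 * (1))))) ≤ Nat.card ((M.fixK ⊤ []).map M.φ) from (M.lev_step (fun _ _ => trivial) lf0 lo0
    (M.lev_step (fun _ _ => trivial) lf1 lo1
    (M.lev_step (fun _ _ => trivial) lf2 lo2
    (M.lev_step (fun _ _ => trivial) lf3 lo3
    (M.lev_step (fun _ _ => trivial) lf4 lo4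
    (M.chain_base _)))))))

theorem card_eq : Nat.card Spor.Fi22 = 64561751654400 :=
  have := finite
  (M.card_eq_of_bounds card_le.2 card_ge).1

/-- the action is faithful -/
theorem inj : Function.Injective M.φ :=
  have := finite
  (M.card_eq_of_bounds card_le.2 card_ge).2

theorem trans : 3510 ≤ (M.orb ⊤ 0).ncard :=
  M.le_ncard_orb (K := ⊤) (fun _ _ => trivial) lo0 (M.orb_finite hgen _ _)

theorem index_K : K.index = 14080 ∧ Nat.card K = 4585351680 := by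
  have h1 := K.index_mul_card
  have h2 := relIndex_K.2
  have h3 := card_K_le.2
  rw [card_eq] at h1
  rw [Subgroup.relIndex_top_right] at h2
  constructor <;> nlinarith

def x1ws : List (List ℕ) := [[1, 2, 3, 4, 5, 8, 1, 2, 3, 4, 5, 8, 1, 2, 3, 4, 5, 8, 1, 2, 3, 4, 5, 8, 1, 2, 3, 4, 5, 8], [8, 5, 4, 3, 2, 1, 8, 5, 4, 3, 2, 1, 8, 5, 4, 3, 2, 1, 8, 5, 4, 3, 2, 1, 8, 5, 4, 3, 2, 1], [0], [0], [0], [0], [0], [0], [0], [0], [0], [0], [0], [0], [0], [0], [0], [0], [0], [0], [0], [0], [0], [0], [0], [0], [0], [0], [0], [0], [0], [0], [0], [0], [0], [0], [0], [0], [0], [0], [0], [0], [0], [0], [0], [0], [0], [0], [0], [0], [0], [0], [0], [0]]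

theorem x1ok : extOK rels iv 10 x1ws Fi22A.rels Fi22A.iv [(1, 0), (3, 0), (5, 0), (7, 0), (9, 0), (11, 0), (13, 0), (15, 0), (17, 0), (19, 0), (21, 0), (23, 0), (25, 0), (27, 0), (29, 0), (31, 0), (33, 0), (35, 0), (37, 0), (39, 0), (41, 0), (43, 0), (45, 0), (47, 0), (49, 0), (51, 0), (53, 0), (55, 0), (57, 0), (59, 0), (61, 0), (63, 0), (65, 0), (67, 0), (69, 0), (71, 0), (73, 0), (75, 0), (77, 0), (0, 0)]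
    [(0, 0), (0, 0), (0, 0), (0, 0), (0, 0), (0, 0), (0, 0), (0, 0), (0, 0), (0, 0), (0, 0), (0, 0), (0, 0), (0, 0), (0, 0), (0, 0), (0, 0), (0, 0), (0, 0), (0, 0), (0, 0), (0, 0), (0, 0), (0, 0), (0, 0), (0, 0), (0, 0), (0, 0), (0, 0), (0, 0), (0, 0), (0, 0), (0, 0), (0, 0), (0, 0), (0, 0), (0, 0), (0, 0), (0, 0), (0, 0), (0, 0), (0, 0), (0, 0), (0, 0), (0, 0), (0, 0), (0, 0), (0, 0), (0, 0), (0, 0), (0, 0), (0, 0), (0, 0), (0, 0), (0, 0), (0, 0), (0, 0), (0, 0), (0, 0), (0, 0), (0, 0), (0, 0), (0, 0), (0, 0)] = true := by decide +kernel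

/-- the subgroup 2.U6(2) -/
abbrev H : Subgroup Spor.Fi22 := clW el [[1], [3], [4], [5], [6], [7], [8], [9], [1, 2, 3, 4, 5, 8, 1, 2, 3, 4, 5, 8, 1, 2, 3, 4, 5, 8, 1, 2, 3, 4, 5, 8, 1, 2, 3, 4, 5, 8]]

theorem H_clW : H = clW el [[1], [3], [4], [5], [6], [7], [8], [9], [1, 2, 3, 4, 5, 8, 1, 2, 3, 4, 5, 8, 1, 2, 3, 4, 5, 8, 1, 2, 3, 4, 5, 8, 1, 2, 3, 4, 5, 8]] := rfl

theorem fixH : fixErr Fi22M.nets [[1], [3], [4], [5], [6], [7], [8], [9], [1, 2, 3, 4, 5, 8, 1, 2, 3, 4, 5, 8, 1, 2, 3, 4, 5, 8, 1, 2, 3, 4, 5, 8, 1, 2, 3, 4, 5, 8]] [0] = 0 := by decide +kernel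

theorem relIndex_H : H.relIndex ⊤ ≠ 0 ∧ H.relIndex ⊤ ≤ 3510 :=
  relIndex_top_of (eq_top _ (el_mem_clL_elX el iv 10 x1ws [1, 2, 3, 4, 5, 6, 7, 8, 9] _ (by decide)))
    (Fi22A.relIndex_le (R.extend x1ok) H (elX_mem_clW el iv 10 x1ws _ _ (by decide +kernel)))

theorem index_H : H.index = 3510 ∧ H = M.St 0 :=
  M.index_eq (M.mem_St_of fixH) relIndex_H trans

def col : List (List ℕ × ℕ × List ℕ × List ℕ) := [([2], 1, [0, 1, 2, 3, 6, 4, 7, 2, 5, 1, 3, 6, 2, 4, 3, 6, 1, 7, 4, 2, 5, 6, 1, 3, 4, 8, 4, 7, 3, 6, 2, 1, 5], [0, 1, 2, 3, 0, 4, 7, 5, 8, 3, 2, 6, 4, 7, 3, 0, 5, 4, 2, 7, 8, 3, 5, 0, 1, 6, 7, 8, 2, 4, 3, 0, 5, 1, 6, 2, 7, 0, 3, 2]),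
  ([2, 3, 1, 2], 4, [2, 1, 3, 6, 4, 7, 2, 5, 3, 6, 4, 2, 1, 8, 7, 4, 3, 5, 6, 2, 4, 6, 1, 7, 3, 2, 3], [0, 3, 2, 4, 7, 5, 8, 3, 6, 0, 3, 4, 2, 7, 3, 5, 2, 4, 7, 8, 3, 5, 6, 0, 7, 3, 4, 8, 5, 1, 7, 3, 2, 6, 7, 4, 3, 2, 5])]
theorem co1 : genErr Fi22M.nets [[1], [3], [4], [5], [6], [7], [8], [9], [1, 2, 3, 4, 5, 8, 1, 2, 3, 4, 5, 8, 1, 2, 3, 4, 5, 8, 1, 2, 3, 4, 5, 8, 1, 2, 3, 4, 5, 8]] 0 (Nat.pred (Nat.pow 2 3510)) col = 0 := by decide +kernel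
theorem co2 : covM Fi22M.nets [[1], [3], [4], [5], [6], [7], [8], [9], [1, 2, 3, 4, 5, 8, 1, 2, 3, 4, 5, 8, 1, 2, 3, 4, 5, 8, 1, 2, 3, 4, 5, 8, 1, 2, 3, 4, 5, 8]] 0 col = Nat.pred (Nat.pow 2 3510) := by decide +kernel
theorem mv : appW Fi22M.nets [2] (Nat.pow 2 1) = Nat.pow 2 0 := by decide +kernel

theorem coatom : IsCoatom (M.St 0) :=
  M.isCoatom_of hgen (by decide) (M.St_ne_top mv (by decide)) fixH co1 co2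

def pup : List (List ℕ × List ℕ) := [([1, 2, 3, 4, 5, 6, 8, 9, 1, 2, 3, 4, 5, 6, 8, 9, 1, 2, 3, 4, 5, 6, 8, 9, 1, 2, 3, 4, 5, 6, 8, 9, 1, 2, 3, 4, 5, 6, 8, 9, 1, 2, 3, 4, 5, 6, 8, 9, 1, 2, 3, 4, 5, 6, 8, 9], [9, 8, 6, 5, 4, 3, 2, 1, 9, 8, 6, 5, 4, 3, 2, 1, 9, 8, 6, 5, 4, 3, 2, 1, 9, 8, 6, 5, 4, 3, 2, 1, 9, 8, 6, 5, 4, 3, 2, 1, 9, 8, 6, 5, 4, 3, 2, 1])]
theorem pu0 : eqsAt Fi22M.nets 3510 12 pup 0 = 0 := by decide +kernel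
theorem pu1 : eqsAt Fi22M.nets 3510 12 pup 1 = 0 := by decide +kernel
theorem pu2 : eqsAt Fi22M.nets 3510 12 pup 2 = 0 := by decide +kernel
theorem pu3 : eqsAt Fi22M.nets 3510 12 pup 3 = 0 := by decide +kernel
theorem pu4 : eqsAt Fi22M.nets 3510 12 pup 4 = 0 := by decide +kernel
theorem pu5 : eqsAt Fi22M.nets 3510 12 pup 5 = 0 := by decide +kernel
theorem pu6 : eqsAt Fi22M.nets 3510 12 pup 6 = 0 := by decide +kernel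
theorem pu7 : eqsAt Fi22M.nets 3510 12 pup 7 = 0 := by decide +kernel
theorem pu8 : eqsAt Fi22M.nets 3510 12 pup 8 = 0 := by decide +kernel
theorem pu9 : eqsAt Fi22M.nets 3510 12 pup 9 = 0 := by decide +kernel
theorem pu10 : eqsAt Fi22M.nets 3510 12 pup 10 = 0 := by decide +kernel
theorem pu11 : eqsAt Fi22M.nets 3510 12 pup 11 = 0 := by decide +kernel
theorem pua : ∀ t < 12, eqsAt Fi22M.nets 3510 12 pup t = 0 := (blocks_cons (blocks_cons (blocks_cons (blocks_cons (blocks_cons (blocks_cons (blocks_cons (blocks_cons (blocks_cons (blocks_cons (blocks_cons (blocks_cons (blocks_nil _) pu0) pu1) pu2) pu3) pu4) pu5) pu6) pu7) pu8) pu9) pu10) pu11)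

theorem u_pow : wv el [1, 2, 3, 4, 5, 6, 8, 9] ^ 13 = 1 :=
  wv_pow_eq_one R _ 7 6 (M.wv_eq inj (by decide) pua _ List.mem_cons_self) (by decide +kernel)

theorem normal_top (N : Subgroup Spor.Fi22) (hN : N.Normal) (h : wv el [1, 2, 3, 4, 5, 6, 8, 9] ∈ N) : N = ⊤ := by
  have Q := R.quot N _ (by decide) h
  have h1 : ∀ x ∈ ([1, 2, 3, 4, 5, 6, 7, 8, 9] : List ℕ), el x ∈ N := (forall_cons (mem_of_quot_bot N (Fi22U.goal1 Q ⊥ (forall_nil _))) (forall_cons (mem_of_quot_bot N (Fi22U.goal2 Q ⊥ (forall_nil _))) (forall_cons (mem_of_quot_bot N (Fi22U.goal3 Q ⊥ (forall_nil _))) (forall_cons (mem_of_quot_bot N (Fi22U.goal4 Q ⊥ (forall_nil _))) (forall_cons (mem_of_quot_bot N (Fi22U.goal5 Q ⊥ (forall_nil _))) (forall_cons (mem_of_quot_bot N (Fi22U.goal6 Q ⊥ (forall_nil _))) (forall_cons (mem_of_quot_bot N (Fi22U.goal7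 Q ⊥ (forall_nil _))) (forall_cons (mem_of_quot_bot N (Fi22U.goal8 Q ⊥ (forall_nil _))) (forall_cons (mem_of_quot_bot N (Fi22U.goal9 Q ⊥ (forall_nil _))) (forall_nil' _))))))))))
  exact eq_top _ h1

theorem simple : IsSimpleGroup Spor.Fi22 :=
  have := finite
  M.simple_of hgen inj (by decide) trans coatom (q := 13) (k := 1) (by norm_num) (by decide)
    (by rw [card_eq]; norm_num) _ u_pow normal_top

theorem ob2816_1 : orbEqErr Fi22M.nets [[1], [3], [4], [5], [6], [7], [8], [9], [1, 2, 3, 4, 5, 8, 1, 2, 3, 4, 5, 8, 1, 2, 3, 4, 5, 8, 1, 2, 3, 4, 5, 8, 1, 2, 3, 4, 5, 8]] [0, 1, 2, 3, 6, 4, 7, 2, 5, 1, 3, 6, 2, 4, 3, 6, 1, 7, 4, 2, 5, 6, 1, 3, 4, 8, 4, 7, 3, 6, 2, 1, 5] 1 12 2816 = 0 := by decide +kernel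
theorem mv2816_1 : appW Fi22M.nets [2] (Nat.pow 2 1) = Nat.pow 2 0 := by decide +kernel
theorem orbit2816_1 : (MulAction.orbit H ((wv el [2] : Spor.Fi22) : Spor.Fi22 ⧸ H)).ncard = 2816 := by
  rw [M.ncard_orbit index_H.2, show M.φ (wv el [2]) 0 = 1 from M.apply_wv' mv2816_1, H_clW]
  exact M.ncard_orb_eq ob2816_1

theorem ob693_4 : orbEqErr Fi22M.nets [[1], [3], [4], [5], [6], [7], [8], [9], [1, 2, 3, 4, 5, 8, 1, 2, 3, 4, 5, 8, 1, 2, 3, 4, 5, 8, 1, 2, 3, 4, 5, 8, 1, 2, 3, 4, 5, 8]] [2, 1, 3, 6, 4, 7, 2, 5, 3, 6, 4, 2, 1, 8, 7, 4, 3, 5, 6, 2, 4, 6, 1, 7, 3, 2, 3] 4 12 693 = 0 := by decide +kernel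
theorem mv693_4 : appW Fi22M.nets [2, 3, 1, 2] (Nat.pow 2 4) = Nat.pow 2 0 := by decide +kernel
theorem orbit693_4 : (MulAction.orbit H ((wv el [2, 3, 1, 2] : Spor.Fi22) : Spor.Fi22 ⧸ H)).ncard = 693 := by
  rw [M.ncard_orbit index_H.2, show M.φ (wv el [2, 3, 1, 2]) 0 = 4 from M.apply_wv' mv693_4, H_clW]
  exact M.ncard_orb_eq ob693_4

theorem H_stmt : (Subgroup.closure ({Spor.Fi22.a, Spor.Fi22.c, Spor.Fi22.d, Spor.Fi22.e, Spor.Fi22.f, Spor.Fi22.g, Spor.Fi22.h, Spor.Fi22.i, (Spor.Fi22.a * Spor.Fi22.b * Spor.Fi22.c * Spor.Fi22.d * Spor.Fi22.e * Spor.Fi22.h) ^ 5} :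
    Set (FreeGroup Spor.Fi22.Gen))).map π = H :=
  (map_closure_eq_clW π hc R.hinv _ [Spor.Fi22.a, Spor.Fi22.c, Spor.Fi22.d, Spor.Fi22.e, Spor.Fi22.f, Spor.Fi22.g, Spor.Fi22.h, Spor.Fi22.i, (Spor.Fi22.a * Spor.Fi22.b * Spor.Fi22.c * Spor.Fi22.d * Spor.Fi22.e * Spor.Fi22.h) ^ 5]
    (by ext; simp) (by decide +kernel)).trans H_clW.symm

theorem K_stmt : (Subgroup.closure ({Spor.Fi22.b, Spor.Fi22.c, Spor.Fi22.d, Spor.Fi22.e, Spor.Fi22.f, Spor.Fi22.g, Spor.Fi22.h, Spor.Fi22.i} :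
    Set (FreeGroup Spor.Fi22.Gen))).map π = K :=
  (map_closure_eq_clW π hc R.hinv _ [Spor.Fi22.b, Spor.Fi22.c, Spor.Fi22.d, Spor.Fi22.e, Spor.Fi22.f, Spor.Fi22.g, Spor.Fi22.h, Spor.Fi22.i]
    (by ext; simp) (by decide +kernel)).trans (clL_eq_clW el _).symm

end Cfsg.Agent.H58.Fi22P
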