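import Cfsg.Agent.H58.Util
import Cfsg.Prelude.Def_Spor_Fi23
import Cfsg.Agent.H58.FiY
import Cfsg.Agent.H58.Mod.Fi23M
import Cfsg.Agent.H58.Cert.FiT1
import Cfsg.Agent.H58.Cert.Fi23U

set_option autoImplicit false
set_option maxRecDepth 100000
set_option linter.constructorNameAsVariable false
set_option exponentiation.threshold 400000

namespace Cfsg.Agent.H58.Fi23P

open Cfsg Cfsg.Agent.H58

def code : Spor.Fi23.Gen → ℕ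
  | .a => 1
  | .b => 2
  | .c => 3
  | .d => 4
  | .e => 5
  | .f => 6
  | .g => 7
  | .h => 8
  | .i => 9
  | .j => 10

def L : List (FreeGroup Spor.Fi23.Gen) := [1, Spor.Fi23.a, Spor.Fi23.b, Spor.Fi23.c, Spor.Fi23.d, Spor.Fi23.e, Spor.Fi23.f, Spor.Fi23.g, Spor.Fi23.h, Spor.Fi23.i, Spor.Fi23.j]

def allG : List Spor.Fi23.Gen := [.a, .b, .c, .d, .e, .f, .g, .h, .i, .j]

theorem hall : ∀ g, g ∈ allG := by intro g; cases g <;> decide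

def iv : ℕ := 11693627636546543680

def rels : List (List ℕ) := [[1, 2, 1, 2, 1, 2],
  [1, 3, 1, 3],
  [1, 4, 1, 4],
  [1, 5, 1, 5],
  [1, 6, 1, 6],
  [1, 7, 1, 7],
  [1, 8, 1, 8],
  [1, 9, 1, 9],
  [1, 10, 1, 10],
  [2, 3, 2, 3, 2, 3],
  [2, 4, 2, 4],
  [2, 5, 2, 5],
  [2, 6, 2, 6],
  [2, 7, 2, 7],
  [2, 8, 2, 8],
  [2, 9, 2, 9],
  [2, 10, 2, 10],
  [3, 4, 3, 4, 3, 4],
  [3, 5, 3, 5],
  [3, 6, 3, 6],
  [3, 7, 3, 7],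
  [3, 8, 3, 8],
  [3, 9, 3, 9],
  [3, 10, 3, 10],
  [4, 5, 4, 5, 4, 5],
  [4, 6, 4, 6],
  [4, 7, 4, 7],
  [4, 8, 4, 8, 4, 8],
  [4, 9, 4, 9],
  [4, 10, 4, 10],
  [5, 6, 5, 6, 5, 6],
  [5, 7, 5, 7],
  [5, 8, 5, 8],
  [5, 9, 5, 9],
  [5, 10, 5, 10],
  [6, 7, 6, 7, 6, 7],
  [6, 8, 6, 8],
  [6, 9, 6, 9],
  [6, 10, 6, 10],
  [7, 8, 7, 8],
  [7, 9, 7, 9],
  [7, 10, 7, 10, 7, 10],
  [8, 9, 8, 9, 8, 9],
  [8, 10, 8, 10],
  [9, 10, 9, 10],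
  [4, 3, 2, 4, 5, 6, 4, 8, 9, 4, 3, 2, 4, 5, 6, 4, 8, 9, 4, 3, 2, 4, 5, 6, 4, 8, 9, 4, 3, 2, 4, 5, 6, 4, 8, 9, 4, 3, 2, 4, 5, 6, 4, 8, 9, 4, 3, 2, 4, 5, 6, 4, 8, 9, 4, 3, 2, 4, 5, 6, 4, 8, 9, 4, 3, 2, 4, 5, 6, 4, 8, 9, 4, 3, 2, 4, 5, 6, 4, 8, 9, 4, 3, 2, 4, 5, 6, 4, 8, 9],
  [1, 2, 3, 4, 5, 6, 8, 1, 2, 3, 4, 5, 6, 8, 1, 2, 3, 4, 5, 6, 8, 1, 2, 3, 4, 5, 6, 8, 1, 2, 3, 4, 5, 6, 8, 1, 2, 3, 4, 5, 6, 8, 1, 2, 3, 4, 5, 6, 8, 1, 2, 3, 4, 5, 6, 8, 1, 2, 3, 4, 5, 6, 8]]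

theorem pres : presOK L (coxAll Spor.Fi23.edges ++ Spor.Fi23.extra) code iv allG rels = true := by
  decide +kernel

/-- the projection from the free group -/
abbrev π : FreeGroup Spor.Fi23.Gen →* Spor.Fi23 :=
  PresentedGroup.mk (Spor.coxRelators Spor.Fi23.edges ∪ {r | r ∈ Spor.Fi23.extra})

/-- the letters: 1 = a, 2 = b, 3 = c, 4 = d, 5 = e, 6 = f, 7 = g, 8 = h, 9 = i, 10 = j -/
def el : ℕ → Spor.Fi23 := elOf π L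

theorem R : RuleOK el rels iv := ruleOK_of_presOK π hall (mk_allRels _ _) pres

theorem hc : ∀ g, el (code g) = π (FreeGroup.of g) ∧ code g < 64 := code_of_presOK π hall pres

theorem eq_top (K : Subgroup Spor.Fi23) (h : ∀ x ∈ ([1, 2, 3, 4, 5, 6, 7, 8, 9, 10] : List ℕ), el x ∈ K) : K = ⊤ :=
  closure_letters_eq_top hc K (by intro g; cases g <;> exact h _ (by decide))

theorem hgen : Subgroup.closure (Set.range el) = ⊤ :=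
  eq_top _ fun x _ => Subgroup.subset_closure ⟨x, rfl⟩

theorem homM : homOK L (coxAll Spor.Fi23.edges ++ Spor.Fi23.extra) code Fi23M.iv Fi23M.rels Fi23M.wit Fi23M.nets.length = true := by
  decide +kernel

/-- the action on 31671 points -/
noncomputable def M : Model Spor.Fi23 :=
  coxModel Spor.Fi23.edges Spor.Fi23.extra L Fi23M.nets 31671 Fi23M.netsOK Fi23M.ruleN (fun g => (hc g).2) homM

def yws : List (List ℕ) := [[], [], [0], [0], [0], [0], [0], [0], [0], [0], [0], [0], [0], [0], [0], [0], [0], [0], [0], [0], [0], [0], [0], [0], [0], [0], [0], [0], [0], [0], [0], [0], [0], [0], [0], [0], [0], [0], [0], [0], [0], [0], [0], [0], [0], [0], [0], [0], [0], [0], [0], [0], [0]]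

theorem yok : extOK rels iv 11 yws FiT1.rels FiT1.iv [(1, 0), (3, 0), (5, 0), (7, 0), (9, 0), (11, 0), (13, 0), (15, 0), (17, 0), (0, 0), (19, 0), (21, 0), (23, 0), (25, 0), (27, 0), (29, 0), (31, 0), (33, 0), (0, 0), (35, 0), (37, 0), (39, 0), (41, 0), (43, 0), (45, 0), (47, 0), (0, 0), (49, 0), (51, 0), (53, 0), (55, 0), (57, 0), (59, 0), (0, 0), (61, 0), (63, 0), (65, 0), (67, 0), (69, 0), (0, 0), (71, 0), (73, 0), (75, 0), (77, 0), (0, 0), (79, 0), (81, 0), (83, 0), (0, 0), (85, 0), (87, 0), (0, 0), (89, 0), (0, 0), (0, 0), (91, 0), (94, 0)]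
    [(0, 0), (0, 0), (0, 0), (0, 0), (0, 0), (0, 0), (0, 0), (0, 0), (0, 0), (0, 0), (0, 0), (0, 0), (0, 0), (0, 0), (0, 0), (0, 0), (0, 0), (0, 0), (0, 0), (0, 0), (0, 0), (0, 0), (0, 0), (0, 0), (0, 0), (0, 0), (0, 0), (0, 0), (0, 0), (0, 0), (0, 0), (0, 0), (0, 0), (0, 0), (0, 0), (0, 0), (0, 0), (0, 0), (0, 0), (0, 0), (0, 0), (0, 0), (0, 0), (0, 0), (0, 0), (0, 0), (0, 0), (0, 0), (0, 0), (0, 0), (0, 0), (0, 0), (0, 0), (0, 0), (0, 0), (0, 0), (0, 0), (0, 0), (0, 0), (0, 0), (0, 0), (0, 0), (0, 0), (0, 0)] = true := by decide +kernel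

theorem RY1 : RuleOK (elX el iv 11 yws) FiT1.rels FiT1.iv := R.extend yok

theorem RY : RuleOK (elX el iv 11 yws) FiY.rels FiY.iv :=
  RY1.sub (wit := [(1, 0), (3, 0), (5, 0), (7, 0), (9, 0), (11, 0), (13, 0), (15, 0), (19, 0), (21, 0), (23, 0), (25, 0), (27, 0), (29, 0), (31, 0), (33, 0), (37, 0), (39, 0), (41, 0), (43, 0), (45, 0), (47, 0), (49, 0), (53, 0), (55, 0), (57, 0), (59, 0), (61, 0), (63, 0), (67, 0), (69, 0), (71, 0), (73, 0), (75, 0), (79, 0), (81, 0), (83, 0), (85, 0), (89, 0), (91, 0), (93, 0), (97, 0), (99, 0), (103, 0), (107, 0), (111, 0), (113, 0)]) (by decide +kernel)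

/-- the subgroup 2 × O7(3) generated by b, …, i -/
abbrev K : Subgroup Spor.Fi23 := clL el [2, 3, 4, 5, 6, 7, 8, 9]

/-- the subgroup 2.Fi22 generated by a, …, i -/
abbrev H : Subgroup Spor.Fi23 := clL el [1, 2, 3, 4, 5, 6, 7, 8, 9]

theorem card_K_le : Finite K ∧ Nat.card K ≤ 9170703360 :=
  card_congr (clL_elX_eq_clL el iv 11 yws _ (by decide)) (FiY.card_O7 RY (FiY.card_E7 RY))

theorem card_H_le : Finite H ∧ Nat.card H ≤ 129123503308800 :=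
  card_step card_K_le (relIndex_congr (clL_elX_eq_clL el iv 11 yws _ (by decide))
    (FiY.relIndex_O7 RY K (elX_mem iv 11 yws (el_mem_closure el _) _ (by decide +kernel))))

theorem relIndex_H : H.relIndex ⊤ ≠ 0 ∧ H.relIndex ⊤ ≤ 31671 :=
  relIndex_top_of (eq_top _ (el_mem_clL_elX el iv 11 yws [1, 2, 3, 4, 5, 6, 7, 8, 9, 10] _ (by decide)))
    (FiT1.relIndex_le RY1 H (elX_mem iv 11 yws (el_mem_closure el _) _ (by decide +kernel)))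

theorem card_le : Finite Spor.Fi23 ∧ Nat.card Spor.Fi23 ≤ 4089470473293004800 :=
  card_top_le rfl (card_step card_H_le relIndex_H)

theorem finite : Finite Spor.Fi23 := card_le.1

theorem lf0 : fixErr Fi23M.nets [[1], [2], [3], [4], [5], [6], [7], [8], [9], [10]] [] = 0 := by decide +kernel
theorem lo0 : orbErr Fi23M.nets [[1], [2], [3], [4], [5], [6], [7], [8], [9], [10]] [9, 6, 5, 4, 3, 2, 7, 1, 8, 3, 0, 4, 2, 5, 7, 3, 6, 9, 4, 7, 1, 2, 8, 5, 3, 1, 6, 7, 4, 2, 0, 9, 3, 8, 5, 1, 6, 2, 7, 4, 1, 3, 0, 8, 2, 1, 4, 5, 0, 7, 3, 2, 6, 3, 1] 0 15 31671 = 0 := by decide +kernel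
theorem lf1 : fixErr Fi23M.nets [[1], [4], [5], [6], [7], [3], [8], [2], [9]] [0] = 0 := by decide +kernel
theorem lo1 : orbErr Fi23M.nets [[1], [4], [5], [6], [7], [3], [8], [2], [9]] [4, 3, 2, 1, 5, 6, 7, 8, 1, 0, 2, 5, 3, 6, 1, 4, 2, 6, 7, 5, 8, 1, 3, 7, 0, 6, 4, 2, 5, 1, 8, 3, 7, 5, 6, 2, 4, 7, 0, 1, 3, 5, 6, 2, 7, 8, 0, 1, 3, 2, 5, 7, 3, 4] 1 15 28160 = 0 := by decide +kernel
theorem lf2 : fixErr Fi23M.nets [[1], [2], [3], [4], [5], [6], [8], [9]] [1, 0] = 0 := by decide +kernel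
theorem lo2 : orbErr Fi23M.nets [[1], [2], [3], [4], [5], [6], [8], [9]] [0, 1, 3, 4, 6, 2, 5, 7, 3, 0, 4, 6, 3, 2, 1, 5, 7, 6, 4, 3, 2, 0, 4, 6, 7, 5, 1, 3, 0, 4, 6, 2, 1, 5] 227 15 21840 = 0 := by decide +kernel
theorem lf3 : fixErr Fi23M.nets [[3], [6, 5, 6], [9, 8, 9], [8, 5, 4, 5, 8], [9, 4, 2, 3, 8, 4], [1, 2, 3, 4, 8, 9, 6, 4, 5, 3, 4, 8, 6, 5, 2, 3, 2, 4, 3, 2, 5, 6, 9, 8, 4, 3, 2, 1, 5, 4]] [227, 1, 0] = 0 := by decide +kernel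
theorem lo3 : orbErr Fi23M.nets [[3], [6, 5, 6], [9, 8, 9], [8, 5, 4, 5, 8], [9, 4, 2, 3, 8, 4], [1, 2, 3, 4, 8, 9, 6, 4, 5, 3, 4, 8, 6, 5, 2, 3, 2, 4, 3, 2, 5, 6, 9, 8, 4, 3, 2, 1, 5, 4]] [0, 1, 2, 3, 0, 4, 1, 2, 3, 0, 4, 1, 4, 0, 3, 0, 4, 0, 2, 5, 4] 583 15 7776 = 0 := by decide +kernel
theorem lf4 : fixErr Fi23M.nets [[9, 8, 4, 5, 3, 4, 8, 9, 4, 8, 6, 3, 4, 3, 5, 4, 3, 6, 5, 8, 4, 3, 5, 6], [4, 8, 5, 6, 4, 5, 2, 3, 4, 8, 9, 8, 5, 6, 5, 2, 3, 2, 4, 3, 5, 4, 6, 8, 4, 3, 2, 5, 4, 3, 6, 5], [4, 5, 6, 3, 4, 5, 1, 2, 3, 4, 8, 9, 4, 8, 5, 6, 2, 3, 2, 4, 3, 2, 5, 6, 8, 4, 3, 2, 1, 5, 4, 3, 6, 8]] [583, 227, 1, 0] = 0 := by decide +kernel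
theorem lo4 : orbErr Fi23M.nets [[9, 8, 4, 5, 3, 4, 8, 9, 4, 8, 6, 3, 4, 3, 5, 4, 3, 6, 5, 8, 4, 3, 5, 6], [4, 8, 5, 6, 4, 5, 2, 3, 4, 8, 9, 8, 5, 6, 5, 2, 3, 2, 4, 3, 5, 4, 6, 8, 4, 3, 2, 5, 4, 3, 6, 5], [4, 5, 6, 3, 4, 5, 1, 2, 3, 4, 8, 9, 4, 8, 5, 6, 2, 3, 2, 4, 3, 2, 5, 6, 8, 4, 3, 2, 1, 5, 4, 3, 6, 8]] [0, 1, 2, 0, 1, 2] 2 15 27 = 0 := by decide +kernel

theorem card_ge : 4089470473293004800 ≤ Nat.card ((⊤ : Subgroup Spor.Fi23).map M.φ) :=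
  have := finite
  (show 31671 * (28160 * (21840 * (7776 * (27 * (1))))) ≤ Nat.card ((M.fixK ⊤ []).map M.φ) from (M.lev_step (fun _ _ => trivial) lf0 lo0
    (M.lev_step (fun _ _ => trivial) lf1 lo1
    (M.lev_step (fun _ _ => trivial) lf2 lo2
    (M.lev_step (fun _ _ => trivial) lf3 lo3
    (M.lev_step (fun _ _ => trivial) lf4 lo4
    (M.chain_base _)))))))

theorem card_eq : Nat.card Spor.Fi23 = 4089470473293004800 :=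
  have := finite
  (M.card_eq_of_bounds card_le.2 card_ge).1

/-- the action is faithful -/
theorem inj : Function.Injective M.φ :=
  have := finite
  (M.card_eq_of_bounds card_le.2 card_ge).2

theorem trans : 31671 ≤ (M.orb ⊤ 0).ncard :=
  M.le_ncard_orb (K := ⊤) (fun _ _ => trivial) lo0 (M.orb_finite hgen _ _)

theorem H_clW : H = clW el [[1], [2], [3], [4], [5], [6], [7], [8], [9]] := clL_eq_clW el _

theorem fixH : fixErr Fi23M.nets [[1], [2], [3], [4], [5], [6], [7], [8], [9]] [0] = 0 := by decide +kernel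

theorem index_H : H.index = 31671 ∧ H = M.St 0 :=
  M.index_eq (H_clW ▸ M.mem_St_of fixH) relIndex_H trans

theorem card_H : Nat.card H = 129123503308800 :=
  card_of_index index_H.1 card_eq (by norm_num) (by norm_num)

def col : List (List ℕ × ℕ × List ℕ × List ℕ) := [([10], 1, [6, 5, 4, 3, 2, 7, 1, 8, 3, 0, 4, 2, 5, 7, 3, 6, 1, 4, 7, 2, 8, 3, 5, 1, 0, 7, 6, 4, 2, 3, 8, 5, 1, 2, 7, 4, 6, 1, 0, 3, 5, 2, 7, 4, 1, 8, 0, 3, 5, 4, 2, 1, 5, 6], [0, 7, 6, 5, 4, 3, 8, 2, 9, 4, 1, 5, 3, 6, 8, 4, 7, 0, 5, 8, 2, 3, 9, 6, 4, 2, 7, 8, 5, 3, 1, 0, 4, 9, 6, 2, 7, 3, 8, 5, 2, 4, 1, 9, 3, 2, 5, 6, 1, 8, 4, 3, 7, 4, 2]),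
  ([10, 7, 6, 5, 4, 8, 3, 4, 5, 6, 7, 10], 466, [1, 8, 0, 2, 7, 3, 4, 7, 1, 2, 5, 3, 8, 6, 1, 7, 4, 2, 0, 3, 5, 8, 4, 7, 2, 1, 6, 3, 2, 0, 4, 1, 5, 7], [0, 2, 9, 1, 3, 8, 4, 5, 8, 2, 3, 6, 4, 9, 7, 2, 8, 5, 3, 1, 4, 6, 9, 5, 8, 3, 2, 0, 9, 2, 1, 3, 8, 4, 5, 8, 3, 2, 4, 6, 5, 6, 7])]
theorem co1 : genErr Fi23M.nets [[1], [2], [3], [4], [5], [6], [7], [8], [9]] 0 (Nat.pred (Nat.pow 2 31671)) col = 0 := by decide +kernel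
theorem co2 : covM Fi23M.nets [[1], [2], [3], [4], [5], [6], [7], [8], [9]] 0 col = Nat.pred (Nat.pow 2 31671) := by decide +kernel
theorem mv : appW Fi23M.nets [10] (Nat.pow 2 1) = Nat.pow 2 0 := by decide +kernel

theorem coatom : IsCoatom (M.St 0) :=
  M.isCoatom_of hgen (by decide) (M.St_ne_top mv (by decide)) fixH co1 co2

def pup : List (List ℕ × List ℕ) := [([8, 10, 2, 1, 4, 7, 5, 3, 6, 8, 10, 2, 1, 4, 7, 5, 3, 6, 8, 10, 2, 1, 4, 7, 5, 3, 6, 8, 10, 2, 1, 4, 7, 5, 3, 6, 8, 10, 2, 1, 4, 7, 5, 3, 6, 8, 10, 2, 1, 4, 7, 5, 3, 6, 8, 10, 2, 1, 4, 7, 5, 3, 6, 8, 10, 2, 1, 4, 7, 5, 3, 6, 8, 10, 2, 1, 4, 7, 5, 3, 6], [6, 3, 5, 7, 4, 1, 2, 10, 8, 6, 3, 5, 7, 4, 1, 2, 10, 8, 6, 3, 5, 7, 4, 1, 2, 10, 8, 6, 3, 5, 7, 4, 1, 2, 10, 8, 6, 3, 5, 7, 4, 1, 2, 10, 8, 6, 3, 5, 7, 4, 1, 2, 10, 8, 6, 3, 5, 7, 4, 1, 2, 10, 8, 6, 3, 5, 7, 4, 1, 2,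 10, 8])]
theorem pu0 : eqsAt Fi23M.nets 31671 15 pup 0 = 0 := by decide +kernel
theorem pu1 : eqsAt Fi23M.nets 31671 15 pup 1 = 0 := by decide +kernel
theorem pu2 : eqsAt Fi23M.nets 31671 15 pup 2 = 0 := by decide +kernel
theorem pu3 : eqsAt Fi23M.nets 31671 15 pup 3 = 0 := by decide +kernel
theorem pu4 : eqsAt Fi23M.nets 31671 15 pup 4 = 0 := by decide +kernel
theorem pu5 : eqsAt Fi23M.nets 31671 15 pup 5 = 0 := by decide +kernel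
theorem pu6 : eqsAt Fi23M.nets 31671 15 pup 6 = 0 := by decide +kernel
theorem pu7 : eqsAt Fi23M.nets 31671 15 pup 7 = 0 := by decide +kernel
theorem pu8 : eqsAt Fi23M.nets 31671 15 pup 8 = 0 := by decide +kernel
theorem pu9 : eqsAt Fi23M.nets 31671 15 pup 9 = 0 := by decide +kernel
theorem pu10 : eqsAt Fi23M.nets 31671 15 pup 10 = 0 := by decide +kernel
theorem pu11 : eqsAt Fi23M.nets 31671 15 pup 11 = 0 := by decide +kernel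
theorem pu12 : eqsAt Fi23M.nets 31671 15 pup 12 = 0 := by decide +kernel
theorem pu13 : eqsAt Fi23M.nets 31671 15 pup 13 = 0 := by decide +kernel
theorem pu14 : eqsAt Fi23M.nets 31671 15 pup 14 = 0 := by decide +kernel
theorem pua : ∀ t < 15, eqsAt Fi23M.nets 31671 15 pup t = 0 := (blocks_cons (blocks_cons (blocks_cons (blocks_cons (blocks_cons (blocks_cons (blocks_cons (blocks_cons (blocks_cons (blocks_cons (blocks_cons (blocks_cons (blocks_cons (blocks_cons (blocks_cons (blocks_nil _) pu0) pu1) pu2) pu3) pu4) pu5) pu6) pu7) pu8) pu9) pu10) pu11) pu12) pu13) pu14)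

theorem u_pow : wv el [8, 10, 2, 1, 4, 7, 5, 3, 6] ^ 17 = 1 :=
  wv_pow_eq_one R _ 9 8 (M.wv_eq inj (by decide) pua _ List.mem_cons_self) (by decide +kernel)

theorem normal_top (N : Subgroup Spor.Fi23) (hN : N.Normal) (h : wv el [8, 10, 2, 1, 4, 7, 5, 3, 6] ∈ N) : N = ⊤ := by
  have Q := R.quot N _ (by decide) h
  have h1 : ∀ x ∈ ([1, 2, 3, 4, 5, 6, 7, 8, 9, 10] : List ℕ), el x ∈ N := (forall_cons (mem_of_quot_bot N (Fi23U.goal1 Q ⊥ (forall_nil _))) (forall_cons (mem_of_quot_bot N (Fi23U.goal2 Q ⊥ (forall_nil _))) (forall_cons (mem_of_quot_bot N (Fi23U.goal3 Q ⊥ (forall_nil _))) (forall_cons (mem_of_quot_bot N (Fi23U.goal4 Q ⊥ (forall_nil _))) (forall_cons (mem_of_quot_bot N (Fi23U.goal5 Q ⊥ (forall_nil _))) (forall_cons (mem_of_quot_bot N (Fi23U.goal6 Q ⊥ (forall_nil _))) (forall_cons (mem_of_quot_bot N (Fi23U.goal7 Q ⊥ (forall_nil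 _))) (forall_cons (mem_of_quot_bot N (Fi23U.goal8 Q ⊥ (forall_nil _))) (forall_cons (mem_of_quot_bot N (Fi23U.goal9 Q ⊥ (forall_nil _))) (forall_cons (mem_of_quot_bot N (Fi23U.goal10 Q ⊥ (forall_nil _))) (forall_nil' _)))))))))))
  exact eq_top _ h1

theorem simple : IsSimpleGroup Spor.Fi23 :=
  have := finite
  M.simple_of hgen inj (by decide) trans coatom (q := 17) (k := 1) (by norm_num) (by decide)
    (by rw [card_eq]; norm_num) _ u_pow normal_top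

theorem ob28160_1 : orbEqErr Fi23M.nets [[1], [2], [3], [4], [5], [6], [7], [8], [9]] [6, 5, 4, 3, 2, 7, 1, 8, 3, 0, 4, 2, 5, 7, 3, 6, 1, 4, 7, 2, 8, 3, 5, 1, 0, 7, 6, 4, 2, 3, 8, 5, 1, 2, 7, 4, 6, 1, 0, 3, 5, 2, 7, 4, 1, 8, 0, 3, 5, 4, 2, 1, 5, 6] 1 15 28160 = 0 := by decide +kernel
theorem mv28160_1 : appW Fi23M.nets [10] (Nat.pow 2 1) = Nat.pow 2 0 := by decide +kernel
theorem orbit28160_1 : (MulAction.orbit H ((wv el [10] : Spor.Fi23) : Spor.Fi23 ⧸ H)).ncard = 28160 := by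
  rw [M.ncard_orbit index_H.2, show M.φ (wv el [10]) 0 = 1 from M.apply_wv' mv28160_1, H_clW]
  exact M.ncard_orb_eq ob28160_1

theorem ob3510_466 : orbEqErr Fi23M.nets [[1], [2], [3], [4], [5], [6], [7], [8], [9]] [1, 8, 0, 2, 7, 3, 4, 7, 1, 2, 5, 3, 8, 6, 1, 7, 4, 2, 0, 3, 5, 8, 4, 7, 2, 1, 6, 3, 2, 0, 4, 1, 5, 7] 466 15 3510 = 0 := by decide +kernel
theorem mv3510_466 : appW Fi23M.nets [10, 7, 6, 5, 4, 8, 3, 4, 5, 6, 7, 10] (Nat.pow 2 466) = Nat.pow 2 0 := by decide +kernel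
theorem orbit3510_466 : (MulAction.orbit H ((wv el [10, 7, 6, 5, 4, 8, 3, 4, 5, 6, 7, 10] : Spor.Fi23) : Spor.Fi23 ⧸ H)).ncard = 3510 := by
  rw [M.ncard_orbit index_H.2, show M.φ (wv el [10, 7, 6, 5, 4, 8, 3, 4, 5, 6, 7, 10]) 0 = 466 from M.apply_wv' mv3510_466, H_clW]
  exact M.ncard_orb_eq ob3510_466

theorem H_stmt : (Subgroup.closure ({Spor.Fi23.a, Spor.Fi23.b, Spor.Fi23.c, Spor.Fi23.d, Spor.Fi23.e, Spor.Fi23.f, Spor.Fi23.g, Spor.Fi23.h, Spor.Fi23.i} :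
    Set (FreeGroup Spor.Fi23.Gen))).map π = H :=
  (map_closure_eq_clW π hc R.hinv _ [Spor.Fi23.a, Spor.Fi23.b, Spor.Fi23.c, Spor.Fi23.d, Spor.Fi23.e, Spor.Fi23.f, Spor.Fi23.g, Spor.Fi23.h, Spor.Fi23.i]
    (by ext; simp) (by decide +kernel)).trans H_clW.symm

end Cfsg.Agent.H58.Fi23P
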