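import Cfsg.Agent.H58.Util
import Cfsg.Prelude.Def_Spor_He
import Cfsg.Agent.H58.Util3
import Cfsg.Agent.H58.Mod.HeM
import Cfsg.Agent.H58.Cert.He1
import Cfsg.Agent.H58.Cert.He2
import Cfsg.Agent.H58.Cert.He3
import Cfsg.Agent.H58.Cert.He4
import Cfsg.Agent.H58.Cert.He5
import Cfsg.Agent.H58.Cert.He6

set_option autoImplicit false
set_option maxRecDepth 100000
set_option linter.constructorNameAsVariable false
set_option exponentiation.threshold 400000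

namespace Cfsg.Agent.H58.HeP

open Cfsg Cfsg.Agent.H58

def code : Spor.He.Gen → ℕ
  | .a => 1
  | .b => 2
  | .c => 3
  | .d => 4
  | .e => 5
  | .f => 6
  | .g => 7

def L : List (FreeGroup Spor.He.Gen) := [1, Spor.He.a, Spor.He.b, Spor.He.c, Spor.He.d, Spor.He.e, Spor.He.f, Spor.He.g]

def allG : List Spor.He.Gen := [.a, .b, .c, .d, .e, .f, .g]

theorem hall : ∀ g, g ∈ allG := by intro g; cases g <;> decide

def iv : ℕ := 31204079050816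

def rels : List (List ℕ) := [[1, 2, 1, 2, 1, 2, 1, 2],
  [1, 3, 1, 3],
  [1, 4, 1, 4],
  [1, 5, 1, 5],
  [1, 6, 1, 6],
  [1, 7, 1, 7],
  [2, 3, 2, 3, 2, 3],
  [2, 4, 2, 4],
  [2, 5, 2, 5],
  [2, 6, 2, 6],
  [2, 7, 2, 7],
  [3, 4, 3, 4, 3, 4, 3, 4, 3, 4, 3, 4, 3, 4, 3, 4, 3, 4, 3, 4],
  [3, 5, 3, 5],
  [3, 6, 3, 6],
  [3, 7, 3, 7],
  [4, 5, 4, 5, 4, 5],
  [4, 6, 4, 6, 4, 6],
  [4, 7, 4, 7, 4, 7],
  [5, 6, 5, 6],
  [5, 7, 5, 7],
  [6, 7, 6, 7, 6, 7, 6, 7],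
  [5, 7, 6, 7, 6],
  [5, 3, 2, 1, 3, 2, 1, 3, 2, 1],
  [1, 4, 3, 4, 3, 4, 3, 4, 3, 4, 3],
  [3, 4, 6, 7, 3, 4, 6, 7, 3, 4, 6, 7, 3, 4, 6, 7]]

theorem pres : presOK L (coxAll Spor.He.edges ++ Spor.He.extra) code iv allG rels = true := by
  decide +kernel

/-- the projection from the free group -/
abbrev π : FreeGroup Spor.He.Gen →* Spor.He :=
  PresentedGroup.mk (Spor.coxRelators Spor.He.edges ∪ {r | r ∈ Spor.He.extra})

/-- the letters: 1 = a, 2 = b, 3 = c, 4 = d, 5 = e, 6 = f, 7 = g -/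
def el : ℕ → Spor.He := elOf π L

theorem R : RuleOK el rels iv := ruleOK_of_presOK π hall (mk_allRels _ _) pres

theorem hc : ∀ g, el (code g) = π (FreeGroup.of g) ∧ code g < 64 := code_of_presOK π hall pres

theorem eq_top (K : Subgroup Spor.He) (h : ∀ x ∈ ([1, 2, 3, 4, 5, 6, 7] : List ℕ), el x ∈ K) : K = ⊤ :=
  closure_letters_eq_top hc K (by intro g; cases g <;> exact h _ (by decide))

theorem hgen : Subgroup.closure (Set.range el) = ⊤ :=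
  eq_top _ fun x _ => Subgroup.subset_closure ⟨x, rfl⟩

theorem homM : homOK L (coxAll Spor.He.edges ++ Spor.He.extra) code HeM.iv HeM.rels HeM.wit HeM.nets.length = true := by
  decide +kernel

/-- the action on 2058 points -/
noncomputable def M : Model Spor.He :=
  coxModel Spor.He.edges Spor.He.extra L HeM.nets 2058 HeM.netsOK HeM.ruleN (fun g => (hc g).2) homM

section
variable {G : Type*} [Group G] {e : ℕ → G} (Q : RuleOK e rels iv)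
include Q

theorem a_mem {K : Subgroup G} (h : ∀ x ∈ ([3, 4] : List ℕ), e x ∈ K) : e 1 ∈ K :=
  Q.mem_of_rule 47 0 (w := [4, 3, 4, 3, 4, 3, 4, 3, 4, 3]) (by decide +kernel)
    fun y hy => h y (by revert y; decide)

theorem e_mem {K : Subgroup G} (h : ∀ x ∈ ([6, 7] : List ℕ), e x ∈ K) : e 5 ∈ K :=
  Q.mem_of_rule 43 0 (w := [7, 6, 7, 6]) (by decide +kernel)
    fun y hy => h y (by revert y; decide)


theorem card_ace : Finite (clL e [1, 3, 5]) ∧ Nat.card (clL e [1, 3, 5]) ≤ 8 :=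
  card_step card_le_bot (He5.relIndex_le Q ⊥ (forall_nil _))

theorem card_cde : Finite (clL e [3, 4, 5]) ∧ Nat.card (clL e [3, 4, 5]) ≤ 120 :=
  card_step (card_ace Q) (He4.relIndex_le Q _ (mem_clL e [1, 3, 5] _ (by decide)))

theorem card_cdfg : Finite (clL e [3, 4, 6, 7]) ∧ Nat.card (clL e [3, 4, 6, 7]) ≤ 80640 :=
  card_step (card_cde Q) (He3.relIndex_le Q _
    (forall_cons (a_mem Q (mem_clL e _ _ (by decide))) (mem_clL e [3, 4, 5] _ (by decide))))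

end

theorem top_eq {K : Subgroup Spor.He} (h : ∀ x ∈ ([2, 3, 4, 6, 7] : List ℕ), el x ∈ K) : K = ⊤ :=
  eq_top _ (forall_cons (a_mem R fun x hx => h x (by revert x; decide))
    (forall_cons (h _ (by decide)) (forall_cons (h _ (by decide)) (forall_cons (h _ (by decide))
      (forall_cons (e_mem R fun x hx => h x (by revert x; decide))
        fun x hx => h x (by revert x; decide))))))

theorem card_le : Finite Spor.He ∧ Nat.card Spor.He ≤ 4030387200 :=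
  card_top_le (top_eq (mem_clL el [2, 3, 4, 6, 7] _ (by decide)))
    (card_step (card_cdfg R) (He2.relIndex_le R _
      (forall_cons (a_mem R (mem_clL el _ _ (by decide))) (forall_cons (mem_clL el _ [3] (by decide) _ (by decide))
        (forall_cons (mem_clL el _ [4] (by decide) _ (by decide))
          (forall_cons (e_mem R (mem_clL el _ _ (by decide))) (mem_clL el [3, 4, 6, 7] _ (by decide))))))))

theorem finite : Finite Spor.He := card_le.1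

theorem lf0 : fixErr HeM.nets [[1], [2], [3], [4], [5], [6], [7]] [] = 0 := by decide +kernel
theorem lo0 : orbErr HeM.nets [[1], [2], [3], [4], [5], [6], [7]] [1, 6, 2, 3, 2, 4, 5, 3, 1, 2, 6, 5, 3, 6, 4, 2, 3, 5, 1, 2, 3, 6, 1, 5] 0 12 2058 = 0 := by decide +kernel
theorem lf1 : fixErr HeM.nets [[3], [4], [5], [6], [7, 2, 3, 4, 3, 2, 7]] [0] = 0 := by decide +kernel
theorem lo1 : orbErr HeM.nets [[3], [4], [5], [6], [7, 2, 3, 4, 3, 2, 7]] [0, 1, 0, 2, 3, 1, 0, 3, 2, 1, 0, 4, 3, 1, 2, 0, 3, 1, 0, 2, 3, 1, 4, 1, 2] 1 12 1360 = 0 := by decide +kernel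
theorem lf2 : fixErr HeM.nets [[4], [5], [6], [3, 4, 2, 3, 4, 7, 3, 4, 3, 4, 3, 7, 4, 3, 2, 4, 3]] [1, 0] = 0 := by decide +kernel
theorem lo2 : orbErr HeM.nets [[4], [5], [6], [3, 4, 2, 3, 4, 7, 3, 4, 3, 4, 3, 7, 4, 3, 2, 4, 3]] [0, 1, 2, 0, 1, 2, 3, 0, 1, 2, 0, 3, 0, 1] 26 12 360 = 0 := by decide +kernel
theorem lf3 : fixErr HeM.nets [[1], [2, 1, 2, 5]] [26, 1, 0] = 0 := by decide +kernel
theorem lo3 : orbErr HeM.nets [[1], [2, 1, 2, 5]] [0, 1] 7 12 4 = 0 := by decide +kernel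

theorem card_ge : 4030387200 ≤ Nat.card ((⊤ : Subgroup Spor.He).map M.φ) :=
  have := finite
  (show 2058 * (1360 * (360 * (4 * (1)))) ≤ Nat.card ((M.fixK ⊤ []).map M.φ) from (M.lev_step (fun _ _ => trivial) lf0 lo0
    (M.lev_step (fun _ _ => trivial) lf1 lo1
    (M.lev_step (fun _ _ => trivial) lf2 lo2
    (M.lev_step (fun _ _ => trivial) lf3 lo3
    (M.chain_base _))))))

theorem card_eq : Nat.card Spor.He = 4030387200 :=
  have := finite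
  (M.card_eq_of_bounds card_le.2 card_ge).1

/-- the action is faithful -/
theorem inj : Function.Injective M.φ :=
  have := finite
  (M.card_eq_of_bounds card_le.2 card_ge).2

theorem trans : 2058 ≤ (M.orb ⊤ 0).ncard :=
  M.le_ncard_orb (K := ⊤) (fun _ _ => trivial) lo0 (M.orb_finite hgen _ _)

def x1ws : List (List ℕ) := [[1, 2, 1, 2], [2, 3, 4, 5, 2, 3, 4, 5, 2, 3, 4, 5, 2, 3, 4, 5, 2, 3, 4, 5, 2, 3, 4, 5, 2, 3, 4, 5], [5, 4, 3, 2, 5, 4, 3, 2, 5, 4, 3, 2, 5, 4, 3, 2, 5, 4, 3, 2, 5, 4, 3, 2, 5, 4, 3, 2], [0], [0], [0], [0], [0], [0], [0], [0], [0], [0], [0], [0], [0], [0], [0], [0], [0], [0], [0], [0], [0], [0], [0], [0], [0], [0], [0], [0], [0], [0], [0], [0], [0], [0], [0], [0], [0], [0], [0], [0], [0], [0], [0], [0], [0], [0], [0], [0], [0], [0], [0], [0], [0]]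

theorem x1ok : extOK rels iv 8 x1ws He1.rels He1.iv [(1, 0), (3, 0), (5, 0), (7, 0), (9, 0), (11, 0), (13, 0), (15, 0), (17, 0), (19, 0), (21, 0), (23, 0), (25, 0), (27, 0), (29, 0), (31, 0), (33, 0), (35, 0), (37, 0), (39, 0), (41, 0), (43, 0), (45, 0), (47, 0), (49, 0), (1, 0), (0, 0)]
    [(0, 0), (0, 0), (0, 0), (0, 0), (0, 0), (0, 0), (0, 0), (0, 0), (1, 0), (0, 0), (0, 0), (0, 0), (0, 0), (0, 0), (0, 0), (0, 0), (0, 0), (0, 0), (0, 0), (0, 0), (0, 0), (0, 0), (0, 0), (0, 0), (0, 0), (0, 0), (0, 0), (0, 0), (0, 0), (0, 0), (0, 0), (0, 0), (0, 0), (0, 0), (0, 0), (0, 0), (0, 0), (0, 0), (0, 0), (0, 0), (0, 0), (0, 0), (0, 0), (0, 0), (0, 0), (0, 0), (0, 0), (0, 0), (0, 0), (0, 0), (0, 0), (0, 0), (0, 0), (0, 0), (0, 0), (0, 0), (0, 0), (0, 0), (0, 0), (0, 0), (0, 0), (0, 0), (0, 0), (0, 0)] = true := by decide +kernel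

/-- the subgroup S4(4):2 -/
abbrev H : Subgroup Spor.He := clW el [[1], [3], [4], [5], [6], [1, 2, 1, 2], [2, 3, 4, 5, 2, 3, 4, 5, 2, 3, 4, 5, 2, 3, 4, 5, 2, 3, 4, 5, 2, 3, 4, 5, 2, 3, 4, 5]]

theorem H_clW : H = clW el [[1], [3], [4], [5], [6], [1, 2, 1, 2], [2, 3, 4, 5, 2, 3, 4, 5, 2, 3, 4, 5, 2, 3, 4, 5, 2, 3, 4, 5, 2, 3, 4, 5, 2, 3, 4, 5]] := rfl

theorem fixH : fixErr HeM.nets [[1], [3], [4], [5], [6], [1, 2, 1, 2], [2, 3, 4, 5, 2, 3, 4, 5, 2, 3, 4, 5, 2, 3, 4, 5, 2, 3, 4, 5, 2, 3, 4, 5, 2, 3, 4, 5]] [0] = 0 := by decide +kernel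

theorem relIndex_H : H.relIndex ⊤ ≠ 0 ∧ H.relIndex ⊤ ≤ 2058 :=
  relIndex_top_of (top_eq (el_mem_clL_elX el iv 8 x1ws [2, 3, 4, 6, 7] _ (by decide)))
    (He1.relIndex_le (R.extend x1ok) H (elX_mem_clW el iv 8 x1ws _ _ (by decide +kernel)))

theorem index_H : H.index = 2058 ∧ H = M.St 0 :=
  M.index_eq (M.mem_St_of fixH) relIndex_H trans

def col : List (List ℕ × ℕ × List ℕ × List ℕ) := [([2], 1, [1, 2, 1, 3, 4, 2, 1, 4, 3, 2, 1, 4, 2, 1, 6, 2, 4, 2, 1, 3, 2, 1, 4, 3, 2, 1, 6, 0], [0, 2, 3, 2, 4, 5, 3, 0, 2, 5, 4, 3, 0, 2, 4, 5, 3, 0, 2, 5, 4, 0, 3, 2, 5, 0, 3, 2, 0, 3, 5, 2, 4, 3, 2, 3, 5]),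
  ([7], 15, [2, 1, 3, 4, 2, 1, 3, 2, 6, 0, 4, 2, 1, 3, 2, 3, 1, 4, 2, 6], [0, 3, 2, 4, 5, 3, 0, 4, 3, 7, 1, 5, 0, 3, 2, 4, 0, 3, 5, 2, 0, 4, 3, 2, 7, 5, 0, 3]),
  ([7, 4, 3, 4, 3, 2], 44, [3, 4, 2, 1, 4, 2, 1, 4, 2, 3, 6, 0, 4, 2, 3, 1, 2, 1], [0, 1, 2, 4, 3, 2, 4, 5, 3, 0, 2, 4, 5, 3, 2, 5, 4, 0, 2, 3, 2, 4, 3, 5]),
  ([7, 4, 2, 3, 4, 7], 476, [0, 1, 3, 2, 1, 3, 4, 2, 1, 4, 3, 2, 1, 2, 6, 4], [0, 4, 5, 3, 2, 5, 3, 0, 4, 5, 2, 3, 2, 5, 4, 3, 4, 5, 2, 0, 5, 4, 3, 2])]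
theorem co1 : genErr HeM.nets [[1], [3], [4], [5], [6], [1, 2, 1, 2], [2, 3, 4, 5, 2, 3, 4, 5, 2, 3, 4, 5, 2, 3, 4, 5, 2, 3, 4, 5, 2, 3, 4, 5, 2, 3, 4, 5]] 0 (Nat.pred (Nat.pow 2 2058)) col = 0 := by decide +kernel
theorem co2 : covM HeM.nets [[1], [3], [4], [5], [6], [1, 2, 1, 2], [2, 3, 4, 5, 2, 3, 4, 5, 2, 3, 4, 5, 2, 3, 4, 5, 2, 3, 4, 5, 2, 3, 4, 5, 2, 3, 4, 5]] 0 col = Nat.pred (Nat.pow 2 2058) := by decide +kernel
theorem mv : appW HeM.nets [2] (Nat.pow 2 1) = Nat.pow 2 0 := by decide +kernel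

theorem coatom : IsCoatom (M.St 0) :=
  M.isCoatom_of hgen (by decide) (M.St_ne_top mv (by decide)) fixH co1 co2

def pup : List (List ℕ × List ℕ) := [([4, 6, 7, 4, 6, 7, 4, 6, 7, 4, 6, 7], [7, 6, 4, 7, 6, 4, 7, 6, 4])]
theorem pu0 : eqsAt HeM.nets 2058 12 pup 0 = 0 := by decide +kernel
theorem pu1 : eqsAt HeM.nets 2058 12 pup 1 = 0 := by decide +kernel
theorem pu2 : eqsAt HeM.nets 2058 12 pup 2 = 0 := by decide +kernel
theorem pu3 : eqsAt HeM.nets 2058 12 pup 3 = 0 := by decide +kernel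
theorem pu4 : eqsAt HeM.nets 2058 12 pup 4 = 0 := by decide +kernel
theorem pu5 : eqsAt HeM.nets 2058 12 pup 5 = 0 := by decide +kernel
theorem pu6 : eqsAt HeM.nets 2058 12 pup 6 = 0 := by decide +kernel
theorem pu7 : eqsAt HeM.nets 2058 12 pup 7 = 0 := by decide +kernel
theorem pu8 : eqsAt HeM.nets 2058 12 pup 8 = 0 := by decide +kernel
theorem pu9 : eqsAt HeM.nets 2058 12 pup 9 = 0 := by decide +kernel
theorem pu10 : eqsAt HeM.nets 2058 12 pup 10 = 0 := by decide +kernel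
theorem pu11 : eqsAt HeM.nets 2058 12 pup 11 = 0 := by decide +kernel
theorem pua : ∀ t < 12, eqsAt HeM.nets 2058 12 pup t = 0 := (blocks_cons (blocks_cons (blocks_cons (blocks_cons (blocks_cons (blocks_cons (blocks_cons (blocks_cons (blocks_cons (blocks_cons (blocks_cons (blocks_cons (blocks_nil _) pu0) pu1) pu2) pu3) pu4) pu5) pu6) pu7) pu8) pu9) pu10) pu11)

theorem u_pow : wv el [4, 6, 7] ^ 7 = 1 :=
  wv_pow_eq_one R _ 4 3 (M.wv_eq inj (by decide) pua _ List.mem_cons_self) (by decide +kernel)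

theorem normal_top (N : Subgroup Spor.He) (hN : N.Normal) (h : wv el [4, 6, 7] ∈ N) : N = ⊤ := by
  have Q := R.quot N _ (by decide) h
  have h1 : ∀ x ∈ ([1, 2, 3, 4, 5, 6, 7] : List ℕ), el x ∈ N := (forall_cons (mem_of_quot_bot N (He6.goal1 Q ⊥ (forall_nil _))) (forall_cons (mem_of_quot_bot N (He6.goal2 Q ⊥ (forall_nil _))) (forall_cons (mem_of_quot_bot N (He6.goal3 Q ⊥ (forall_nil _))) (forall_cons (mem_of_quot_bot N (He6.goal4 Q ⊥ (forall_nil _))) (forall_cons (mem_of_quot_bot N (He6.goal5 Q ⊥ (forall_nil _))) (forall_cons (mem_of_quot_bot N (He6.goal6 Q ⊥ (forall_nil _))) (forall_cons (mem_of_quot_bot N (He6.goal7 Q ⊥ (forall_nil _))) (forall_nil' _))))))))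
  exact eq_top _ h1

theorem simple : IsSimpleGroup Spor.He :=
  have := finite
  M.simple_of hgen inj (by decide) trans coatom (q := 7) (k := 3) (by norm_num) (by decide)
    (by rw [card_eq]; norm_num) _ u_pow normal_top

theorem ob1360_1 : orbEqErr HeM.nets [[1], [3], [4], [5], [6], [1, 2, 1, 2], [2, 3, 4, 5, 2, 3, 4, 5, 2, 3, 4, 5, 2, 3, 4, 5, 2, 3, 4, 5, 2, 3, 4, 5, 2, 3, 4, 5]] [1, 2, 1, 3, 4, 2, 1, 4, 3, 2, 1, 4, 2, 1, 6, 2, 4, 2, 1, 3, 2, 1, 4, 3, 2, 1, 6, 0] 1 12 1360 = 0 := by decide +kernel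
theorem mv1360_1 : appW HeM.nets [2] (Nat.pow 2 1) = Nat.pow 2 0 := by decide +kernel
theorem orbit1360_1 : (MulAction.orbit H ((wv el [2] : Spor.He) : Spor.He ⧸ H)).ncard = 1360 := by
  rw [M.ncard_orbit index_H.2, show M.φ (wv el [2]) 0 = 1 from M.apply_wv' mv1360_1, H_clW]
  exact M.ncard_orb_eq ob1360_1

theorem ob425_5 : orbEqErr HeM.nets [[1], [3], [4], [5], [6], [1, 2, 1, 2], [2, 3, 4, 5, 2, 3, 4, 5, 2, 3, 4, 5, 2, 3, 4, 5, 2, 3, 4, 5, 2, 3, 4, 5, 2, 3, 4, 5]] [0, 2, 4, 1, 2, 3, 1, 2, 1, 3, 4, 2, 1, 4, 2, 4, 1, 6, 4, 2] 5 12 425 = 0 := by decide +kernel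
theorem mv425_5 : appW HeM.nets [2, 3, 4, 3, 2] (Nat.pow 2 5) = Nat.pow 2 0 := by decide +kernel
theorem orbit425_5 : (MulAction.orbit H ((wv el [2, 3, 4, 3, 2] : Spor.He) : Spor.He ⧸ H)).ncard = 425 := by
  rw [M.ncard_orbit index_H.2, show M.φ (wv el [2, 3, 4, 3, 2]) 0 = 5 from M.apply_wv' mv425_5, H_clW]
  exact M.ncard_orb_eq ob425_5

theorem ob136_36 : orbEqErr HeM.nets [[1], [3], [4], [5], [6], [1, 2, 1, 2], [2, 3, 4, 5, 2, 3, 4, 5, 2, 3, 4, 5, 2, 3, 4, 5, 2, 3, 4, 5, 2, 3, 4, 5, 2, 3, 4, 5]] [1, 4, 2, 1, 3, 4, 2, 4, 1, 2, 3, 6, 0, 4, 2, 3, 1, 2, 1] 36 12 136 = 0 := by decide +kernel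
theorem mv136_36 : appW HeM.nets [7, 4, 5, 4, 3, 4, 3, 2] (Nat.pow 2 36) = Nat.pow 2 0 := by decide +kernel
theorem orbit136_36 : (MulAction.orbit H ((wv el [7, 4, 5, 4, 3, 4, 3, 2] : Spor.He) : Spor.He ⧸ H)).ncard = 136 := by
  rw [M.ncard_orbit index_H.2, show M.φ (wv el [7, 4, 5, 4, 3, 4, 3, 2]) 0 = 36 from M.apply_wv' mv136_36, H_clW]
  exact M.ncard_orb_eq ob136_36

theorem ob136_209 : orbEqErr HeM.nets [[1], [3], [4], [5], [6], [1, 2, 1, 2], [2, 3, 4, 5, 2, 3, 4, 5, 2, 3, 4, 5, 2, 3, 4, 5, 2, 3, 4, 5, 2, 3, 4, 5, 2, 3, 4, 5]] [1, 3, 2, 4, 3, 2, 6, 0, 4, 2, 1, 3, 2, 1, 2] 209 12 136 = 0 := by decide +kernel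
theorem mv136_209 : appW HeM.nets [7, 3, 4, 2, 3, 4, 6, 5, 4, 3, 2] (Nat.pow 2 209) = Nat.pow 2 0 := by decide +kernel
theorem orbit136_209 : (MulAction.orbit H ((wv el [7, 3, 4, 2, 3, 4, 6, 5, 4, 3, 2] : Spor.He) : Spor.He ⧸ H)).ncard = 136 := by
  rw [M.ncard_orbit index_H.2, show M.φ (wv el [7, 3, 4, 2, 3, 4, 6, 5, 4, 3, 2]) 0 = 209 from M.apply_wv' mv136_209, H_clW]
  exact M.ncard_orb_eq ob136_209

theorem kp : keepErr HeM.nets [[1], [3], [4], [5], [6], [1, 2, 1, 2], [2, 3, 4, 5, 2, 3, 4, 5, 2, 3, 4, 5, 2, 3, 4, 5, 2, 3, 4, 5, 2, 3, 4, 5, 2, 3, 4, 5]] 439300471531403397321526861129127730702461102913458339716939814237724594911393358972854799573911636207215129765695581509404466027476849293816133836971280254431993419262027842698685833521543304849397221285017521117112626484092159775569988551616933267555736470014343089661545272318528097488463487902145177096026833415448429641456902209671491479298931055022108212457842388938164000801927125805396452044665191308315642185720042350329753776753845313529364426805078386441542540543885671675240888775676516110595975995848121507879963549405487306244388607472380463888754896742815809552720081128488283838018938279765749484486656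 = 0 := by decide +kernel
theorem orbit_ne : MulAction.orbit H ((wv el [7, 4, 5, 4, 3, 4, 3, 2] : Spor.He) : Spor.He ⧸ H) ≠
    MulAction.orbit H ((wv el [7, 3, 4, 2, 3, 4, 6, 5, 4, 3, 2] : Spor.He) : Spor.He ⧸ H) := by
  refine M.orbit_ne index_H.2 _ _ ?_
  rw [show M.φ (wv el [7, 4, 5, 4, 3, 4, 3, 2]) 0 = 36 from M.apply_wv' mv136_36, show M.φ (wv el [7, 3, 4, 2, 3, 4, 6, 5, 4, 3, 2]) 0 = 209 from M.apply_wv' mv136_209]
  exact M.orb_ne_of kp (by decide +kernel) (by decide +kernel)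

theorem H_stmt : (Subgroup.closure ({Spor.He.a, Spor.He.c, Spor.He.d, Spor.He.e, Spor.He.f, (Spor.He.a * Spor.He.b) ^ 2, (Spor.He.b * Spor.He.c * Spor.He.d * Spor.He.e) ^ 7} :
    Set (FreeGroup Spor.He.Gen))).map π = H :=
  (map_closure_eq_clW π hc R.hinv _ [Spor.He.a, Spor.He.c, Spor.He.d, Spor.He.e, Spor.He.f, (Spor.He.a * Spor.He.b) ^ 2, (Spor.He.b * Spor.He.c * Spor.He.d * Spor.He.e) ^ 7]
    (by ext; simp) (by decide +kernel)).trans H_clW.symm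

end Cfsg.Agent.H58.HeP
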