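import Cfsg.Agent.H58.Fi24P2
import Cfsg.Agent.H58.Mod.F24Z

set_option autoImplicit false
set_option Elab.async false
set_option maxRecDepth 100000
set_option linter.constructorNameAsVariable false
set_option exponentiation.threshold 400000

namespace Cfsg.Agent.H58.Fi24P

open Cfsg Cfsg.Agent.H58

def col : List (List ℕ × ℕ × List ℕ × List ℕ) := [([11], 1, [0, 10, 1, 2, 3, 4, 7, 5, 8, 3, 6, 2, 4, 9, 1, 7, 3, 0, 5, 2, 4, 7, 1, 3, 5, 6, 8, 0, 7, 2, 4, 8, 3, 1, 5, 4, 9, 7, 2, 0, 3, 5, 6, 7, 2, 8, 1, 4, 3, 5, 0, 2, 4, 7, 6, 3, 5, 9, 4, 1, 5], [0, 1, 11, 2, 0, 3, 4, 1, 5, 8, 6, 9, 4, 7, 3, 2, 5, 10, 8, 4, 6, 3, 5, 8, 9, 4, 6, 7, 2, 1, 8, 3, 5, 6, 2, 0, 9, 4, 5, 3, 8, 4, 1, 10, 8, 3, 2, 9, 6, 7, 1, 5, 6, 4, 3, 5, 0, 7, 4, 6, 2, 5, 1, 2, 7, 10]),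
  ([11, 12, 1, 11], 8, [1, 0, 2, 3, 1, 4, 7, 5, 8, 3, 2, 6, 9, 4, 7, 3, 5, 1, 4, 2, 7, 8, 3, 1, 5, 6, 0, 7, 2, 4, 5, 8, 3, 4, 9, 1, 6, 3, 2, 7, 0, 1, 3, 0, 2, 4, 7, 1, 3, 0, 5, 4, 2, 6, 1, 9], [0, 2, 1, 3, 4, 0, 2, 5, 8, 6, 9, 4, 3, 7, 5, 10, 8, 4, 2, 6, 8, 3, 5, 9, 4, 6, 7, 2, 1, 8, 3, 5, 6, 2, 4, 9, 5, 3, 8, 4, 1, 6, 7, 10, 8, 3, 2, 9, 5, 6, 4, 5, 7, 1, 3, 8, 4, 6, 5, 2, 10, 6, 7, 10])]
theorem co1 : genErr F24M.nets [[1], [2], [3], [4], [5], [6], [7], [8], [9], [10], [12]] 0 (Nat.pred (Nat.pow 2 306936)) col = 0 := by decide +kernel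
theorem co2 : covM F24M.nets [[1], [2], [3], [4], [5], [6], [7], [8], [9], [10], [12]] 0 col = Nat.pred (Nat.pow 2 306936) := by decide +kernel
theorem mv : appW F24M.nets [11] (Nat.pow 2 1) = Nat.pow 2 0 := by decide +kernel

theorem coatom : IsCoatom (M.St 0) :=
  M.isCoatom_of hgen (by decide) (M.St_ne_top mv (by decide)) fixH co1 co2

theorem u_pow : wv el [1, 5, 11, 1, 9, 4, 11, 8, 3, 5, 6, 5, 7, 9, 10, 2, 4, 6, 7, 3, 10, 9, 8, 2] ^ 29 = 1 :=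
  inj (by rw [map_pow, map_one]; exact (congrArg (· ^ 29) (M.φ_wv _)).trans F24Z.pw)

def xuws : List (List ℕ) := [[1, 2], [2, 1], [1, 3], [3, 1], [1, 4], [4, 1], [1, 5], [5, 1], [1, 6], [6, 1], [1, 7], [7, 1], [1, 8], [8, 1], [1, 9], [9, 1], [1, 10], [10, 1], [1, 11], [11, 1], [1, 12], [12, 1], [0], [0], [0], [0], [0], [0], [0], [0], [0], [0], [0], [0], [0], [0], [0], [0], [0], [0], [0], [0], [0], [0], [0], [0], [0], [0], [0], [0], [0]]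

theorem xuok : extOK (rels ++ [[1, 5, 11, 1, 9, 4, 11, 8, 3, 5, 6, 5, 7, 9, 10, 2, 4, 6, 7, 3, 10, 9, 8, 2]]) iv 13 xuws F24U.rels F24U.iv [(1, 0), (3, 0), (5, 0), (7, 0), (9, 0), (11, 0), (13, 0), (15, 0), (17, 0), (19, 0), (21, 0), (23, 0), (25, 0), (27, 0), (29, 0), (31, 0), (33, 0), (35, 0), (37, 0), (39, 0), (41, 0), (43, 0), (45, 0), (47, 0), (49, 0), (51, 0), (53, 0), (55, 0), (57, 0), (59, 0), (61, 0), (63, 0), (65, 0), (67, 0), (69, 0), (71, 0), (73, 0), (75, 0), (77, 0), (79, 0), (81, 0), (83, 0), (85, 0), (87, 0), (89, 0), (91, 0), (93, 0), (95, 0), (97, 0), (99, 0), (101, 0), (103, 0), (105, 0), (107, 0), (109, 0), (111, 0), (113, 0), (115, 0), (117, 0), (119, 0), (121, 0), (123, 0), (125, 0), (127, 0), (129, 0), (131, 0), (133, 0), (135, 0), (137, 0), (0, 0), (0, 0), (0, 0), (0, 0), (0, 0), (0, 0), (0, 0), (0, 0), (0, 0), (0, 0), (0, 0)]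
    [(0, 0), (0, 0), (0, 0), (0, 0), (0, 0), (0, 0), (0, 0), (0, 0), (0, 0), (0, 0), (0, 0), (0, 0), (0, 0), (0, 0), (0, 0), (0, 0), (0, 0), (0, 0), (0, 0), (0, 0), (0, 0), (0, 0), (0, 0), (0, 0), (0, 0), (0, 0), (0, 0), (0, 0), (0, 0), (0, 0), (0, 0), (0, 0), (0, 0), (0, 0), (0, 0), (0, 0), (0, 0), (0, 0), (0, 0), (0, 0), (0, 0), (0, 0), (0, 0), (0, 0), (0, 0), (0, 0), (0, 0), (0, 0), (0, 0), (0, 0), (0, 0), (0, 0), (0, 0), (0, 0), (0, 0), (0, 0), (0, 0), (0, 0), (0, 0), (0, 0), (0, 0), (0, 0), (0, 0), (0, 0)] = true := by decide +kernel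

theorem commutator_le (N : Subgroup Spor.Fi24) (hN : N.Normal) (hne : N ≠ ⊥) :
    commutator Spor.Fi24 ≤ N := by
  have := finite
  have hu : wv el [1, 5, 11, 1, 9, 4, 11, 8, 3, 5, 6, 5, 7, 9, 10, 2, 4, 6, 7, 3, 10, 9, 8, 2] ∈ N :=
    mem_normal_of_coatom coatom (M.core_free hgen inj (by decide) trans) (p := 29) (k := 1)
      (by norm_num) (by rw [M.index_St hgen (by decide) trans]; decide)
      (by rw [card_eq]; norm_num) _ u_pow N hN hne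
  have Q := (R.quot N _ (by decide) hu).extend xuok
  have h1 : ∀ x ∈ ([2, 3, 4, 5, 6, 7, 8, 9, 10, 11, 12] : List ℕ),
      wv (fun x => QuotientGroup.mk' N (el x)) [1, x] = 1 := (forall_cons (wv_eq_one_of_elX (F24U.goal13 Q ⊥ (forall_nil _)) (by decide +kernel)) (forall_cons (wv_eq_one_of_elX (F24U.goal15 Q ⊥ (forall_nil _)) (by decide +kernel)) (forall_cons (wv_eq_one_of_elX (F24U.goal17 Q ⊥ (forall_nil _)) (by decide +kernel)) (forall_cons (wv_eq_one_of_elX (F24U.goal19 Q ⊥ (forall_nil _)) (by decide +kernel)) (forall_cons (wv_eq_one_of_elX (F24U.goal21 Q ⊥ (forall_nil _)) (by decide +kernel)) (forall_cons (wv_eq_one_of_elX (F24U.goal23 Q ⊥ (forall_nil _)) (by decide +kernel)) (forall_cons (wv_eq_one_of_elX (F24U.goal25 Q ⊥ (forall_nil _)) (by decide +kernel)) (forall_cons (wv_eq_one_of_elX (F24U.goal27 Q ⊥ (forall_nil _)) (by decide +kernel)) (forall_cons (wv_eq_one_of_elX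 (F24U.goal29 Q ⊥ (forall_nil _)) (by decide +kernel)) (forall_cons (wv_eq_one_of_elX (F24U.goal31 Q ⊥ (forall_nil _)) (by decide +kernel)) (forall_cons (wv_eq_one_of_elX (F24U.goal33 Q ⊥ (forall_nil _)) (by decide +kernel)) (forall_nil' _))))))))))))
  have h2 : ∀ x ∈ ([1, 2, 3, 4, 5, 6, 7, 8, 9, 10, 11, 12] : List ℕ),
      el x ∈ (Subgroup.zpowers (QuotientGroup.mk' N (el 1))).comap (QuotientGroup.mk' N) := by
    refine forall_cons (Subgroup.mem_zpowers _) fun x hx => ?_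
    have h3 : QuotientGroup.mk' N (el 1) * QuotientGroup.mk' N (el x) = 1 := by
      simpa [wv] using h1 x hx
    rw [Subgroup.mem_comap, eq_inv_of_mul_eq_one_right h3]
    exact Subgroup.inv_mem _ (Subgroup.mem_zpowers _)
  have h3 := eq_top _ h2
  rw [commutator, Subgroup.commutator_le]
  intro a _ b _
  have ha : a ∈ (Subgroup.zpowers (QuotientGroup.mk' N (el 1))).comap (QuotientGroup.mk' N) :=
    h3 ▸ trivial
  have hb : b ∈ (Subgroup.zpowers (QuotientGroup.mk' N (el 1))).comap (QuotientGroup.mk' N) :=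
    h3 ▸ trivial
  obtain ⟨i, hi⟩ := ha
  obtain ⟨j, hj⟩ := hb
  rw [← QuotientGroup.eq_one_iff, ← QuotientGroup.mk'_apply, map_commutatorElement, ← hi, ← hj,
    commutatorElement_eq_one_iff_commute]
  exact Commute.zpow_zpow_self _ _ _

theorem simple_commutator : IsSimpleGroup (commutator Spor.Fi24) :=
  have := finite
  simple_of_index_two index_commutator commutator_le (by rw [card_commutator]; decide +kernel)

end Cfsg.Agent.H58.Fi24P
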