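import Cfsg.Agent.H58.Util
import Cfsg.Prelude.Def_Spor_Fi24
import Cfsg.Agent.H58.Util4

set_option autoImplicit false
set_option maxRecDepth 100000
set_option linter.constructorNameAsVariable false
set_option exponentiation.threshold 400000

namespace Cfsg.Agent.H58.Fi24P

open Cfsg Cfsg.Agent.H58

def code : Spor.Fi24.Gen → ℕ
  | .a => 1
  | .b => 2
  | .c => 3
  | .d => 4
  | .e => 5
  | .f => 6
  | .g => 7
  | .h => 8
  | .i => 9
  | .j => 10
  | .k => 11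
  | .l => 12

def L : List (FreeGroup Spor.Fi24.Gen) := [1, Spor.Fi24.a, Spor.Fi24.b, Spor.Fi24.c, Spor.Fi24.d, Spor.Fi24.e, Spor.Fi24.f, Spor.Fi24.g, Spor.Fi24.h, Spor.Fi24.i, Spor.Fi24.j, Spor.Fi24.k, Spor.Fi24.l]

def allG : List Spor.Fi24.Gen := [.a, .b, .c, .d, .e, .f, .g, .h, .i, .j, .k, .l]

theorem hall : ∀ g, g ∈ allG := by intro g; cases g <;> decide

def iv : ℕ := 57491748161315509379136

def rels : List (List ℕ) := [[1, 2, 1, 2, 1, 2],
  [1, 3, 1, 3],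
  [1, 4, 1, 4],
  [1, 5, 1, 5],
  [1, 6, 1, 6],
  [1, 7, 1, 7],
  [1, 8, 1, 8],
  [1, 9, 1, 9],
  [1, 10, 1, 10],
  [1, 11, 1, 11, 1, 11],
  [1, 12, 1, 12],
  [2, 3, 2, 3, 2, 3],
  [2, 4, 2, 4],
  [2, 5, 2, 5],
  [2, 6, 2, 6],
  [2, 7, 2, 7],
  [2, 8, 2, 8],
  [2, 9, 2, 9],
  [2, 10, 2, 10],
  [2, 11, 2, 11],
  [2, 12, 2, 12],
  [3, 4, 3, 4, 3, 4],
  [3, 5, 3, 5],
  [3, 6, 3, 6],
  [3, 7, 3, 7],
  [3, 8, 3, 8],
  [3, 9, 3, 9],
  [3, 10, 3, 10],
  [3, 11, 3, 11],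
  [3, 12, 3, 12],
  [4, 5, 4, 5, 4, 5],
  [4, 6, 4, 6],
  [4, 7, 4, 7],
  [4, 8, 4, 8, 4, 8],
  [4, 9, 4, 9],
  [4, 10, 4, 10],
  [4, 11, 4, 11],
  [4, 12, 4, 12],
  [5, 6, 5, 6, 5, 6],
  [5, 7, 5, 7],
  [5, 8, 5, 8],
  [5, 9, 5, 9],
  [5, 10, 5, 10],
  [5, 11, 5, 11],
  [5, 12, 5, 12],
  [6, 7, 6, 7, 6, 7],
  [6, 8, 6, 8],
  [6, 9, 6, 9],
  [6, 10, 6, 10],
  [6, 11, 6, 11],
  [6, 12, 6, 12],
  [7, 8, 7, 8],
  [7, 9, 7, 9],
  [7, 10, 7, 10, 7, 10],
  [7, 11, 7, 11],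
  [7, 12, 7, 12],
  [8, 9, 8, 9, 8, 9],
  [8, 10, 8, 10],
  [8, 11, 8, 11],
  [8, 12, 8, 12],
  [9, 10, 9, 10],
  [9, 11, 9, 11],
  [9, 12, 9, 12],
  [10, 11, 10, 11],
  [10, 12, 10, 12],
  [11, 12, 11, 12, 11, 12],
  [12, 8, 6, 5, 4, 3, 2, 1, 8, 6, 5, 4, 3, 2, 1, 8, 6, 5, 4, 3, 2, 1, 8, 6, 5, 4, 3, 2, 1, 8, 6, 5, 4, 3, 2, 1, 8, 6, 5, 4, 3, 2, 1, 8, 6, 5, 4, 3, 2, 1, 8, 6, 5, 4, 3, 2, 1, 8, 6, 5, 4, 3, 2, 1],
  [4, 3, 2, 1, 11, 12, 4, 5, 6, 7, 10, 4, 8, 9, 4, 3, 2, 1, 11, 12, 4, 5, 6, 7, 10, 4, 8, 9, 4, 3, 2, 1, 11, 12, 4, 5, 6, 7, 10, 4, 8, 9, 4, 3, 2, 1, 11, 12, 4, 5, 6, 7, 10, 4, 8, 9, 4, 3, 2, 1, 11, 12, 4, 5, 6, 7, 10, 4, 8, 9, 4, 3, 2, 1, 11, 12, 4, 5, 6, 7, 10, 4, 8, 9, 4, 3, 2, 1, 11, 12, 4, 5, 6, 7, 10, 4, 8, 9, 4, 3, 2, 1, 11, 12, 4, 5, 6, 7, 10, 4, 8, 9, 4, 3, 2, 1, 11, 12, 4, 5, 6, 7, 10, 4, 8, 9, 4, 3, 2, 1, 11, 12, 4, 5, 6, 7, 10, 4, 8, 9, 4, 3, 2, 1, 11, 12, 4, 5, 6, 7, 10, 4, 8, 9,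 4, 3, 2, 1, 11, 12, 4, 5, 6, 7, 10, 4, 8, 9, 4, 3, 2, 1, 11, 12, 4, 5, 6, 7, 10, 4, 8, 9, 4, 3, 2, 1, 11, 12, 4, 5, 6, 7, 10, 4, 8, 9, 4, 3, 2, 1, 11, 12, 4, 5, 6, 7, 10, 4, 8, 9, 4, 3, 2, 1, 11, 12, 4, 5, 6, 7, 10, 4, 8, 9, 4, 3, 2, 1, 11, 12, 4, 5, 6, 7, 10, 4, 8, 9]]

theorem pres : presOK L (coxAll Spor.Fi24.edges ++ Spor.Fi24.extra) code iv allG rels = true := by
  decide +kernel

/-- the projection from the free group -/
abbrev π : FreeGroup Spor.Fi24.Gen →* Spor.Fi24 :=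
  PresentedGroup.mk (Spor.coxRelators Spor.Fi24.edges ∪ {r | r ∈ Spor.Fi24.extra})

/-- the letters: 1 = a, 2 = b, 3 = c, 4 = d, 5 = e, 6 = f, 7 = g, 8 = h, 9 = i, 10 = j, 11 = k, 12 = l -/
def el : ℕ → Spor.Fi24 := elOf π L

theorem R : RuleOK el rels iv := ruleOK_of_presOK π hall (mk_allRels _ _) pres

theorem hc : ∀ g, el (code g) = π (FreeGroup.of g) ∧ code g < 64 := code_of_presOK π hall pres

theorem eq_top (K : Subgroup Spor.Fi24) (h : ∀ x ∈ ([1, 2, 3, 4, 5, 6, 7, 8, 9, 10, 11, 12] : List ℕ), el x ∈ K) : K = ⊤ :=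
  closure_letters_eq_top hc K (by intro g; cases g <;> exact h _ (by decide))

theorem hgen : Subgroup.closure (Set.range el) = ⊤ :=
  eq_top _ fun x _ => Subgroup.subset_closure ⟨x, rfl⟩

/-- the sign of a letter -/
def sg (x : ℕ) : ℤˣ := if 0 < x ∧ x < 13 then -1 else 1

theorem sgR : RuleOK sg rels iv :=
  ⟨by decide, by decide +kernel, by decide +kernel, by decide +kernel⟩

theorem homS : homOK L (coxAll Spor.Fi24.edges ++ Spor.Fi24.extra) code iv rels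
    [(0, 12), (131, 1), (21, 1), (41, 1), (59, 1), (75, 1), (89, 1), (119, 1), (101, 1), (111, 1), (129, 1), (125, 1), (131, 0), (0, 11), (19, 1), (39, 1), (57, 1), (73, 1), (87, 1), (117, 1), (99, 1), (109, 1), (127, 1), (123, 1), (21, 0), (19, 0), (0, 1), (1, 0), (3, 0), (5, 0), (7, 0), (13, 0), (9, 0), (11, 0), (17, 0), (15, 0), (41, 0), (39, 0), (1, 1), (0, 2), (23, 0), (25, 0), (27, 0), (33, 0), (29, 0), (31, 0), (37, 0), (35, 0), (59, 0), (57, 0), (3, 1), (23, 1), (0, 3), (43, 0), (45, 0), (51, 0), (47, 0), (49, 0), (55, 0), (53, 0), (75, 0), (73, 0), (5, 1), (25, 1), (43, 1), (0, 4), (61, 0), (67, 0), (63, 0), (65, 0), (71, 0), (69, 0), (89, 0), (87, 0), (7, 1), (27, 1), (45, 1), (61, 1), (0, 5), (81, 0), (77, 0), (79, 0), (85, 0), (83, 0), (119, 0), (117, 0), (13, 1), (33, 1), (51, 1), (67, 1), (81, 1), (0, 8), (93, 1), (103, 1), (115, 0), (113, 0), (101, 0), (99, 0), (9, 1), (29, 1), (47,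 1), (63, 1), (77, 1), (93, 0), (0, 6), (91, 0), (97, 0), (95, 0), (111, 0), (109, 0), (11, 1), (31, 1), (49, 1), (65, 1), (79, 1), (103, 0), (91, 1), (0, 7), (107, 0), (105, 0), (129, 0), (127, 0), (17, 1), (37, 1), (55, 1), (71, 1), (85, 1), (115, 1), (97, 1), (107, 1), (0, 10), (121, 1), (125, 0), (123, 0), (15, 1), (35, 1), (53, 1), (69, 1), (83, 1), (113, 1), (95, 1), (105, 1), (121, 0), (0, 9), (133, 0), (135, 0)] 13 = true := by
  decide +kernel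

/-- the sign homomorphism -/
noncomputable def ε : Spor.Fi24 →* ℤˣ :=
  coxHom Spor.Fi24.edges Spor.Fi24.extra sgR (fun g => (hc g).2) homS

theorem ε_el (x : ℕ) : ε (el x) = sg x :=
  coxHom_el Spor.Fi24.edges Spor.Fi24.extra sgR (fun g => (hc g).2) homS
    (fun x hx => if_neg (by omega)) x

theorem braid_comm {A : Type*} [CommGroup A] {e : ℕ → A} (Q : RuleOK e rels iv) (x y ri k : ℕ)
    (h : (ruleAt rels iv ri k == [x, y, x, y, x, y] && allLt [[x, y, x, y, x, y]]) = true)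
    (hx : (ruleAt rels iv 0 x == [x, x] && allLt [[x, x]]) = true)
    (hy : (ruleAt rels iv 0 y == [y, y] && allLt [[y, y]]) = true) : e x = e y := by
  have h1 := Q.wv_rule _ _ h
  have h2 := Q.wv_rule _ _ hx
  have h3 := Q.wv_rule _ _ hy
  simp only [wv, List.map_cons, List.map_nil, List.prod_cons, List.prod_nil, mul_one] at h1 h2 h3
  have h4 : e x * (e y * (e x * (e y * (e x * e y)))) = (e x * e x) * (e y * e y) * (e x * e y) := by
    simp only [mul_assoc, mul_comm, mul_left_comm]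
  rw [h4, h2, h3, one_mul, one_mul] at h1
  rw [eq_inv_of_mul_eq_one_left h1, ← eq_inv_of_mul_eq_one_left h3]

theorem ab_el : ∀ x ∈ ([1, 2, 3, 4, 5, 6, 7, 8, 9, 10, 11, 12] : List ℕ),
    Abelianization.of (el x) = Abelianization.of (el 1) := by
  have Q := R.map (Abelianization.of (G := Spor.Fi24))
  have h12_11 := braid_comm Q 12 11 131 1 (by decide +kernel) (by decide +kernel) (by decide +kernel)
  have h11_1 := braid_comm Q 11 1 19 1 (by decide +kernel) (by decide +kernel) (by decide +kernel)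
  have h1_2 := braid_comm Q 1 2 1 0 (by decide +kernel) (by decide +kernel) (by decide +kernel)
  have h2_3 := braid_comm Q 2 3 23 0 (by decide +kernel) (by decide +kernel) (by decide +kernel)
  have h3_4 := braid_comm Q 3 4 43 0 (by decide +kernel) (by decide +kernel) (by decide +kernel)
  have h4_5 := braid_comm Q 4 5 61 0 (by decide +kernel) (by decide +kernel) (by decide +kernel)
  have h4_8 := braid_comm Q 4 8 67 0 (by decide +kernel) (by decide +kernel) (by decide +kernel)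
  have h5_6 := braid_comm Q 5 6 77 0 (by decide +kernel) (by decide +kernel) (by decide +kernel)
  have h6_7 := braid_comm Q 6 7 91 0 (by decide +kernel) (by decide +kernel) (by decide +kernel)
  have h7_10 := braid_comm Q 7 10 107 0 (by decide +kernel) (by decide +kernel) (by decide +kernel)
  have h8_9 := braid_comm Q 8 9 113 0 (by decide +kernel) (by decide +kernel) (by decide +kernel)
  simp only [List.forall_mem_cons, List.not_mem_nil, false_imp_iff, implies_true, and_true, true_and]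
  simp only [h12_11, h11_1, ← h7_10, ← h8_9, ← h6_7, ← h5_6, ← h4_8, ← h4_5, ← h3_4, ← h2_3, ← h1_2,
    and_self]

theorem ker_ε : ε.ker = commutator Spor.Fi24 := by
  refine le_antisymm ?_ (Abelianization.commutator_subset_ker ε)
  set t := Abelianization.of (el 1) with ht
  have t2 : t * t = 1 := by
    have := (R.map (Abelianization.of (G := Spor.Fi24))).wv_rule 0 1 (w := [1, 1]) (by decide +kernel)
    simpa [wv] using this
  let K : Subgroup Spor.Fi24 :=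
    { carrier := {g | Abelianization.of g = if ε g = 1 then 1 else t}
      one_mem' := by simp
      mul_mem' := by
        intro a b ha hb
        simp only [Set.mem_ofPred_eq, map_mul] at ha hb ⊢
        rw [ha, hb]
        rcases Int.units_eq_one_or (ε a) with h | h <;> rcases Int.units_eq_one_or (ε b) with h' | h' <;>
          simp [h, h', t2]
      inv_mem' := by
        intro a ha
        simp only [Set.mem_ofPred_eq, map_inv] at ha ⊢
        rw [ha]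
        rcases Int.units_eq_one_or (ε a) with h | h <;> simp [h, eq_inv_of_mul_eq_one_left t2 |>.symm] }
  have hK : K = ⊤ := eq_top K fun x hx => by
    show Abelianization.of (el x) = if ε (el x) = 1 then 1 else t
    rw [ab_el x hx, ε_el, if_neg (by revert x; decide)]
  intro g hg
  have h1 : g ∈ K := hK ▸ trivial
  have h2 : Abelianization.of g = if ε g = 1 then 1 else t := h1
  rw [if_pos (show ε g = 1 from hg)] at h2
  rw [← Abelianization.ker_of]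
  exact h2

theorem index_commutator : (commutator Spor.Fi24).index = 2 := by
  rw [← ker_ε, Subgroup.index_ker, MonoidHom.range_eq_top.2, Subgroup.card_top]
  · simp
  · intro u
    rcases Int.units_eq_one_or u with rfl | rfl
    · exact ⟨1, map_one _⟩
    · exact ⟨el 1, ε_el 1⟩

end Cfsg.Agent.H58.Fi24P
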