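import Cfsg.Agent.H58.Util6
import Cfsg.Agent.H58.Fi24B
import Cfsg.Agent.H58.Mod.F24M
import Cfsg.Agent.H58.Cert.F24A

set_option autoImplicit false
set_option Elab.async false
set_option maxRecDepth 100000
set_option linter.constructorNameAsVariable false
set_option exponentiation.threshold 400000

namespace Cfsg.Agent.H58.Fi24P

open Cfsg Cfsg.Agent.H58


theorem homM : homOK L (coxAll Spor.Fi24.edges ++ Spor.Fi24.extra) code F24M.iv F24M.rels F24M.wit F24M.nets.length = true := by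
  decide +kernel

/-- the action on 306936 points -/
noncomputable def M : Model Spor.Fi24 :=
  coxModel Spor.Fi24.edges Spor.Fi24.extra L F24M.nets 306936 F24M.netsOK F24M.ruleN (fun g => (hc g).2) homM

section
variable {G : Type*} [Group G] {e : ℕ → G} (Q : RuleOK e rels iv)
include Q

theorem l_mem {K : Subgroup G} (h : ∀ x ∈ ([1, 2, 3, 4, 5, 6, 8] : List ℕ), e x ∈ K) : e 12 ∈ K :=
  Q.mem_of_rule 133 0 (w := [8, 6, 5, 4, 3, 2, 1, 8, 6, 5, 4, 3, 2, 1, 8, 6, 5, 4, 3, 2, 1, 8, 6, 5, 4, 3, 2, 1, 8, 6, 5, 4, 3, 2, 1, 8, 6, 5, 4, 3, 2, 1, 8, 6, 5, 4, 3, 2, 1, 8, 6, 5, 4, 3, 2, 1, 8, 6, 5, 4, 3, 2, 1]) (by decide +kernel)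
    fun y hy => h y (by revert y; decide)

end

/-- the subgroup Fi23 × 2 generated by all letters but k -/
abbrev H : Subgroup Spor.Fi24 := clL el [1, 2, 3, 4, 5, 6, 7, 8, 9, 10, 12]

theorem relIndex_H : H.relIndex ⊤ ≠ 0 ∧ H.relIndex ⊤ ≤ 306936 :=
  relIndex_top_of (eq_top _ fun x hx => by
      by_cases h : x = 12
      · rw [h]; exact l_mem R (mem_clL el [1, 2, 3, 4, 5, 6, 7, 8, 9, 10, 11] _ (by decide))
      · exact el_mem_closure el [1, 2, 3, 4, 5, 6, 7, 8, 9, 10, 11] x (by revert x; decide))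
    (F24A.relIndex_le R H (mem_clL el _ _ (by decide)))

theorem full : bfs F24M.nets [[1], [2], [3], [4], [5], [6], [7], [8], [9], [10], [11], [12]] [10, 0, 11, 1, 2, 10, 3, 0, 4, 7, 5, 8, 3, 6, 2, 1, 4, 9, 7, 3, 5, 2, 4, 7, 8, 3, 5, 6, 1, 0, 7, 2, 4, 5, 1, 10, 8, 3, 4, 2, 7, 3, 0, 9, 7, 2, 1, 8, 5, 6, 0, 4, 5, 3, 2, 4, 10, 6, 3, 5, 1, 4, 0, 1, 6, 9] (Nat.pow 2 0) = Nat.pred (Nat.pow 2 306936) := by decide +kernel

theorem trans : 306936 ≤ (M.orb ⊤ 0).ncard :=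
  M.le_ncard_full ⊤ (fun _ _ => trivial) full (M.orb_finite hgen _ _)

theorem H_clW : H = clW el [[1], [2], [3], [4], [5], [6], [7], [8], [9], [10], [12]] := clL_eq_clW el _

theorem fixH : fixErr F24M.nets [[1], [2], [3], [4], [5], [6], [7], [8], [9], [10], [12]] [0] = 0 := by decide +kernel

theorem index_H : H.index = 306936 ∧ H = M.St 0 :=
  M.index_eq (H_clW ▸ M.mem_St_of fixH) relIndex_H trans

theorem H_stmt : (Subgroup.closure ({Spor.Fi24.a, Spor.Fi24.b, Spor.Fi24.c, Spor.Fi24.d, Spor.Fi24.e, Spor.Fi24.f, Spor.Fi24.g, Spor.Fi24.h, Spor.Fi24.i, Spor.Fi24.j, Spor.Fi24.l} :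
    Set (FreeGroup Spor.Fi24.Gen))).map π = H :=
  (map_closure_eq_clW π hc R.hinv _ [Spor.Fi24.a, Spor.Fi24.b, Spor.Fi24.c, Spor.Fi24.d, Spor.Fi24.e, Spor.Fi24.f, Spor.Fi24.g, Spor.Fi24.h, Spor.Fi24.i, Spor.Fi24.j, Spor.Fi24.l]
    (by ext; simp) (by decide +kernel)).trans H_clW.symm

end Cfsg.Agent.H58.Fi24P
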