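import Cfsg.Agent.H58.Fi24P1
import Cfsg.Agent.H58.FiY
import Cfsg.Agent.H58.Cert.FiT1
import Cfsg.Agent.H58.Cert.F24S
import Cfsg.Agent.H58.Cert.F24X

set_option autoImplicit false
set_option Elab.async false
set_option maxRecDepth 100000
set_option linter.constructorNameAsVariable false
set_option exponentiation.threshold 400000

namespace Cfsg.Agent.H58.Fi24P

open Cfsg Cfsg.Agent.H58

theorem card_E7 : Finite (clL el [1, 2, 3, 4, 5, 6, 8]) ∧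
    Nat.card (clL el [1, 2, 3, 4, 5, 6, 8]) ≤ 2903040 :=
  card_step (card_step (card_step card_le_bot (F24D5.relIndex_le R ⊥ (forall_nil _)))
    (F24E6.relIndex_le R _ (mem_clL el [3, 4, 5, 6, 8] _ (by decide))))
    (F24E7.relIndex_le R _ (mem_clL el [2, 3, 4, 5, 6, 8] _ (by decide)))

theorem card_E8 : Finite (clL el [1, 2, 3, 4, 5, 6, 8, 11]) ∧
    Nat.card (clL el [1, 2, 3, 4, 5, 6, 8, 11]) ≤ 348364800 :=
  card_step card_E7 (F24E8.relIndex_le R _ fun x hx => by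
    by_cases h : x = 12
    · rw [h]; exact l_mem R (mem_clL el [1, 2, 3, 4, 5, 6, 8] _ (by decide))
    · exact el_mem_closure el [1, 2, 3, 4, 5, 6, 8] x (by revert x; decide))

/-- the subgroup O8+(3):2 -/
abbrev X : Subgroup Spor.Fi24 := clL el [1, 2, 3, 4, 5, 6, 8, 9, 11]

/-- the subgroup 2 × O7(3) -/
abbrev Y : Subgroup Spor.Fi24 := clL el [1, 2, 3, 4, 5, 6, 8, 9]

theorem card_X_le : Finite X ∧ Nat.card X ≤ 9904359628800 :=
  card_step card_E8 (F24X.relIndex_le R _ fun x hx => by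
    by_cases h : x = 12
    · rw [h]; exact l_mem R (mem_clL el [1, 2, 3, 4, 5, 6, 8, 11] _ (by decide))
    · exact el_mem_closure el [1, 2, 3, 4, 5, 6, 8, 11] x (by revert x; decide))

theorem Y_le_X : Y ≤ X := clL_mono el _ _ (by decide)

theorem finite_Y : Finite Y := (card_mono Y_le_X card_X_le).1

theorem lyf0 : fixErr F24M.nets [[1], [2], [3], [4], [5], [6], [8], [9]] [] = 0 := by decide +kernel
theorem lyo0 : orbErr F24M.nets [[1], [2], [3], [4], [5], [6], [8], [9]] [6, 3, 7, 2, 4, 1, 5, 6, 3, 0, 2, 6, 4, 7, 3, 1, 5, 6, 4, 2, 0, 7, 3, 5, 1, 4, 2, 6, 0, 5, 3, 1, 7, 0, 4, 6, 2, 5, 3, 7, 1, 2, 4, 1] 24 19 25272 = 0 := by decide +kernel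
theorem lyf1 : fixErr F24M.nets [[1], [2], [3], [4], [5], [6], [9], [8, 4, 5, 3, 4, 8, 6, 5, 4, 3, 2, 3, 4, 5, 6, 8, 4, 3, 5, 4, 8]] [24] = 0 := by decide +kernel
theorem lyo1 : orbErr F24M.nets [[1], [2], [3], [4], [5], [6], [9], [8, 4, 5, 3, 4, 8, 6, 5, 4, 3, 2, 3, 4, 5, 6, 8, 4, 3, 5, 4, 8]] [0, 1, 3, 4, 5, 6, 2, 3, 0, 4, 1, 2, 3, 5, 0, 1, 2, 0, 1, 0, 7, 0, 6, 1, 2, 3, 4, 5, 7, 0, 1, 3, 2] 6940 19 60480 = 0 := by decide +kernel
theorem lyf2 : fixErr F24M.nets [[3], [9, 8, 4, 5, 2, 3, 4, 8, 6, 5, 4, 3, 2, 1, 2, 3, 4, 5, 6, 8, 4, 3, 2, 5, 4, 8, 9]] [6940, 24] = 0 := by decide +kernel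
theorem lyo2 : orbErr F24M.nets [[3], [9, 8, 4, 5, 2, 3, 4, 8, 6, 5, 4, 3, 2, 1, 2, 3, 4, 5, 6, 8, 4, 3, 2, 5, 4, 8, 9]] [0, 1, 0] 51 19 6 = 0 := by decide +kernel

theorem card_Y_ge : 9170703360 ≤ Nat.card (Y.map M.φ) :=
  have := finite_Y
  (show 25272 * (60480 * (6 * (1))) ≤ Nat.card ((M.fixK Y []).map M.φ) from (M.lev_step' hgen (wv_mem_letters (el_mem_closure el [1, 2, 3, 4, 5, 6, 8, 9]) (by decide)) lyf0 lyo0
    (M.lev_step' hgen (wv_mem_letters (el_mem_closure el [1, 2, 3, 4, 5, 6, 8, 9]) (by decide)) lyf1 lyo1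
    (M.lev_step' hgen (wv_mem_letters (el_mem_closure el [1, 2, 3, 4, 5, 6, 8, 9]) (by decide)) lyf2 lyo2
    (M.chain_base' _)))))

theorem ox : orbErr F24M.nets [[1], [2], [3], [4], [5], [6], [8], [9], [11]] [8, 0, 1, 2, 3, 4, 6, 5, 7, 3, 2, 1, 4, 6, 3, 0, 8, 2, 4, 6, 1, 5, 3, 7, 0, 4, 2, 8, 5, 3, 6, 1, 4, 2, 3, 2, 1, 0, 4, 6] 0 19 1080 = 0 := by decide +kernel
theorem fy0 : fixErr F24M.nets ([1, 2, 3, 4, 5, 6, 8, 9].map fun x => [x]) [0] = 0 := by decide +kernel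
def spp : List (List ℕ × List ℕ) := [([4, 3, 2, 4, 5, 6, 4, 8, 9, 4, 3, 2, 4, 5, 6, 4, 8, 9, 4, 3, 2, 4, 5, 6, 4, 8, 9, 4, 3, 2, 4, 5, 6, 4, 8, 9, 4, 3, 2, 4, 5, 6, 4, 8, 9], [9, 8, 4, 6, 5, 4, 2, 3, 4, 9, 8, 4, 6, 5, 4, 2, 3, 4, 9, 8, 4, 6, 5, 4, 2, 3, 4, 9, 8, 4, 6, 5, 4, 2, 3, 4, 9, 8, 4, 6, 5, 4, 2, 3, 4])]
theorem sp0 : eqsAt F24M.nets 306936 19 spp 0 = 0 := by decide +kernel
theorem sp1 : eqsAt F24M.nets 306936 19 spp 1 = 0 := by decide +kernel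
theorem sp2 : eqsAt F24M.nets 306936 19 spp 2 = 0 := by decide +kernel
theorem sp3 : eqsAt F24M.nets 306936 19 spp 3 = 0 := by decide +kernel
theorem sp4 : eqsAt F24M.nets 306936 19 spp 4 = 0 := by decide +kernel
theorem sp5 : eqsAt F24M.nets 306936 19 spp 5 = 0 := by decide +kernel
theorem sp6 : eqsAt F24M.nets 306936 19 spp 6 = 0 := by decide +kernel
theorem sp7 : eqsAt F24M.nets 306936 19 spp 7 = 0 := by decide +kernel
theorem sp8 : eqsAt F24M.nets 306936 19 spp 8 = 0 := by decide +kernel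
theorem sp9 : eqsAt F24M.nets 306936 19 spp 9 = 0 := by decide +kernel
theorem sp10 : eqsAt F24M.nets 306936 19 spp 10 = 0 := by decide +kernel
theorem sp11 : eqsAt F24M.nets 306936 19 spp 11 = 0 := by decide +kernel
theorem sp12 : eqsAt F24M.nets 306936 19 spp 12 = 0 := by decide +kernel
theorem sp13 : eqsAt F24M.nets 306936 19 spp 13 = 0 := by decide +kernel
theorem sp14 : eqsAt F24M.nets 306936 19 spp 14 = 0 := by decide +kernel
theorem sp15 : eqsAt F24M.nets 306936 19 spp 15 = 0 := by decide +kernel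
theorem sp16 : eqsAt F24M.nets 306936 19 spp 16 = 0 := by decide +kernel
theorem sp17 : eqsAt F24M.nets 306936 19 spp 17 = 0 := by decide +kernel
theorem sp18 : eqsAt F24M.nets 306936 19 spp 18 = 0 := by decide +kernel
theorem spa : ∀ t < 19, eqsAt F24M.nets 306936 19 spp t = 0 := (blocks_cons (blocks_cons (blocks_cons (blocks_cons (blocks_cons (blocks_cons (blocks_cons (blocks_cons (blocks_cons (blocks_cons (blocks_cons (blocks_cons (blocks_cons (blocks_cons (blocks_cons (blocks_cons (blocks_cons (blocks_cons (blocks_cons (blocks_nil _) sp0) sp1) sp2) sp3) sp4) sp5) sp6) sp7) sp8) sp9) sp10) sp11) sp12) sp13) sp14) sp15) sp16) sp17) sp18)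

theorem card_X_ge : 9904359628800 ≤ Nat.card (X.map M.φ) :=
  have := card_X_le.1
  M.chain_step' (n := 1080) Y_le_X (M.clL_le_St fy0)
    (M.le_ncard_orb (wv_mem_letters (el_mem_closure el [1, 2, 3, 4, 5, 6, 8, 9, 11]) (by decide)) ox (M.orb_finite hgen _ _))
    card_Y_ge

/-- the spider relation -/
theorem spider : wv el [4, 3, 2, 4, 5, 6, 4, 8, 9, 4, 3, 2, 4, 5, 6, 4, 8, 9, 4, 3, 2, 4, 5, 6, 4, 8, 9, 4, 3, 2, 4, 5, 6, 4, 8, 9, 4, 3, 2, 4, 5, 6, 4, 8, 9, 4, 3, 2, 4, 5, 6, 4, 8, 9, 4, 3, 2, 4, 5, 6, 4, 8, 9, 4, 3, 2, 4, 5, 6, 4, 8, 9, 4, 3, 2, 4, 5, 6, 4, 8, 9, 4, 3, 2, 4, 5, 6, 4, 8, 9] = 1 := by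
  refine (inj_on_of_card M.φ card_X_le card_X_ge).2 _
    (wv_mem fun x hx => el_mem_closure el _ x (by revert x; decide)) ?_
  have h := M.φ_wv_eq (by decide) spa _ List.mem_cons_self
  have Q := R.map M.φ
  have e : ∀ w, M.φ (wv el w) = wv (fun x => M.φ (el x)) w := fun w => by
    rw [wv, map_list_prod, List.map_map]; rfl
  rw [e]
  exact wv_append_eq_one Q ((e _).symm.trans (h.trans (e _))) (by decide +kernel)

theorem R2 : RuleOK el (rels ++ [[4, 3, 2, 4, 5, 6, 4, 8, 9, 4, 3, 2, 4, 5, 6, 4, 8, 9, 4, 3, 2, 4, 5, 6, 4, 8, 9, 4, 3, 2, 4, 5, 6, 4, 8, 9, 4, 3, 2, 4, 5, 6, 4, 8, 9, 4, 3, 2, 4, 5, 6, 4, 8, 9, 4, 3, 2, 4, 5, 6, 4, 8, 9, 4, 3, 2, 4, 5, 6, 4, 8, 9, 4, 3, 2, 4, 5, 6, 4, 8, 9, 4, 3, 2, 4, 5, 6, 4, 8, 9]]) iv := R.snoc _ spider (by decide)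

theorem RY1 : RuleOK el FiT1.rels FiT1.iv := R2.sub (wit := [(1, 0), (3, 0), (5, 0), (7, 0), (9, 0), (11, 0), (13, 0), (15, 0), (17, 0), (21, 0), (23, 0), (25, 0), (27, 0), (29, 0), (31, 0), (33, 0), (35, 0), (37, 0), (41, 0), (43, 0), (45, 0), (47, 0), (49, 0), (51, 0), (53, 0), (55, 0), (59, 0), (61, 0), (63, 0), (65, 0), (67, 0), (69, 0), (71, 0), (75, 0), (77, 0), (79, 0), (81, 0), (83, 0), (85, 0), (89, 0), (91, 0), (93, 0), (95, 0), (97, 0), (101, 0), (103, 0), (105, 0), (107, 0), (111, 0), (113, 0), (115, 0), (119, 0), (121, 0), (125, 0), (129, 0), (137, 0), (133, 0)]) (by decide +kernel)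

theorem RY : RuleOK el FiY.rels FiY.iv := R2.sub (wit := [(1, 0), (3, 0), (5, 0), (7, 0), (9, 0), (11, 0), (13, 0), (15, 0), (21, 0), (23, 0), (25, 0), (27, 0), (29, 0), (31, 0), (33, 0), (35, 0), (41, 0), (43, 0), (45, 0), (47, 0), (49, 0), (51, 0), (53, 0), (59, 0), (61, 0), (63, 0), (65, 0), (67, 0), (69, 0), (75, 0), (77, 0), (79, 0), (81, 0), (83, 0), (89, 0), (91, 0), (93, 0), (95, 0), (101, 0), (103, 0), (105, 0), (111, 0), (113, 0), (119, 0), (125, 0), (137, 0), (133, 0)]) (by decide +kernel)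

theorem card_H1_le : Finite (clL el [1, 2, 3, 4, 5, 6, 7, 8, 9]) ∧
    Nat.card (clL el [1, 2, 3, 4, 5, 6, 7, 8, 9]) ≤ 258247006617600 :=
  card_step (FiY.card_O7l RY) (FiY.relIndex_O7 RY _ (el_mem_closure el _))

theorem H_eq : clL el [1, 2, 3, 4, 5, 6, 7, 8, 9, 10] = H :=
  le_antisymm (clL_mono el _ _ (by decide)) (clL_le fun x hx => by
    by_cases h : x = 12
    · rw [h]; exact l_mem R (mem_clL el [1, 2, 3, 4, 5, 6, 7, 8, 9, 10] _ (by decide))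
    · exact el_mem_closure el [1, 2, 3, 4, 5, 6, 7, 8, 9, 10] x (by revert x; decide))

theorem card_H_le : Finite H ∧ Nat.card H ≤ 8178940946586009600 :=
  card_congr H_eq (card_step card_H1_le (FiT1.relIndex_le RY1 _ fun x hx => by
    by_cases h : x = 12
    · rw [h]; exact l_mem R (mem_clL el [1, 2, 3, 4, 5, 6, 7, 8, 9] _ (by decide))
    · exact el_mem_closure el [1, 2, 3, 4, 5, 6, 7, 8, 9] x (by revert x; decide)))

theorem card_le : Finite Spor.Fi24 ∧ Nat.card Spor.Fi24 ≤ 2510411418381323442585600 :=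
  card_top_le rfl (card_step card_H_le relIndex_H)

theorem finite : Finite Spor.Fi24 := card_le.1

theorem oh1 : orbErr F24M.nets [[1], [2], [3], [4], [5], [6], [7], [8], [9]] [6, 5, 4, 3, 2, 7, 1, 8, 3, 0, 4, 2, 5, 7, 3, 6, 1, 4, 7, 2, 8, 3, 5, 1, 0, 7, 6, 4, 2, 3, 8, 5, 1, 2, 7, 4, 6, 1, 0, 3, 5, 2, 7, 4, 1, 8, 0, 3, 5, 4, 2, 1, 5, 6] 1226 19 28160 = 0 := by decide +kernel
theorem fy1 : fixErr F24M.nets ([1, 2, 3, 4, 5, 6, 8, 9].map fun x => [x]) [1226] = 0 := by decide +kernel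
theorem oh0 : orbErr F24M.nets [[1], [2], [3], [4], [5], [6], [7], [8], [9], [10]] [9, 6, 5, 4, 3, 2, 7, 1, 8, 3, 0, 4, 2, 5, 7, 3, 6, 9, 4, 7, 1, 2, 8, 5, 3, 1, 6, 7, 4, 2, 0, 9, 3, 8, 5, 1, 6, 2, 7, 4, 1, 3, 0, 8, 2, 1, 4, 5, 0, 7, 3, 2, 6, 3, 1] 87475 19 31671 = 0 := by decide +kernel
theorem fh1 : fixErr F24M.nets ([1, 2, 3, 4, 5, 6, 7, 8, 9].map fun x => [x]) [87475] = 0 := by decide +kernel

theorem card_H1_ge : 258247006617600 ≤ Nat.card ((clL el [1, 2, 3, 4, 5, 6, 7, 8, 9]).map M.φ) :=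
  have := finite
  M.chain_step (n := 28160) (clL_mono el _ _ (by decide)) (M.clL_le_St fy1)
    (M.le_ncard_orb (wv_mem_letters (el_mem_closure el [1, 2, 3, 4, 5, 6, 7, 8, 9]) (by decide)) oh1 (M.orb_finite hgen _ _))
    card_Y_ge

theorem card_H_ge : 8178940946586009600 ≤ Nat.card (H.map M.φ) :=
  have := finite
  M.chain_step (n := 31671) (clL_mono el _ _ (by decide)) (M.clL_le_St fh1)
    (M.le_ncard_orb (wv_mem_letters (el_mem_closure el [1, 2, 3, 4, 5, 6, 7, 8, 9, 10, 12]) (by decide)) oh0 (M.orb_finite hgen _ _))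
    card_H1_ge

theorem card_ge : 2510411418381323442585600 ≤ Nat.card ((⊤ : Subgroup Spor.Fi24).map M.φ) :=
  have := finite
  M.chain_step (n := 306936) le_top index_H.2.le trans card_H_ge

theorem card_eq : Nat.card Spor.Fi24 = 2510411418381323442585600 :=
  have := finite
  (M.card_eq_of_bounds card_le.2 card_ge).1

/-- the action is faithful -/
theorem inj : Function.Injective M.φ :=
  have := finite
  (M.card_eq_of_bounds card_le.2 card_ge).2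

theorem card_H : Nat.card H = 8178940946586009600 :=
  card_of_index index_H.1 card_eq (by norm_num) (by norm_num)

theorem card_commutator : Nat.card (commutator Spor.Fi24) = 1255205709190661721292800 :=
  card_of_index index_commutator card_eq (by norm_num) (by norm_num)

end Cfsg.Agent.H58.Fi24P
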