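import Cfsg.Agent.H58.Graph2
import Cfsg.Agent.H58.HeP
import Cfsg.Agent.H58.Cert.HeS
import Cfsg.Agent.H58.Mod.S44

set_option autoImplicit false
set_option Elab.async false
set_option maxRecDepth 100000
set_option linter.constructorNameAsVariable false
set_option exponentiation.threshold 400000

namespace Cfsg.Agent.H58.HeS

open Cfsg Cfsg.Agent.H58 HeP H14 H56

theorem bound {G : Type*} [Group G] {e : ℕ → G} (Q : RuleOK e HeS1.rels HeS1.iv) :
    Finite (clL e [1, 2, 3, 4, 5]) ∧ Nat.card (clL e [1, 2, 3, 4, 5]) ≤ 979200 :=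
  card_step (card_step (card_step (card_step card_le_bot (HeS4.relIndex_le Q ⊥ (forall_nil _)))
    (HeS3.relIndex_le Q _ (mem_clL e [1, 2] _ (by decide))))
    (HeS2.relIndex_le Q _ (mem_clL e [1, 2, 4] _ (by decide))))
    (HeS1.relIndex_le Q _ (mem_clL e [1, 2, 3, 4] _ (by decide)))

def nws : List (List ℕ) := [[3], [4], [5], [6], [2, 3, 4, 5, 2, 3, 4, 5, 2, 3, 4, 5, 2, 3, 4, 5, 2, 3, 4, 5, 2, 3, 4, 5, 2, 3, 4, 5], [5, 4, 3, 2, 5, 4, 3, 2, 5, 4, 3, 2, 5, 4, 3, 2, 5, 4, 3, 2, 5, 4, 3, 2, 5, 4, 3, 2], [0], [0], [0], [0], [0], [0], [0], [0], [0], [0], [0], [0], [0], [0], [0], [0], [0], [0], [0], [0], [0], [0], [0], [0], [0], [0], [0], [0], [0], [0], [0], [0], [0], [0], [0], [0], [0], [0], [0], [0], [0], [0], [0], [0], [0], [0], [0], [0], [0], [0], [0], [0], [0], [0], [0], [0], [0]]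

theorem nok : extOK rels iv 1 nws [] 350107738176 [] [(0, 0), (0, 0), (0, 0), (0, 0), (0, 0), (0, 0), (0, 0), (0, 0), (0, 0), (0, 0), (0, 0), (0, 0), (0, 0), (0, 0), (0, 0), (0, 0), (0, 0), (0, 0), (0, 0), (0, 0), (0, 0), (0, 0), (0, 0), (0, 0), (0, 0), (0, 0), (0, 0), (0, 0), (0, 0), (0, 0), (0, 0), (0, 0), (0, 0), (0, 0), (0, 0), (0, 0), (0, 0), (0, 0), (0, 0), (0, 0), (0, 0), (0, 0), (0, 0), (0, 0), (0, 0), (0, 0), (0, 0), (0, 0), (0, 0), (0, 0), (0, 0), (0, 0), (0, 0), (0, 0), (0, 0), (0, 0), (0, 0), (0, 0), (0, 0), (0, 0), (0, 0), (0, 0), (0, 0), (0, 0)] = true := by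
  decide +kernel

theorem q0 : eqsAt HeM.nets 2058 12 (HeS1.rels.map fun r => (subst 1 nws r, [])) 0 = 0 := by decide +kernel
theorem q1 : eqsAt HeM.nets 2058 12 (HeS1.rels.map fun r => (subst 1 nws r, [])) 1 = 0 := by decide +kernel
theorem q2 : eqsAt HeM.nets 2058 12 (HeS1.rels.map fun r => (subst 1 nws r, [])) 2 = 0 := by decide +kernel
theorem q3 : eqsAt HeM.nets 2058 12 (HeS1.rels.map fun r => (subst 1 nws r, [])) 3 = 0 := by decide +kernel
theorem q4 : eqsAt HeM.nets 2058 12 (HeS1.rels.map fun r => (subst 1 nws r, [])) 4 = 0 := by decide +kernel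
theorem q5 : eqsAt HeM.nets 2058 12 (HeS1.rels.map fun r => (subst 1 nws r, [])) 5 = 0 := by decide +kernel
theorem q6 : eqsAt HeM.nets 2058 12 (HeS1.rels.map fun r => (subst 1 nws r, [])) 6 = 0 := by decide +kernel
theorem q7 : eqsAt HeM.nets 2058 12 (HeS1.rels.map fun r => (subst 1 nws r, [])) 7 = 0 := by decide +kernel
theorem q8 : eqsAt HeM.nets 2058 12 (HeS1.rels.map fun r => (subst 1 nws r, [])) 8 = 0 := by decide +kernel
theorem q9 : eqsAt HeM.nets 2058 12 (HeS1.rels.map fun r => (subst 1 nws r, [])) 9 = 0 := by decide +kernel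
theorem q10 : eqsAt HeM.nets 2058 12 (HeS1.rels.map fun r => (subst 1 nws r, [])) 10 = 0 := by decide +kernel
theorem q11 : eqsAt HeM.nets 2058 12 (HeS1.rels.map fun r => (subst 1 nws r, [])) 11 = 0 := by decide +kernel

/-- the letters c, d, e, f, y = (bcde)^7, y⁻¹ -/
abbrev en : ℕ → Spor.He := elX el iv 1 nws

theorem RN : RuleOK en HeS1.rels HeS1.iv :=
  M.ruleOK_ext inj (b := 12) (by decide) (R.extend nok) (by decide +kernel) (blocks_cons (blocks_cons (blocks_cons (blocks_cons (blocks_cons (blocks_cons (blocks_cons (blocks_cons (blocks_cons (blocks_cons (blocks_cons (blocks_cons (blocks_nil _) q0) q1) q2) q3) q4) q5) q6) q7) q8) q9) q10) q11)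

/-- the subgroup S4(4) -/
abbrev N : Subgroup Spor.He := clL en [1, 2, 3, 4, 5]

theorem N_le : N ≤ H := clL_le (elX_mem_clW el iv 1 nws _ _ (by decide +kernel))

def cs : List ℕ := [nat_lit 0x54a74a8d09f3a6cc972a4c88f1a2c4870a0c07ef9ebc76e9cb86ed9ab466c98b05eb96ac56a94a84e992a446890a03e78e9c3668c982e58a9426488901e3868c16284880e182840608080, nat_lit 0x3948495d0053a6a116564c88b1a39d830a1c07ee191f763ea3e100068318f589b4eb8ba0a2451015e512d346a662c787a21c6068c935a5a526314950a7419ab396403b71238284693d436, nat_lit 0x38632164c388d6d00a08dd28675ab98e94b8d783c83f5e5a2546e6229a22ca98176ba6d1482cca600a212b9c5041f401e34f92d14b682e8aa212199bd7c3a00354109a13c4a58a1929827, nat_lit 0x76c39d506e8e0324c40cc85259120369584d629d0983d444af9f4d5285b31fc170b999d1ed63b47d2e1009d15ec426ed61c86164bc191850b3e186ca57488972855c82a848d0402201a4, nat_lit 0x45025565065192b72648d48733aa0f7d01c423d0c11462763c1980cb80233ddaf60b86d140304a4367e6a82c1c42b4cfdd1c4f2428b6a8e93c972998688296aa30394a14440c846cf69b4,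 nat_lit 0x2c5f49c49973a0296830cc864fde898eba2843c0209d634d0365144bcf230cb2174945187d28da61ede12746c1113891839a981685420ed9887248ab548396aa0634f817818e4d042ca2b, nat_lit 0x187549b19693821b9eaa848867a09f6495ecd8cae2872cbc9d14ce084b2b1dda2a7086d4003263748a170f468583912fde0552724ac6ac488140499974e3854a04b62143a18d40160c43e]

theorem cs_ok : permOK 7 128 85 cs HeS1.rels HeS1.iv [1, 2, 3, 4, 5] S44.gens [[4, 2, 3, 2, 1, 2, 4, 5, 5, 2, 1, 2, 1, 2, 4, 1, 2, 1, 2, 3, 1, 2], [3, 2, 4, 5, 3, 2, 4, 1, 2, 3, 1, 2, 1, 2, 4, 5, 2, 4, 1]] = true := by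
  decide +kernel

theorem mvc : appW HeM.nets [3] (Nat.pow 2 2) = Nat.pow 2 1 := by decide +kernel

theorem equivK : Nonempty (N ≃* S44.K) :=
  equiv_of_permOK bound RN S44.E cs_ok S44.card S44.simple (x := 1) (by decide)
    (by rw [en, elX_eq_wv]; exact M.wv_ne_one mvc (by decide))

theorem card_H : Nat.card H = 2 * 979200 :=
  card_of_index index_H.1 card_eq (by norm_num) (by norm_num)

theorem index_two {F : Type} [Field F] [Fintype F] (hF : Fintype.card F = 4) :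
    ∃ N' : Subgroup H, N'.Normal ∧ N'.index = 2 ∧
      Nonempty (N' ≃* Matrix.symplecticGroup (Fin 2) F) :=
  let ⟨f⟩ := equivK; let ⟨g⟩ := S44.equiv hF
  index_two_of_card N_le card_H ((Nat.card_congr g.toEquiv).trans S44.card) (by norm_num)
    ⟨f.trans g.symm⟩

end Cfsg.Agent.H58.HeS
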