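/-
The Harada–Norton group inside the Monster: the involution centraliser `2.HS.2`.
-/
import Cfsg.Agent.H58.HnC
import Cfsg.Agent.HN.Hom
import Cfsg.Agent.HN.QF1
import Cfsg.Agent.S1701

set_option autoImplicit false
set_option maxRecDepth 100000
set_option Elab.async false
set_option synthInstance.maxSize 4000

namespace Cfsg.Agent.H58.HnM

open Equiv (Perm swap)
open Equiv.Perm (sign)
open Subgroup MulAction H14 H15 H97

section
open HN H17 H88 HnU

/-- the Harada–Norton group from the involution centraliser, without simplicity -/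
theorem hn_of {G : Type*} [Group G] [Finite G] (t : G) (ht : orderOf t = 2)
    (M : Subgroup (centralizer ({t} : Set G))) [M.Normal] (hM : M.index = 2)
    (hout : centralizer (M : Set (centralizer ({t} : Set G))) ≤ M)
    (hcov : IsNonsplitDoubleCover M Spor.HS) (zs : ∃ u, IsConj t u ∧ u ≠ t ∧ u * t = t * u) :
    ∃ f : Spor.HN →* G, Function.Injective f := by
  obtain ⟨φ, h⟩ : ∃ φ : D0 →* G, St φ := by
    obtain ⟨Φ, e, a1, a2, a3, rfl, a4, a5⟩ := exists_Phi t ht M hM hout hcov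
    have a6 : Φ 1 = 1 := by simpa using a4 1 1 (.inl K0.one_mem)
    rcases a1 with rfl | rfl
    · have h : Pre Φ 0 := ⟨by norm_num, a2, a3, a4, fun a b c d => by rw [a5 a b c d, ev_zero, a6]⟩
      refine ⟨MonoidHom.mk' Φ fun a b => ?_, a2, fun g => (a3 g).1, h.not_conj (by simp) cnts.1, zs⟩
      by_cases c : a ∈ K0 ∨ b ∈ K0
      · exact (a4 a b c).symm
      · rw [a5 a b (fun x => c (.inl x)) (fun x => c (.inr x)), mul_one]
    · have h : Pre Φ 1 := ⟨by norm_num, a2, a3, a4, fun a b c d => by rw [a5 a b c d, ev_one]⟩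
      obtain ⟨u, u1, u2, u3⟩ := zs
      obtain ⟨d, rfl⟩ := (a3 u).1 u3
      have hd : d ∈ K0 := by
        by_contra hd
        have b1 : Φ d * Φ d = 1 := by
          obtain ⟨g, e⟩ := isConj_iff.1 u1
          rw [← e, conj_mul, h.c_sq, mul_one, mul_inv_cancel]
        rw [a5 _ _ hd hd, a4 _ _ (.inr c0_mem), ← a6] at b1
        have b2 : d * d = c0 := by
          rw [eq_inv_of_mul_eq_one_left (a2 b1), inv_eq_of_mul_eq_one_left c0_sq]
        obtain ⟨g, k, hk, e⟩ := conj_into (d := d) (by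
          rw [show 4 = 2 * 2 from rfl, pow_mul, pow_two d, b2, pow_two, c0_sq])
        have b3 : allN 30720 (fun k => Nat.beq (sg k) 0 || !Nat.beq (mR k k) 1) = true := by
          decide +kernel
        have b4 := allN_iff.1 b3 k hk
        have b5 : mR k k = 1 := ev_inj (mR_lt hk hk) (by norm_num) (by
          rw [← ev_mul hk hk, e, ev_one]
          calc _ = g⁻¹ * (d * d) * g := by group
            _ = _ := by rw [b2, c0_comm]; group)
        rw [b5, Bool.or_eq_true, Nat.beq_eq, ← sg_spec hk, e] at b4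
        exact hd ((mem_K0_conj (isConj_iff.2 ⟨g⁻¹, by rw [inv_inv]⟩)).2
          (b4.resolve_right (by decide)))
      obtain ⟨y, hy, g, e⟩ := h.inner hd u1 u2
      refine absurd (u1.trans (isConj_iff.2 ⟨_, e⟩).symm) (h.not_conj hy ?_)
      simp only [List.mem_cons, List.not_mem_nil, or_false] at hy
      rcases hy with rfl | rfl
      exacts [cnts.2.1, cnts.2.2]
  obtain ⟨ρ, r⟩ := h.rh
  obtain ⟨b, hb, e⟩ := h.theta r
  obtain ⟨f, hf⟩ := h.hom (r.base hb rfl).1 e
  have := S1701.result.1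
  exact ⟨f, (MonoidHom.ker_eq_bot_iff f).1 ((Normal.eq_bot_or_eq_top inferInstance).resolve_right
    fun e => c0_ne (h.inj ((hf c0).symm.trans ((e.ge (mem_top _)).trans (map_one φ).symm))))⟩

end

def pN : Perm (Fin 12) := sw [(0, 3), (3, 1), (1, 2)]
def pS : Perm (Fin 12) := sw [(0, 2), (1, 3)]
def pY : Perm (Fin 12) := sw [(4, 5), (5, 6), (6, 7), (7, 8), (8, 9), (9, 10)]

/-- the even permutations commuting with `pN` -/
def SN : Subgroup (Perm (Fin 12)) :=
  centralizer {pN} ⊓ (centralizer {pT} ⊓ alternatingGroup (Fin 12))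

/-- an element of `SN` -/
def en (σ : Perm (Fin 12)) (h : σ * pN = pN * σ ∧ σ * pT = pT * σ ∧ sign σ = 1 := by decide +kernel) :
    SN := ⟨σ, mem_centralizer_singleton_iff.2 h.1, mem_centralizer_singleton_iff.2 h.2.1, h.2.2⟩

/-- `HS → Co₁` -/
def jHS : Spor.HS →* Spor.Co1 :=
  (QuotientGroup.mk' _).comp (inclusion (show Spor.HS ≤ Co0 from fun _ h => h.1.1))

theorem jHS_inj (h : Spor.HS) (e : jHS h = 1) : h = 1 := by
  rcases mem_center_iff'.1 ((QuotientGroup.eq_one_iff _).1 e) with e | e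
  · exact Subtype.ext (congrArg (fun k : Co0 => k.1) e)
  · have h1 : (⟨h.1, h.2.1.1⟩ : Co0) • Spor.leechV = Spor.leechV := h.2.1.2
    rw [show (⟨h.1, h.2.1.1⟩ : Co0) = negC from e, negC_smul] at h1
    exact absurd (congrArg (fun v : leechLattice => (v : Vec) none) h1) (by decide)

variable {G : Type*} [Group G] [Finite G] {X : Set G}

/-- the centraliser in `Q` of an element of order 5 inverted by `z` -/
theorem QD.cQ {z : G} {Q : Subgroup G} {π : centralizer ({z} : Set G) →* Spor.Co1}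
    {R : G → leechLattice → Prop} (q : QD X z Q π R) {a t x : G} (ha : a ∈ X) (ht : t ∈ Q)
    (hz : z = a * t) (ox : orderOf x = 5) (ax : a * x * a⁻¹ = x⁻¹) (tx : Commute t x) {s : G}
    (hs : s ∈ Q) (sx : Commute s x) : s = 1 ∨ s = t := by
  have M := q.md
  have x5 : x ^ 5 = 1 := ox ▸ pow_orderOf_eq_one x
  have zx : z * x * z⁻¹ = x⁻¹ := by
    rw [hz, mul_assoc a, tx.eq, ← ax]; group
  have x2 : x * x ≠ 1 := fun e => by
    have := orderOf_dvd_of_pow_eq_one ((pow_two x).trans e)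
    rw [ox] at this
    omega
  have nz : ¬ Commute z x := fun e => x2 (by
    rw [e.eq, mul_inv_cancel_right] at zx
    exact mul_eq_one_iff_eq_inv.2 zx)
  obtain ⟨g, g1, g2⟩ := q.fus
  rcases M.short hs with (e | e) | ⟨v, hv, e | e | e⟩
  · exact .inl e
  · exact absurd (e ▸ sx) nz
  · have h1 : a * (z * s) = t * s := by rw [hz, ← mul_assoc, ← mul_assoc, q.xd.sq a ha, one_mul]
    have h2 := q.xd.no10 ha (q.two (M.zmul hv) e) ox ax (i := 0) (q.q4 (mul_mem ht hs))
      (tx.mul_left sx) (by rw [h1]; simp)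
    have h3 : t * t = 1 := by
      refine (M.lx.sqr t ht).resolve_right fun e => nz (e ▸ tx.mul_left tx)
    exact .inr (mul_left_cancel (h2.trans h3.symm))
  · refine absurd ?_ nz
    rw [← (M.lx.sqr s hs).resolve_left (by rw [M.sq_iff hv]; omega)]
    exact sx.mul_left sx
  · obtain ⟨c, rfl⟩ := isConj_iff.1 (M.isConj_of_four g1 g2 hv e)
    have h1 := M.mem_cjs_of_mem hs (M.ne_of_short hv (by omega) (by omega)).2
    have h2 := (q.cj c).q4 (mul_mem ((q.cj c).md.lx.norm x sx.symm z h1) (inv_mem h1))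
    rw [mul_assoc x, mul_assoc x, ← conj_inv, zx, inv_inv] at h2
    exact absurd (eq_one_of_odd (p := 5) (by decide) (by rw [← pow_two, ← pow_mul, mul_comm, pow_mul,
      x5, one_pow]) h2) x2

theorem AD.main {ψ : Perm (Fin 12) →* G} {a x : G} (A : AD X ψ a x)
    (h11 : 2 ^ 11 ∣ Nat.card ↥(centralizer ({a} : Set G) ⊓ centralizer {x} ⊓ centralizer {ψ pT}))
    {z g : G} {Q : Subgroup G} {π : centralizer ({z} : Set G) →* Spor.Co1}
    {R : G → leechLattice → Prop} (q : QD X z Q π R) (hz : z = a * ψ pT)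
    (r1 : R (ψ pT) Spor.leechU') (r2 : R g Spor.leechV) (gx : g * x * g⁻¹ = x ^ 2)
    (gψ : ∀ τ, sign τ = 1 → g * ψ τ * g⁻¹ = ψ (pN * τ * pN⁻¹)) :
    ∃ f : Spor.HN →* ↥(centralizer ({a} : Set G) ⊓ centralizer {x}), Function.Injective f := by
  have M := q.md
  set K := centralizer ({a} : Set G) ⊓ centralizer {x} with hK
  have mK : ∀ σ, sign σ = 1 → ψ σ ∈ K := fun σ h => ⟨mem_centralizer_singleton_iff.2 (A.ca σ h),
    mem_centralizer_singleton_iff.2 (A.cx σ h)⟩
  let t : K := ⟨ψ pT, mK _ (by decide +kernel)⟩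
  have tt : ψ pT * ψ pT = 1 := q.xd.sq _ A.x2
  have t1 : ψ pT ≠ 1 := q.xd.ne _ A.x2
  have cQ := fun s => q.cQ A.ha (M.mem r1) hz A.ox A.ax (A.cx _ (by decide +kernel)) (s := s)
  have ct : ∀ γ : centralizer ({t} : Set K), Commute γ.1.1 (ψ pT) := fun γ =>
    congrArg Subtype.val (mem_centralizer_singleton_iff.1 γ.2)
  have cx : ∀ γ : centralizer ({t} : Set K), Commute γ.1.1 x := fun γ =>
    mem_centralizer_singleton_iff.1 γ.1.2.2
  have cz : ∀ γ : centralizer ({t} : Set K), Commute γ.1.1 z := fun γ =>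
    hz ▸ Commute.mul_right (mem_centralizer_singleton_iff.1 γ.1.2.1) (ct γ)
  let val : centralizer ({t} : Set K) →* G := K.subtype.comp (Subgroup.subtype _)
  let M0 : Subgroup (centralizer ({t} : Set K)) := (centralizer {g}).comap val
  have mM : ∀ γ, γ ∈ M0 ↔ γ.1.1 * g * γ.1.1⁻¹ = g := fun γ =>
    mem_centralizer_singleton_iff.trans mul_inv_eq_iff_eq_mul.symm
  have cg : ∀ γ : centralizer ({t} : Set K), γ.1.1 * g * γ.1.1⁻¹ = g ∨
      γ.1.1 * g * γ.1.1⁻¹ = ψ pT * g := fun γ => by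
    have h3 : g * x ^ 3 * g⁻¹ = x := by
      rw [← conj_pow, gx, ← pow_mul, show 2 * 3 = 5 + 1 from rfl, pow_succ, ← A.ox,
        pow_orderOf_eq_one, one_mul]
    refine (cQ (γ.1.1 * g * γ.1.1⁻¹ * g⁻¹) (mul_mem (M.lx.norm _ (cz γ) _ (M.mem r2))
      (inv_mem (M.mem r2))) ?_).imp mul_inv_eq_one.1 mul_inv_eq_iff_eq_mul.1
    change _ * x = x * _
    calc _ = γ.1.1 * g * γ.1.1⁻¹ * g⁻¹ * (g * x ^ 3 * g⁻¹) := by rw [h3]
      _ = γ.1.1 * g * (γ.1.1⁻¹ * x ^ 3) * g⁻¹ := by group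
      _ = γ.1.1 * (g * x ^ 3 * g⁻¹) * (g * γ.1.1⁻¹ * g⁻¹) := by
          rw [((cx γ).inv_left.pow_right 3).eq]; group
      _ = _ := by rw [h3, (cx γ).eq]; group
  let s : centralizer ({t} : Set K) := ⟨⟨ψ pS, mK _ (by decide +kernel)⟩,
    mem_centralizer_singleton_iff.2 (Subtype.ext (cmP ψ _ _))⟩
  have sg : s.1.1 * g * s.1.1⁻¹ = ψ pT * g := by
    have := gψ pS (by decide +kernel)
    rw [← eqP ψ pT pS (pN * pS * pN⁻¹), mul_inv_eq_iff_eq_mul] at this
    change ψ pS * g * (ψ pS)⁻¹ = _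
    rw [mul_inv_eq_iff_eq_mul, mul_assoc, this, ← mul_assoc, ← mul_assoc, tt, one_mul]
  have hM : M0.index = 2 := index_eq_two_iff.2 ⟨s, fun b => by
    have e : (b * s).1.1 * g * (b * s).1.1⁻¹ = ψ pT * (b.1.1 * g * b.1.1⁻¹) := by
      calc _ = b.1.1 * (s.1.1 * g * s.1.1⁻¹) * b.1.1⁻¹ := by simp only [coe_mul]; group
        _ = _ := by rw [sg, ← mul_assoc, (ct b).eq]; group
    rw [mM, mM, e]
    rcases cg b with h | h <;> rw [h]
    · exact .inr ⟨rfl, by simpa using t1⟩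
    · exact .inl ⟨by rw [← mul_assoc, tt, one_mul], by simpa using t1⟩⟩
  have sM : s ∉ M0 := by rw [mM, sg]; simpa using t1
  have : M0.Normal := normal_of_index_eq_two hM
  let p : M0 →* Spor.Co1 := π.comp ((val.comp M0.subtype).codRestrict _ fun γ =>
    mem_centralizer_singleton_iff.2 (cz γ))
  have hr : ∀ γ, ∃ h, jHS h = p γ := fun γ => by
    have nV : sqNorm (Spor.leechV : Vec) = 48 := by decide +kernel
    have nU : sqNorm (Spor.leechU' : Vec) = 32 := by decide +kernel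
    have d : dotInt (Spor.leechU' : Vec) (Spor.leechV : Vec) = -16 := by decide +kernel
    obtain ⟨k, e, k1⟩ : ∃ k : Co0, (k : Spor.Co1) = p γ ∧ k • Spor.leechV = Spor.leechV := by
      obtain ⟨k, e⟩ := QuotientGroup.mk_surjective (p γ)
      obtain ⟨w, hw⟩ := M.congr r2 ((mM γ).1 γ.2 ▸ M.conj _ k e r2)
      have hn := co0_norm k Spor.leechV
      rcases (short_congr hw (by omega) (by omega) (by omega) (by omega)).2 (by omega) with h | h
      · exact ⟨k, e, h.symm⟩
      · exact ⟨negC * k, (co1_neg k).trans e, by rw [mul_smul, negC_smul, ← h]⟩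
    obtain ⟨w, hw⟩ := M.congr r1 (mul_inv_eq_iff_eq_mul.2 (ct γ).eq ▸ M.conj _ k e r1)
    have hn := co0_norm k Spor.leechU'
    have hd := co0_dot k Spor.leechU' Spor.leechV
    rcases (short_congr hw (by omega) (by omega) (by omega) (by omega)).2 (by omega) with h | h
    · exact ⟨⟨k.1, ⟨k.2, k1⟩, h.symm⟩, e⟩
    · rw [← neg_eq_iff_eq_neg.2 h, k1, AddSubgroup.coe_neg, dot_neg_left] at hd
      omega
  obtain ⟨θ, hθ⟩ := exists_hom_of_range jHS p hr (MonoidHom.id _) jHS_inj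
  have kθ : ∀ γ, θ γ = 1 ↔ γ.1.1.1 = 1 ∨ γ.1.1.1 = ψ pT := fun γ => by
    obtain ⟨h, e⟩ := hr γ
    constructor
    · intro h1
      rw [hθ γ h e, MonoidHom.id_apply] at h1
      rw [h1, map_one] at e
      exact cQ _ ((M.ker _).1 e.symm) (cx γ)
    · intro h1
      refine hθ γ 1 ((map_one _).trans ((M.ker _).2 ?_).symm)
      change γ.1.1.1 ∈ Q
      rcases h1 with h1 | h1 <;> rw [h1]
      exacts [one_mem _, M.mem r1]
  let m : SN →* M0 := (((ψ.comp SN.subtype).codRestrict K fun σ => mK _ σ.2.2.2).codRestrict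
    (centralizer ({t} : Set K)) fun σ => mem_centralizer_singleton_iff.2 (Subtype.ext
      (cmP ψ _ _ (mem_centralizer_singleton_iff.1 σ.2.2.1)))).codRestrict M0 fun σ =>
    mem_centralizer_singleton_iff.2 (mul_inv_eq_iff_eq_mul.1 ((gψ σ σ.2.2.2).trans (by
      rw [← mem_centralizer_singleton_iff.1 σ.2.1, mul_inv_cancel_right]; rfl))).symm
  have kη : ∀ σ, θ (m σ) = 1 → σ.1 = 1 ∨ σ.1 = pT := fun σ h =>
    ((kθ _).1 h).imp (fun e => A.inj (e.trans (map_one ψ).symm)) fun e => A.inj e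
  have oη : ∀ (σ : SN) (r : ℕ), r.Prime → σ.1 ^ r = 1 ∧ σ.1 ≠ 1 ∧ σ.1 ≠ pT →
      orderOf (θ (m σ)) = r := fun σ r hr h =>
    have := Fact.mk hr
    orderOf_eq_prime (by rw [← map_pow, ← map_pow, show σ ^ r = 1 from Subtype.ext h.1, map_one,
      map_one]) fun e => (kη σ e).elim h.2.1 h.2.2
  have cη : ∀ (σ τ : SN) (r : ℕ), σ.1 * τ.1 * σ.1⁻¹ = τ.1 ^ r →
      θ (m σ) * θ (m τ) * (θ (m σ))⁻¹ = θ (m τ) ^ r := fun σ τ r h => by
    simpa using congrArg (fun x => θ (m x)) (show σ * τ * σ⁻¹ = τ ^ r from Subtype.ext h)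
  have o7 := oη (en pY) 7 (by norm_num) (by decide +kernel)
  have cen : ∀ c : M0, Commute c (m (en pY)) →
      Commute c (m (en (sw [(5, 6), (6, 8), (7, 10), (10, 9)]))) → θ c = 1 := fun c h1 h2 => by
    obtain ⟨i, hi⟩ := hs_cent7 o7 (h1.map θ).eq
    have h3 := cη (en (sw [(5, 6), (6, 8), (7, 10), (10, 9)])) (en pY) 2 (by decide +kernel)
    have h4 := congrArg (· ^ i) h3
    simp only at hi
    simp only [conj_zpow, pow_two, (Commute.refl _).mul_zpow, hi] at h4
    rw [← (h2.map θ).eq, mul_inv_cancel_right] at h4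
    simpa using h4
  have zk : center M0 = θ.ker := le_antisymm (fun c hc => cen c (mem_center_iff.1 hc _).symm
      (mem_center_iff.1 hc _).symm) fun c hc => mem_center_iff.2 fun d => by
    refine Subtype.ext (Subtype.ext (Subtype.ext ?_))
    change d.1.1.1 * c.1.1.1 = c.1.1.1 * d.1.1.1
    rcases (kθ c).1 hc with h | h <;> rw [h]
    exacts [by simp, ct d]
  have tM : m (en pT) ≠ 1 := fun e => t1 (congrArg (fun c : M0 => c.1.1.1) e)
  have ck : Nat.card θ.ker = 2 := by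
    rw [show θ.ker = zpowers (m (en pT)) from ?_, Nat.card_zpowers]
    · exact orderOf_two tM (Subtype.ext (Subtype.ext (Subtype.ext tt)))
    refine le_antisymm (fun c hc => ?_) (zpowers_le.2 ((kθ _).2 (.inr rfl)))
    rcases (kθ c).1 hc with h | h
    · exact (show c = 1 from Subtype.ext (Subtype.ext (Subtype.ext h))) ▸ one_mem _
    · exact (show c = m (en pT) from Subtype.ext (Subtype.ext (Subtype.ext h))) ▸ mem_zpowers _
  have sθ : θ.range = ⊤ := by
    have : Finite Spor.HS := Nat.finite_of_card_ne_zero (by rw [H55.card_HS']; norm_num)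
    refine hs_full ?_ ⟨_, rfl⟩ ⟨_, rfl⟩ o7 (cη (en (pN * sw [(5, 7), (7, 6), (6, 10), (10, 8), (8, 9)]))
      _ 3 (by decide +kernel))
    have d1 : 512 ∣ Nat.card θ.range := by
      have h1 := M0.card_mul_index
      have h2 := θ.ker.card_mul_index
      have h3 : (centralizer ({t} : Set K)).map K.subtype = K ⊓ centralizer {ψ pT} := by
        ext c
        exact ⟨fun ⟨d, h, e⟩ => e ▸ ⟨d.2, mem_centralizer_singleton_iff.2 (ct ⟨d, h⟩)⟩, fun h =>
          ⟨⟨c, h.1⟩, mem_centralizer_singleton_iff.2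
            (Subtype.ext (mem_centralizer_singleton_iff.1 h.2)), rfl⟩⟩
      rw [← h3, card_map_of_injective (subtype_injective _), ← h1, ← h2, hM, ck, index_ker] at h11
      omega
    have d2 : 9 ∣ Nat.card θ.range := by
      refine nine_dvd (a := ⟨_, m (en (sw [(4, 5), (5, 6)])), rfl⟩)
        (b := ⟨_, m (en (sw [(7, 8), (8, 9)])), rfl⟩)
        ((orderOf_mk _ _).trans (oη _ 3 (by norm_num) (by decide +kernel))) (Subtype.ext ?_)
        (Subtype.ext ?_) ?_
      · exact oη (en (sw [(7, 8), (8, 9)])) 3 (by norm_num) (by decide +kernel) ▸ pow_orderOf_eq_one _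
      · exact mul_inv_eq_iff_eq_mul.1 ((cη _ _ 1 (by decide +kernel)).trans (pow_one _))
      · rintro ⟨i, hi⟩
        have h1 := kη ((en (sw [(7, 8), (8, 9)]))⁻¹ * en (sw [(4, 5), (5, 6)]) ^ i) (by
          rw [map_mul, map_mul, map_inv, map_inv, map_zpow, map_zpow, inv_mul_eq_one]
          exact (congrArg Subtype.val hi).symm)
        have h2 : ((sw [(7, 8), (8, 9)])⁻¹ * sw [(4, 5), (5, 6)] ^ i) 7 = 9 := by
          rw [Equiv.Perm.mul_apply, Equiv.Perm.zpow_apply_eq_self_of_apply_eq_self (by decide +kernel)]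
          decide +kernel
        rcases h1 with h1 | h1 <;>
          exact absurd ((congrArg (fun σ : Perm (Fin 12) => σ 7) h1).symm.trans h2) (by decide +kernel)
    have d3 : 5 ∣ Nat.card θ.range := oη (en (sw [(4, 5), (5, 6), (6, 7), (7, 8)])) 5 (by norm_num)
      (by decide +kernel) ▸ θ.range.orderOf_dvd_natCard ⟨_, rfl⟩
    have d4 : 7 ∣ Nat.card θ.range := o7 ▸ θ.range.orderOf_dvd_natCard ⟨_, rfl⟩
    exact Nat.Coprime.mul_dvd_of_dvd_of_dvd (by norm_num) (Nat.Coprime.mul_dvd_of_dvd_of_dvd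
      (by norm_num) (Nat.Coprime.mul_dvd_of_dvd_of_dvd (by norm_num) d1 d2) d3) d4
  refine hn_of t (orderOf_two (fun e => t1 (congrArg Subtype.val e)) (Subtype.ext tt)) M0 hM
    (fun c hc => ?_) ⟨zk ▸ ck, ⟨(QuotientGroup.quotientMulEquivOfEq zk).trans
      (QuotientGroup.quotientKerEquivOfSurjective θ (MonoidHom.range_eq_top.1 sθ))⟩, fun L hL => ?_⟩
    ⟨s, isConj_iff.2 ⟨⟨_, mK (sw [(1, 2), (8, 9)]) (by decide +kernel)⟩,
      Subtype.ext (cjP ψ _ pT pS)⟩, fun e => absurd (A.inj (congrArg Subtype.val e))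
        (by decide +kernel), mem_centralizer_singleton_iff.1 s.2⟩
  · by_contra hn
    have h1 : c * s ∈ M0 := (mul_mem_iff_of_index_two hM).2 (iff_of_false hn sM)
    have h2 : ∀ σ : SN, pS * σ.1 = σ.1 * pS → Commute (⟨_, h1⟩ : M0) (m σ) := fun σ h =>
      Subtype.ext (Commute.mul_left (hc _ (m σ).2).symm (Subtype.ext (Subtype.ext (cmP ψ _ _ h))))
    have h3 := (kθ _).1 (cen _ (h2 _ (by decide +kernel)) (h2 _ (by decide +kernel)))
    have h4 : Commute c.1.1 (ψ (pN * sw [(4, 5)])) :=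
      congrArg (fun c : centralizer ({t} : Set K) => c.1.1) (hc _ (m (en (pN * sw [(4, 5)]))).2).symm
    have h5 : Commute (c.1.1 * ψ pS) (ψ (pN * sw [(4, 5)])) := by
      rcases h3 with h | h <;> rw [show c.1.1 * ψ pS = _ from h]
      exacts [Commute.one_left _, cmP ψ _ _]
    have h6 := (h4.inv_left.mul_left h5).eq
    rw [inv_mul_cancel_left, ← map_mul, ← map_mul] at h6
    exact absurd (A.inj h6) (by decide +kernel)
  · have h1 := mul_self_mem_of_index_two (hL.index_eq_card.trans (zk ▸ ck))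
      (m (en (pN * sw [(4, 5)])))
    rw [← map_mul, show en (pN * sw [(4, 5)]) * en (pN * sw [(4, 5)]) = en pT from
      Subtype.ext (by decide +kernel)] at h1
    exact tM (disjoint_def.1 hL.disjoint (zk ▸ (kθ _).2 (.inr rfl)) h1)

end Cfsg.Agent.H58.HnM
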