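/-
The Thompson group and the Held group inside a group of Monster type.
-/
import Cfsg.Agent.H15.Monster5
import Cfsg.Agent.H15.CenCo3B
import Cfsg.Agent.H15.He7.Main
import Cfsg.Agent.TH.Top
import Cfsg.Agent.S2049
import Cfsg.Agent.S2057
import Cfsg.Agent.S2083
import Cfsg.Agent.S1695

set_option autoImplicit false

namespace Cfsg.Agent.H58.MT

open Subgroup H15 H14 H97

/-- a central extension of a perfect group with trivial multiplier splits -/
theorem bij_comm {C S : Type} [Group C] [Finite C] [Group S] (hS : HasCyclicSchurMultiplier S 1)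
    (hp : commutator S = ⊤) (f : C →* S) (hf : Function.Surjective f) (hk : f.ker ≤ center C) :
    Function.Bijective (f.comp (commutator C).subtype) := by
  have h1 : Function.Surjective (f.comp (commutator C).subtype) := by
    rw [← MonoidHom.range_eq_top, MonoidHom.range_comp, range_subtype, map_commutator_eq,
      MonoidHom.range_eq_top.2 hf]
    exact hp
  have h2 : ∀ a : C, ∃ a' : commutator C, (a' : C)⁻¹ * a ∈ center C := fun a => by
    obtain ⟨a', e⟩ := h1 (f a)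
    exact ⟨a', hk (by rw [MonoidHom.mem_ker, map_mul, map_inv, ← e]; exact inv_mul_cancel _)⟩
  have h3 : commutator C ≤ (commutator (commutator C)).map (commutator C).subtype := by
    rw [commutator_def, commutator_le]
    intro a _ b _
    obtain ⟨a', ha⟩ := h2 a
    obtain ⟨b', hb⟩ := h2 b
    refine ⟨a' * b' * a'⁻¹ * b'⁻¹, commutator_mem_commutator (mem_top a') (mem_top b'), ?_⟩
    have e1 := mem_center_iff.1 ha
    have e2 := mem_center_iff.1 hb
    change (a' : C) * b' * (a' : C)⁻¹ * (b' : C)⁻¹ = a * b * a⁻¹ * b⁻¹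
    generalize (a' : C) = u at *
    generalize (b' : C) = v at *
    obtain ⟨y, rfl⟩ : ∃ y, a = u * y := ⟨u⁻¹ * a, by group⟩
    obtain ⟨w, rfl⟩ : ∃ w, b = v * w := ⟨v⁻¹ * b, by group⟩
    rw [inv_mul_cancel_left] at e1 e2
    calc _ = u * (v * y) * (w * y⁻¹) * (u⁻¹ * w⁻¹) * v⁻¹ * 1 := by
          rw [e2 y⁻¹ |>.symm, ← mul_inv_rev w u, ← e2 u]; group
      _ = _ := by rw [e1 v]; group
  obtain ⟨π, hπ⟩ := hS.2 _ (f.comp (commutator C).subtype) ⟨h1,
    fun a ha => mem_center_iff.2 fun b => Subtype.ext (mem_center_iff.1 (hk ha) b), fun a _ => by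
      obtain ⟨b, hb, e⟩ := h3 a.2
      rwa [← show b = a from Subtype.ext e]⟩
  refine ⟨(injective_iff_map_eq_one _).2 fun a ha => ?_, h1⟩
  obtain ⟨i, hi⟩ := hπ ⟨a, ha⟩
  rw [Subsingleton.elim i 1, map_one] at hi
  exact (congrArg Subtype.val hi).symm

theorem perfect_of_simple {S : Type*} [Group S] [IsSimpleGroup S] (h : ¬ (Nat.card S).Prime)
    [Finite S] : commutator S = ⊤ := by
  refine (Normal.eq_bot_or_eq_top inferInstance).resolve_left fun e => h ?_
  have : ∀ a b : S, a * b = b * a := fun a b =>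
    commutatorElement_eq_one_iff_mul_comm.1 (mem_bot.1 (e ▸ commutator_mem_commutator (mem_top a) (mem_top b)))
  let : CommGroup S := { (inferInstance : Group S) with mul_comm := this }
  exact IsSimpleGroup.prime_card

variable {G : Type} [Group G] [Finite G]

/-- the complement of `⟨β⟩` in its centraliser -/
theorem exists_K {S : Type} [Group S] (hS : HasCyclicSchurMultiplier S 1) (hp : commutator S = ⊤)
    (β : G) [(( zpowers β).subgroupOf (centralizer (zpowers β : Set G))).Normal]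
    (e : centralizer (zpowers β : Set G) ⧸ (zpowers β).subgroupOf (centralizer (zpowers β : Set G)) ≃* S) :
    ∃ K : Subgroup G, K = ⁅centralizer ({β} : Set G), centralizer ({β} : Set G)⁆ ∧
      Nonempty (K ≃* S) ∧ Nat.card (centralizer ({β} : Set G)) = orderOf β * Nat.card S ∧
      ∀ c ∈ centralizer ({β} : Set G), ∃ k ∈ K, k⁻¹ * c ∈ zpowers β := by
  have hc : centralizer (zpowers β : Set G) = centralizer {β} := by
    rw [zpowers_eq_closure, centralizer_closure]
  let f := e.toMonoidHom.comp (QuotientGroup.mk' _)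
  have hf : Function.Surjective f := e.surjective.comp (QuotientGroup.mk'_surjective _)
  have hk : ∀ c, f c = 1 ↔ (c : G) ∈ zpowers β := fun c => by
    simp [f, mem_subgroupOf]
  have hb := bij_comm hS hp f hf fun c h => mem_center_iff.2 fun d => Subtype.ext
    (d.2 _ ((hk c).1 h)).symm
  have hle : zpowers β ≤ centralizer (zpowers β : Set G) := by
    rw [hc]; exact zpowers_le.2 (mem_centralizer_singleton_iff.2 rfl)
  refine ⟨(commutator _).map (centralizer (zpowers β : Set G)).subtype, ?_,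
    ⟨(equivMapOfInjective _ _ (subtype_injective _)).symm.trans (MulEquiv.ofBijective _ hb)⟩, ?_,
    fun c h => ?_⟩
  · rw [map_subtype_commutator, hc]
  · rw [← hc, ← Nat.card_congr e.toEquiv, card_eq_card_quotient_mul_card_subgroup
      ((zpowers β).subgroupOf _), Nat.card_congr (subgroupOfEquivOfLe hle).toEquiv,
      Nat.card_zpowers, mul_comm]
  · have h' : c ∈ centralizer (zpowers β : Set G) := hc ▸ h
    obtain ⟨k, e⟩ := hb.2 (f ⟨c, h'⟩)
    refine ⟨k.1, ⟨k, k.2, rfl⟩, (hk (k.1⁻¹ * ⟨c, h'⟩)).1 ?_⟩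
    rw [map_mul, map_inv, ← e]
    exact inv_mul_cancel _

theorem real3 {b : M24} (h : orderOf b = 3) : IsConj b b⁻¹ := by
  obtain ⟨c, hc, ⟨a, ha, e⟩, o, -, n⟩ := m24_rep b.2
  obtain ⟨c', hc', ⟨a', ha', e'⟩, o', -, n'⟩ := m24_rep b⁻¹.2
  have h1 : centralizer ({(b⁻¹ : M24).1} : Set (Equiv.Perm GolayPt)) = centralizer {b.1} := by
    ext y
    simp only [mem_centralizer_singleton_iff]
    exact Commute.inv_right_iff
  rw [h1, n] at n'
  rw [orderOf_coe, h] at o
  rw [orderOf_coe, orderOf_inv, h] at o'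
  have k : allL m24Cl (fun c => allL m24Cl fun c' =>
      !(Nat.beq (ordN (nat_lit 5) (nat_lit 32) (nat_lit 24) c.X 24) 3) ||
      !(Nat.beq (ordN (nat_lit 5) (nat_lit 32) (nat_lit 24) c'.X 24) 3) ||
      !(Nat.beq c.c c'.c) || Nat.beq c.X c'.X) = true := by decide +kernel
  have := allL_iff.1 (allL_iff.1 k c hc) c' hc'
  rw [← o, ← o', n'] at this
  have e2 : c.X = c'.X := by simpa using this
  refine isConj_iff.2 ⟨⟨a', ha'⟩ * ⟨a, ha⟩⁻¹, Subtype.ext ?_⟩
  change a' * a⁻¹ * b.1 * (a' * a⁻¹)⁻¹ = _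
  rw [← e, ← e', e2]
  group

/-- lifting an element of odd prime order and an element inverting it -/
theorem lift_real {A B : Type*} [Group A] [Finite A] [Group B] (χ : A →* B)
    (hs : Function.Surjective χ) {n p : ℕ} (hk : Nat.card χ.ker = 2 ^ n) (hp : p.Prime) (ho : Odd p)
    {b : B} (hb : orderOf b = p) (hr : IsConj b b⁻¹) :
    ∃ β : A, orderOf β = p ∧ χ β = b ∧ IsConj β β⁻¹ := by
  have : Fact p.Prime := ⟨hp⟩
  have cop : (2 ^ n).Coprime p := (Nat.coprime_two_left.2 ho).pow_left _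
  obtain ⟨g, hg⟩ := isConj_iff.1 hr
  obtain ⟨g, rfl⟩ := hs g
  let T := (zpowers b).comap χ
  have cT : Nat.card T = 2 ^ n * p := by
    rw [← hk, ← hb, ← Nat.card_zpowers, ← (χ.ker.subgroupOf T).card_mul_index,
      Nat.card_congr (subgroupOfEquivOfLe (ker_le_comap _ _)).toEquiv, ← relIndex, relIndex_ker,
      map_comap_eq_self_of_surjective hs]
  obtain ⟨β, hβ⟩ := exists_prime_orderOf_dvd_card' (G := T) p (cT ▸ dvd_mul_left _ _)
  have h1 : orderOf (χ β) = p := orderOf_map_of_ker χ hk hp ho (by rw [orderOf_coe, hβ])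
  have hT : ∀ y ∈ zpowers b, χ g * y * (χ g)⁻¹ = y⁻¹ := by
    rintro _ ⟨i, rfl⟩
    simp only
    rw [← conj_zpow, hg, inv_zpow]
  have m : g * β * g⁻¹ ∈ T := by
    rw [mem_comap, map_mul, map_mul, map_inv, hT _ β.2]
    exact inv_mem β.2
  obtain ⟨j, hj⟩ := exists_isConj_zpow (K := T) hp (by
      rw [cT, Nat.factorization_mul (by positivity) hp.ne_zero, Finsupp.add_apply,
        hp.factorization_self, Nat.factorization_eq_zero_of_not_dvd
          ((hp.coprime_iff_not_dvd.1 cop.symm))]) hβ (y := ⟨_, m⟩)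
    (by rw [orderOf_mk, ← MulAut.conj_apply, MulEquiv.orderOf_eq, orderOf_coe, hβ])
  obtain ⟨c, hc⟩ := isConj_iff.1 hj
  have e1 : (c : A) * β ^ j * (c : A)⁻¹ = g * β * g⁻¹ := congrArg Subtype.val hc
  have e2 : χ (β ^ j) = χ (β⁻¹) := by
    have := congrArg χ e1
    obtain ⟨i, hi⟩ := c.2
    obtain ⟨l, hl⟩ := β.2
    simp only [map_mul, map_inv, map_zpow] at this ⊢ hi hl
    rw [hT _ β.2, ← hi, ← hl, ← zpow_mul, ← zpow_add, ← zpow_neg, ← zpow_add] at this
    rw [← hl, ← zpow_mul, ← this]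
    congr 1
    ring
  have e3 : (β : A) ^ j = (β : A)⁻¹ := by
    have : (β : A) ^ (j + 1) = 1 := by
      rw [← orderOf_dvd_iff_zpow_eq_one, orderOf_coe, hβ, ← h1, orderOf_dvd_iff_zpow_eq_one,
        ← map_zpow, zpow_add, map_mul, e2, zpow_one, ← map_mul, inv_mul_cancel, map_one]
    rwa [zpow_add, zpow_one, mul_eq_one_iff_eq_inv] at this
  have r : IsConj (β : A) (β : A)⁻¹ :=
    isConj_iff.2 ⟨(c : A)⁻¹ * g, by rw [← e3]; rw [mul_inv_rev, inv_inv]; calc
      _ = (c : A)⁻¹ * (g * β * g⁻¹) * c := by group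
      _ = _ := by rw [← e1]; group⟩
  have hb' : b ∈ zpowers (χ β) := by
    have : Finite B := Finite.of_surjective χ hs
    rw [eq_of_le_of_card_ge (zpowers_le.2 β.2 : zpowers (χ β) ≤ zpowers b)
      (by rw [Nat.card_zpowers, Nat.card_zpowers, h1, hb])]
    exact mem_zpowers b
  obtain ⟨i, hi⟩ := hb'
  have e4 : χ ((β : A) ^ i) = b := by rw [map_zpow]; exact hi
  refine ⟨β ^ i, orderOf_eq_prime ?_ fun e => ?_, e4, ?_⟩
  · rw [← zpow_natCast, ← zpow_mul, mul_comm, zpow_mul, zpow_natCast, ← hβ, ← orderOf_coe,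
      pow_orderOf_eq_one, one_zpow]
  · rw [e, map_one] at e4
    rw [← e4, orderOf_one] at hb
    exact hp.one_lt.ne hb
  · obtain ⟨d, hd⟩ := isConj_iff.1 r
    exact isConj_iff.2 ⟨d, by rw [← conj_zpow, hd, inv_zpow]⟩

theorem th (h : IsGroupOfMonsterType G) : ∃ x : G, orderOf x = 3 ∧
    Nat.card (centralizer ({x} : Set G)) = 272237831663616000 ∧ ∃ K ≤ centralizer ({x} : Set G),
      Nonempty (K ≃* Spor.Th) ∧ ∃ v, orderOf v = 2 ∧ K ≤ centralizer {v} := by
  obtain ⟨z, Q, _, h0, e, ψ, hψ⟩ := h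
  have M := md_of_iso h0 hψ
  obtain ⟨-, -, -, -, g, ⟨h1, h2⟩, hs1⟩ := h0
  obtain ⟨b, hb, -, F, φ, hφ, hφk⟩ := cenCo3B
  obtain ⟨χ, c1, c2, c3⟩ := M.exists_chi ⟨_, h2, rfl⟩ hs1
  obtain ⟨β, o, eb, r⟩ := lift_real χ c1 c2 Nat.prime_three (by decide) hb (real3 hb)
  have o' : β ^ 3 = 1 := o ▸ pow_orderOf_eq_one β
  obtain ⟨k, hk⟩ := c3 β 3 Nat.prime_three (by decide) o' b (eb ▸ IsConj.refl _)
  have : ((zpowers (β : G)).subgroupOf (centralizer (zpowers (β : G) : Set G))).Normal :=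
    ⟨fun a ha c => by
      rw [mem_subgroupOf] at ha ⊢
      rwa [coe_mul, coe_mul, ← c.2 _ ha, coe_inv, mul_inv_cancel_right]⟩
  obtain ⟨y, S, hS, ⟨d1, d2, d3, d4, u, ⟨u1, -⟩, u2⟩, ⟨d5⟩, -⟩ := M.reduce ⟨_, h2, rfl⟩ hs1
    Nat.prime_three (by decide) o' hb hk (w := 4) (by norm_num) F φ hφ hφk rfl
  obtain ⟨ψ', hy⟩ := TH.hyp_of_Q d1 S d3 d4 (d2 ▸ H44.centralizer_gfitting_le) d5
  obtain ⟨μ, hμ, -⟩ := TH.exists_mu hy u2 u1
  obtain ⟨⟨e'⟩, -⟩ := hμ.iso
  have := H17.ThS.simple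
  have : Finite Spor.Th := Nat.finite_of_card_ne_zero (by rw [H17.ThE.card_eq]; norm_num)
  have pf : commutator Spor.Th = ⊤ := perfect_of_simple (by rw [H17.ThE.card_eq]; norm_num)
  obtain ⟨K, eK, ⟨i⟩, cC, dec⟩ := exists_K S2057.result pf (β : G) e'
  have oG : orderOf (β : G) = 3 := by rw [orderOf_coe, o]
  have hle : K ≤ centralizer {(β : G)} := eK ▸ commutator_le.2 fun a ha b hb =>
    mul_mem (mul_mem (mul_mem ha hb) (inv_mem ha)) (inv_mem hb)
  refine ⟨β, oG, by rw [cC, oG, H17.ThE.card_eq], K, hle, ⟨i⟩, ?_⟩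
  obtain ⟨d, hd⟩ : ∃ d : G, d * β * d⁻¹ = (β : G)⁻¹ := by
    obtain ⟨d, hd⟩ := isConj_iff.1 r
    exact ⟨d, congrArg Subtype.val hd⟩
  have nC : ∀ d : G, d * β * d⁻¹ = (β : G)⁻¹ → ∀ c ∈ centralizer ({(β : G)} : Set G),
      d⁻¹ * c * d ∈ centralizer ({(β : G)} : Set G) := fun d hd c hc => by
    rw [mem_centralizer_singleton_iff] at hc ⊢
    have : c * (d * β * d⁻¹) = (d * β * d⁻¹) * c := by rw [hd]; exact (Commute.inv_right hc).eq
    calc _ = d⁻¹ * (c * (d * β * d⁻¹)) * d := by group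
      _ = _ := by rw [this]; group
  have hd' : d⁻¹ * β * d⁻¹⁻¹ = (β : G)⁻¹ := by
    calc _ = d⁻¹ * (d * β * d⁻¹)⁻¹ * d * (d⁻¹ * (d * β * d⁻¹) * β * d) := by group
      _ = _ := by
        rw [hd, mul_assoc d⁻¹ (β : G)⁻¹, inv_mul_cancel, mul_one, inv_mul_cancel, mul_one, ← hd]
        calc _ = d⁻¹ * (d * β * d⁻¹)⁻¹⁻¹⁻¹ * d := by rw [inv_inv]
          _ = (β : G)⁻¹ := by group
          _ = _ := hd.symm
  have nK : ∀ d : G, d * β * d⁻¹ = (β : G)⁻¹ → ∀ c ∈ K, d⁻¹ * c * d ∈ K := fun d hd c hc => by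
    have : K ≤ K.comap (MulAut.conj d⁻¹).toMonoidHom := by
      rw [eK, commutator_le]
      intro a ha b hb
      rw [mem_comap, map_commutatorElement]
      exact commutator_mem_commutator (by simpa using nC d hd a ha) (by simpa using nC d hd b hb)
    simpa using this hc
  have hn : d ∈ normalizer (K : Set G) := mem_normalizer_iff.2 fun c =>
    ⟨fun h => by simpa using nK _ hd' c h, fun h => by simpa [mul_assoc] using nK _ hd _ h⟩
  have hI : Inn Spor.Th = ⊤ := index_eq_one.1 S2083.result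
  obtain ⟨w, hw⟩ := hI.ge (mem_top (i.symm.trans ((K.normalizerMonoidHom ⟨d, hn⟩).trans i)))
  have cv : ∀ c ∈ K, c * ((i.symm w : G)⁻¹ * d) = (i.symm w : G)⁻¹ * d * c := fun c hc => by
    have := congrArg (fun a => (i.symm (a (i ⟨c, hc⟩)) : G)) hw
    simp only [MulAut.conj_apply, map_mul, map_inv, MulEquiv.symm_apply_apply, coe_mul, coe_inv,
      MulEquiv.trans_apply] at this
    have e2 : ((K.normalizerMonoidHom ⟨d, hn⟩ ⟨c, hc⟩ : K) : G) = d * c * d⁻¹ := rfl
    rw [e2] at this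
    calc _ = (i.symm w : G)⁻¹ * (i.symm w * c * (i.symm w : G)⁻¹) * d := by group
      _ = _ := by rw [this]; group
  set v := (i.symm w : G)⁻¹ * d with hv
  have v1 : v * β * v⁻¹ = (β : G)⁻¹ := by
    have := mem_centralizer_singleton_iff.1 (hle (i.symm w).2)
    calc _ = (i.symm w : G)⁻¹ * (d * β * d⁻¹) * i.symm w := by rw [hv]; group
      _ = _ := by rw [hd, mul_assoc, ← (Commute.inv_right this).eq]; group
  have v2 : v * v ∈ centralizer ({(β : G)} : Set G) := by
    rw [mem_centralizer_singleton_iff]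
    have := congrArg (·⁻¹) v1
    simp only [conj_inv, inv_inv] at this
    calc _ = v * (v * β * v⁻¹) * v := by group
      _ = v * (β : G)⁻¹ * v⁻¹ * (v * v) := by rw [v1]; group
      _ = _ := by rw [← conj_inv, v1, inv_inv]
  obtain ⟨k', hk', j, hj⟩ := dec _ v2
  simp only at hj
  have k1 : k' = 1 := by
    have : i ⟨k', hk'⟩ ∈ center Spor.Th := mem_center_iff.2 fun s => by
      obtain ⟨⟨c, hc⟩, rfl⟩ := i.surjective s
      rw [← map_mul, ← map_mul]
      refine congrArg i (Subtype.ext ?_)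
      have c1 : Commute c (v * v) := Commute.mul_right (cv c hc) (cv c hc)
      have c2 : Commute c ((β : G) ^ j) :=
        Commute.zpow_right (mem_centralizer_singleton_iff.1 (hle hc)) j
      have : k' = v * v * ((β : G) ^ j)⁻¹ := by rw [hj]; group
      change c * k' = k' * c
      rw [this]
      exact c1.mul_right c2.inv_right
    have zb : center Spor.Th = ⊥ := (Normal.eq_bot_or_eq_top inferInstance).resolve_right fun e => by
      have h3 : commutator Spor.Th = ⊥ := by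
        rw [commutator_eq_bot_iff_center_eq_top]; exact e
      exact bot_ne_top (h3.symm.trans pf)
    rw [zb, mem_bot, MulEquiv.map_eq_one_iff] at this
    exact congrArg Subtype.val this
  rw [k1, inv_one, one_mul] at hj
  have o3 : (β : G) ^ 3 = 1 := oG ▸ pow_orderOf_eq_one _
  refine ⟨v, orderOf_eq_prime ?_ fun e => ?_, fun c hc => mem_centralizer_singleton_iff.2 (cv c hc)⟩
  · rw [pow_two]
    have : v * (β : G) ^ j * v⁻¹ = ((β : G) ^ j)⁻¹ := by rw [← conj_zpow, v1, inv_zpow]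
    have h3 : ((β : G) ^ j) ^ 3 = 1 := by
      rw [← zpow_natCast, ← zpow_mul, mul_comm, zpow_mul, zpow_natCast, o3, one_zpow]
    rw [hj] at this h3
    have h2 : v * v * (v * v) = 1 := by rw [mul_eq_one_iff_eq_inv, ← this]; group
    rwa [pow_succ, pow_two, h2, one_mul] at h3
  · rw [e, one_mul, inv_one, mul_one, ← mul_eq_one_iff_eq_inv, ← pow_two,
      ← orderOf_dvd_iff_pow_eq_one, oG] at v1
    omega

theorem he (h : IsGroupOfMonsterType G) : ∃ x : G, orderOf x = 7 ∧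
    ∃ K ≤ centralizer ({x} : Set G), Nonempty (K ≃* Spor.He) := by
  obtain ⟨z, Q, _, h0, e, ψ, hψ⟩ := h
  have M := md_of_iso h0 hψ
  obtain ⟨-, -, -, -, g, ⟨h1, h2⟩, hs1⟩ := h0
  obtain ⟨χ, c1, c2, -⟩ := M.exists_chi ⟨_, h2, rfl⟩ hs1
  have cc := card_of_chi χ c1 c2
  have : Fact (Nat.Prime 7) := ⟨by norm_num⟩
  obtain ⟨β, o⟩ := exists_prime_orderOf_dvd_card' (G := centralizer ({z, g * z * g⁻¹} : Set G)) 7
    (by rw [cc]; norm_num)
  have : ((zpowers (β : G)).subgroupOf (centralizer (zpowers (β : G) : Set G))).Normal :=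
    ⟨fun a ha c => by
      rw [mem_subgroupOf] at ha ⊢
      rwa [coe_mul, coe_mul, ← c.2 _ ha, coe_inv, mul_inv_cancel_right]⟩
  have oG : orderOf (β : G) = 7 := by rw [orderOf_coe, o]
  obtain ⟨e'⟩ := M.isoHe ⟨_, h2, rfl⟩ hs1 (B := zpowers (β : G)) (zpowers_le.2 β.2)
    (by rw [cc, Nat.card_zpowers, oG]; decide +kernel)
  have := S1695.result.1
  have : Finite Spor.He := Nat.finite_of_card_ne_zero (by rw [S1695.result.2]; norm_num)
  obtain ⟨K, eK, i, -⟩ := exists_K S2049.result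
    (perfect_of_simple (by rw [S1695.result.2]; norm_num)) (β : G) e'
  exact ⟨β, oG, K, eK ▸ commutator_le.2 fun a ha b hb =>
    mul_mem (mul_mem (mul_mem ha hb) (inv_mem ha)) (inv_mem hb), i⟩

end Cfsg.Agent.H58.MT
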