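import Cfsg.Agent.H58.Util
import Cfsg.Prelude.Def_Spor_ON
import Cfsg.Agent.H58.Util4
import Cfsg.Agent.H58.Mod.ONM
import Cfsg.Agent.H58.Cert.ON1
import Cfsg.Agent.H58.Cert.ONS
import Cfsg.Agent.H58.Cert.ONS2

set_option autoImplicit false
set_option Elab.async false
set_option maxRecDepth 100000
set_option linter.constructorNameAsVariable false
set_option exponentiation.threshold 400000

namespace Cfsg.Agent.H58.ONP

open Cfsg Cfsg.Agent.H58

def code : Spor.ON.Gen → ℕ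
  | .a => 1
  | .b => 2
  | .c => 3
  | .d => 4
  | .e => 5
  | .f => 6
  | .g => 7

def L : List (FreeGroup Spor.ON.Gen) := [1, Spor.ON.a, Spor.ON.b, Spor.ON.c, Spor.ON.d, Spor.ON.e, Spor.ON.f, Spor.ON.g, Spor.ON.g⁻¹]

def allG : List Spor.ON.Gen := [.a, .b, .c, .d, .e, .f, .g]

theorem hall : ∀ g, g ∈ allG := by intro g; cases g <;> decide

def iv : ℕ := 2005926962536512

def rels : List (List ℕ) := [[1, 2, 1, 2, 1, 2],
  [1, 3, 1, 3],
  [1, 4, 1, 4],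
  [1, 5, 1, 5],
  [1, 6, 1, 6],
  [2, 3, 2, 3, 2, 3],
  [2, 4, 2, 4],
  [2, 5, 2, 5],
  [2, 6, 2, 6],
  [3, 4, 3, 4, 3, 4, 3, 4, 3, 4, 3, 4, 3, 4, 3, 4],
  [3, 5, 3, 5],
  [3, 6, 3, 6],
  [4, 5, 4, 5, 4, 5],
  [4, 6, 4, 6],
  [5, 6, 5, 6, 5, 6],
  [1, 6, 8, 8],
  [1, 6, 4, 3, 4, 3, 4, 3, 4, 3],
  [3, 8, 4, 8, 4, 3, 4, 7, 4, 7],
  [4, 8, 3, 8, 3, 4, 3, 7, 3, 7],
  [2, 3, 4, 7, 2, 3, 4, 7, 2, 3, 4, 7, 2, 3, 4, 7, 2, 3, 4, 7],
  [7, 2, 3, 7, 3, 2, 7, 2, 3, 7, 3],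
  [7, 5, 4, 7, 4, 5, 7, 5, 4, 7, 4]]

theorem pres : presOK L (coxAll Spor.ON.edges ++ Spor.ON.extra) code iv allG rels = true := by
  decide +kernel

/-- the projection from the free group -/
abbrev π : FreeGroup Spor.ON.Gen →* Spor.ON :=
  PresentedGroup.mk (Spor.coxRelators Spor.ON.edges ∪ {r | r ∈ Spor.ON.extra})

/-- the letters: 1 = a, 2 = b, 3 = c, 4 = d, 5 = e, 6 = f, 7 = g, 8 = G -/
def el : ℕ → Spor.ON := elOf π L

theorem R : RuleOK el rels iv := ruleOK_of_presOK π hall (mk_allRels _ _) pres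

theorem hc : ∀ g, el (code g) = π (FreeGroup.of g) ∧ code g < 64 := code_of_presOK π hall pres

theorem eq_top (K : Subgroup Spor.ON) (h : ∀ x ∈ ([1, 2, 3, 4, 5, 6, 7] : List ℕ), el x ∈ K) : K = ⊤ :=
  closure_letters_eq_top hc K (by intro g; cases g <;> exact h _ (by decide))

theorem hgen : Subgroup.closure (Set.range el) = ⊤ :=
  eq_top _ fun x _ => Subgroup.subset_closure ⟨x, rfl⟩

theorem homM : homOK L (coxAll Spor.ON.edges ++ Spor.ON.extra) code ONM.iv ONM.rels ONM.wit ONM.nets.length = true := by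
  decide +kernel

/-- the action on 122760 points -/
noncomputable def M : Model Spor.ON :=
  coxModel Spor.ON.edges Spor.ON.extra L ONM.nets 122760 ONM.netsOK ONM.ruleN (fun g => (hc g).2) homM

section
variable {G : Type*} [Group G] {e : ℕ → G} (Q : RuleOK e rels iv)
include Q

theorem a_mem {K : Subgroup G} (h : ∀ x ∈ ([2, 3, 4] : List ℕ), e x ∈ K) : e 1 ∈ K :=
  ON6.goal1 Q K h

theorem f_mem {K : Subgroup G} (h : ∀ x ∈ ([2, 3, 4] : List ℕ), e x ∈ K) : e 6 ∈ K :=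
  ON6.goal6 Q K h

theorem card_cd : Finite (clL e [3, 4]) ∧ Nat.card (clL e [3, 4]) ≤ 16 :=
  card_step card_le_bot (ON4.relIndex_le Q ⊥ (forall_nil _))

theorem card_bcd : Finite (clL e [2, 3, 4]) ∧ Nat.card (clL e [2, 3, 4]) ≤ 672 :=
  card_step (card_cd Q) (ON3.relIndex_le Q _ (mem_clL e [3, 4] _ (by decide)))

theorem card_bcde : Finite (clL e [2, 3, 4, 5]) ∧ Nat.card (clL e [2, 3, 4, 5]) ≤ 3753792 :=
  card_step (card_bcd Q) (ON2.relIndex_le Q _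
    (forall_cons (a_mem Q (mem_clL e _ _ (by decide))) (forall_cons (el_mem_closure e _ 2 (by decide))
      (forall_cons (el_mem_closure e _ 3 (by decide)) (forall_cons (el_mem_closure e _ 4 (by decide))
        (forall_cons (f_mem Q (mem_clL e _ _ (by decide))) (forall_nil' _)))))))

end

theorem top_eq {K : Subgroup Spor.ON} (h : ∀ x ∈ ([2, 3, 4, 5, 7] : List ℕ), el x ∈ K) : K = ⊤ :=
  eq_top _ (forall_cons (a_mem R fun x hx => h x (by revert x; decide))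
    (forall_cons (h _ (by decide)) (forall_cons (h _ (by decide)) (forall_cons (h _ (by decide))
      (forall_cons (h _ (by decide)) (forall_cons (f_mem R fun x hx => h x (by revert x; decide))
        fun x hx => h x (by revert x; decide)))))))

/-- the subgroup L3(7):2 generated by a, …, f -/
abbrev H : Subgroup Spor.ON := clL el [1, 2, 3, 4, 5, 6]

theorem H_eq : H = clL el [2, 3, 4, 5] :=
  le_antisymm (clL_le (forall_cons (a_mem R (mem_clL el _ _ (by decide)))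
    (forall_cons (el_mem_closure el _ 2 (by decide))
      (forall_cons (el_mem_closure el _ 3 (by decide)) (forall_cons (el_mem_closure el _ 4 (by decide))
        (forall_cons (el_mem_closure el _ 5 (by decide))
          (forall_cons (f_mem R (mem_clL el _ _ (by decide))) (forall_nil' _))))))))
    (clL_mono el _ _ (by decide))

theorem relIndex_H : H.relIndex ⊤ ≠ 0 ∧ H.relIndex ⊤ ≤ 122760 :=
  relIndex_top_of (top_eq (mem_clL el [2, 3, 4, 5, 7] _ (by decide)))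
    (ON1.relIndex_le R H (mem_clL el _ _ (by decide)))

theorem card_H_le : Finite H ∧ Nat.card H ≤ 3753792 := card_congr H_eq.symm (card_bcde R)

theorem card_le : Finite Spor.ON ∧ Nat.card Spor.ON ≤ 460815505920 :=
  card_top_le rfl (card_step card_H_le relIndex_H)

theorem finite : Finite Spor.ON := card_le.1

theorem lf0 : fixErr ONM.nets [[1], [2], [3], [4], [5], [6], [7]] [] = 0 := by decide +kernel
theorem lo0 : orbErr ONM.nets [[1], [2], [3], [4], [5], [6], [7]] [6, 1, 2, 3, 4, 6, 1, 3, 2, 5, 0, 1, 3, 4, 6, 2, 3, 6, 1, 4, 2, 6, 3, 1, 0, 6, 4, 2, 1, 3] 0 17 122760 = 0 := by decide +kernel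
theorem lf1 : fixErr ONM.nets [[6], [2], [1], [3], [4], [5]] [0] = 0 := by decide +kernel
theorem lo1 : orbErr ONM.nets [[6], [2], [1], [3], [4], [5]] [1, 3, 4, 5, 0, 4, 3, 1, 2, 4, 5, 3, 1, 4, 3, 0, 5, 4, 1, 2, 0, 5, 3, 1, 0, 4, 3, 2, 5, 4, 1, 3, 5, 0, 2, 4, 1, 3, 1] 1 17 58653 = 0 := by decide +kernel
theorem lf2 : fixErr ONM.nets [[1], [6], [4, 3, 4, 3], [5, 4, 3, 4, 2, 3, 4, 5, 4, 2, 3, 4, 1, 2, 1, 3, 2, 4, 5, 4, 3, 2, 4, 3, 4, 5]] [1, 0] = 0 := by decide +kernel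
theorem lo2 : orbErr ONM.nets [[1], [6], [4, 3, 4, 3], [5, 4, 3, 4, 2, 3, 4, 5, 4, 2, 3, 4, 1, 2, 1, 3, 2, 4, 5, 4, 3, 2, 4, 3, 4, 5]] [0, 1, 2, 3, 0, 3, 0, 3, 0, 3] 35 17 64 = 0 := by decide +kernel

theorem card_ge : 460815505920 ≤ Nat.card ((⊤ : Subgroup Spor.ON).map M.φ) :=
  have := finite
  (show 122760 * (58653 * (64 * (1))) ≤ Nat.card ((M.fixK ⊤ []).map M.φ) from (M.lev_step (fun _ _ => trivial) lf0 lo0
    (M.lev_step (fun _ _ => trivial) lf1 lo1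
    (M.lev_step (fun _ _ => trivial) lf2 lo2
    (M.chain_base _)))))

theorem card_eq : Nat.card Spor.ON = 460815505920 :=
  have := finite
  (M.card_eq_of_bounds card_le.2 card_ge).1

/-- the action is faithful -/
theorem inj : Function.Injective M.φ :=
  have := finite
  (M.card_eq_of_bounds card_le.2 card_ge).2

theorem trans : 122760 ≤ (M.orb ⊤ 0).ncard :=
  M.le_ncard_orb (K := ⊤) (fun _ _ => trivial) lo0 (M.orb_finite hgen _ _)

theorem H_clW : H = clW el [[1], [2], [3], [4], [5], [6]] := clL_eq_clW el _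

theorem fixH : fixErr ONM.nets [[1], [2], [3], [4], [5], [6]] [0] = 0 := by decide +kernel

theorem index_H : H.index = 122760 ∧ H = M.St 0 :=
  M.index_eq (H_clW ▸ M.mem_St_of fixH) relIndex_H trans

theorem card_H : Nat.card H = 3753792 :=
  card_of_index index_H.1 card_eq (by norm_num) (by norm_num)

def col : List (List ℕ × ℕ × List ℕ × List ℕ) := [([7], 1, [1, 2, 3, 4, 0, 1, 3, 5, 2, 3, 1, 0, 4, 2, 3, 1, 5, 2, 4, 0, 3, 1, 5, 4, 2, 0, 5, 3, 1, 2, 4, 0, 1, 3, 5, 2, 4, 1, 3, 4], [0, 2, 3, 4, 5, 0, 2, 4, 3, 6, 1, 2, 4, 5, 0, 3, 4, 0, 2, 5, 3, 0, 4, 2, 1, 0, 5, 3, 2, 4]),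
  ([7, 3, 7], 5, [1, 0, 2, 3, 1, 2, 4, 1, 5, 3, 0, 2, 4, 1, 3, 0, 4, 5, 2, 3, 1, 4, 2, 0, 1, 3, 5, 0, 2, 4, 3, 1, 4, 2, 5, 3, 2, 4, 1, 3, 2, 3, 4], [0, 2, 1, 3, 4, 0, 2, 3, 5, 2, 1, 4, 6, 3, 5, 2, 0, 2, 1, 4, 3, 5, 4, 2, 3, 5, 6, 1, 4, 2, 5, 3, 1, 4, 2, 6, 3, 5, 1, 4, 2, 5, 3, 0]),
  ([7, 2, 7], 69, [0, 2, 1, 3, 0, 2, 4, 1, 3, 5, 0, 2, 4, 1, 3, 5, 0, 2, 4, 5, 1, 3, 0, 2, 4, 1, 3, 5, 0, 4, 2, 5, 3, 1, 4, 2, 0, 3, 1, 5, 2, 4, 3, 1, 0, 5, 1, 4, 2, 3], [0, 1, 3, 2, 4, 1, 3, 5, 2, 4, 6, 0, 1, 3, 2, 5, 4, 3, 5, 6, 1, 0, 2, 3, 4, 5, 3, 2, 1, 4, 3, 6, 2, 5, 4, 3, 6, 1, 4, 2]),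
  ([7, 4, 2, 7], 74, [0, 2, 4, 3, 1, 5, 2, 4, 0, 1, 3, 5, 0, 4, 2, 5, 1, 3, 0, 2, 4, 1, 3, 0, 2, 4, 5, 3, 1, 4, 3], [0, 1, 3, 5, 4, 2, 6, 3, 5, 1, 2, 4, 6, 1, 5, 3, 0, 2, 5, 3, 4, 6, 5, 3, 2, 1, 4, 3, 6, 2, 5, 4, 3, 4, 1])]
theorem co1 : genErr ONM.nets [[1], [2], [3], [4], [5], [6]] 0 (Nat.pred (Nat.pow 2 122760)) col = 0 := by decide +kernel
theorem co2 : covM ONM.nets [[1], [2], [3], [4], [5], [6]] 0 col = Nat.pred (Nat.pow 2 122760) := by decide +kernel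
theorem mv : appW ONM.nets [7] (Nat.pow 2 1) = Nat.pow 2 0 := by decide +kernel

theorem coatom : IsCoatom (M.St 0) :=
  M.isCoatom_of hgen (by decide) (M.St_ne_top mv (by decide)) fixH co1 co2

def pup : List (List ℕ × List ℕ) := [([7, 4, 8, 5, 7, 4, 8, 5, 7, 4, 8, 5], [5, 7, 4, 8, 5, 7, 4, 8])]
theorem pu0 : eqsAt ONM.nets 122760 17 pup 0 = 0 := by decide +kernel
theorem pu1 : eqsAt ONM.nets 122760 17 pup 1 = 0 := by decide +kernel
theorem pu2 : eqsAt ONM.nets 122760 17 pup 2 = 0 := by decide +kernel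
theorem pu3 : eqsAt ONM.nets 122760 17 pup 3 = 0 := by decide +kernel
theorem pu4 : eqsAt ONM.nets 122760 17 pup 4 = 0 := by decide +kernel
theorem pu5 : eqsAt ONM.nets 122760 17 pup 5 = 0 := by decide +kernel
theorem pu6 : eqsAt ONM.nets 122760 17 pup 6 = 0 := by decide +kernel
theorem pu7 : eqsAt ONM.nets 122760 17 pup 7 = 0 := by decide +kernel
theorem pu8 : eqsAt ONM.nets 122760 17 pup 8 = 0 := by decide +kernel
theorem pu9 : eqsAt ONM.nets 122760 17 pup 9 = 0 := by decide +kernel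
theorem pu10 : eqsAt ONM.nets 122760 17 pup 10 = 0 := by decide +kernel
theorem pu11 : eqsAt ONM.nets 122760 17 pup 11 = 0 := by decide +kernel
theorem pu12 : eqsAt ONM.nets 122760 17 pup 12 = 0 := by decide +kernel
theorem pu13 : eqsAt ONM.nets 122760 17 pup 13 = 0 := by decide +kernel
theorem pu14 : eqsAt ONM.nets 122760 17 pup 14 = 0 := by decide +kernel
theorem pu15 : eqsAt ONM.nets 122760 17 pup 15 = 0 := by decide +kernel
theorem pu16 : eqsAt ONM.nets 122760 17 pup 16 = 0 := by decide +kernel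
theorem pua : ∀ t < 17, eqsAt ONM.nets 122760 17 pup t = 0 := (blocks_cons (blocks_cons (blocks_cons (blocks_cons (blocks_cons (blocks_cons (blocks_cons (blocks_cons (blocks_cons (blocks_cons (blocks_cons (blocks_cons (blocks_cons (blocks_cons (blocks_cons (blocks_cons (blocks_cons (blocks_nil _) pu0) pu1) pu2) pu3) pu4) pu5) pu6) pu7) pu8) pu9) pu10) pu11) pu12) pu13) pu14) pu15) pu16)

theorem u_pow : wv el [7, 4, 8, 5] ^ 5 = 1 :=
  wv_pow_eq_one R _ 3 2 (M.wv_eq inj (by decide) pua _ List.mem_cons_self) (by decide +kernel)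

theorem normal_top (N : Subgroup Spor.ON) (hN : N.Normal) (h : wv el [7, 4, 8, 5] ∈ N) : N = ⊤ := by
  have Q := R.quot N _ (by decide) h
  have h1 : ∀ x ∈ ([1, 2, 3, 4, 5, 6, 7] : List ℕ), el x ∈ N := (forall_cons (mem_of_quot_bot N (ON5.goal1 Q ⊥ (forall_nil _))) (forall_cons (mem_of_quot_bot N (ON5.goal2 Q ⊥ (forall_nil _))) (forall_cons (mem_of_quot_bot N (ON5.goal3 Q ⊥ (forall_nil _))) (forall_cons (mem_of_quot_bot N (ON5.goal4 Q ⊥ (forall_nil _))) (forall_cons (mem_of_quot_bot N (ON5.goal5 Q ⊥ (forall_nil _))) (forall_cons (mem_of_quot_bot N (ON5.goal6 Q ⊥ (forall_nil _))) (forall_cons (mem_of_quot_bot N (ON5.goal7 Q ⊥ (forall_nil _))) (forall_nil' _))))))))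
  exact eq_top _ h1

theorem simple : IsSimpleGroup Spor.ON :=
  have := finite
  M.simple_of hgen inj (by decide) trans coatom (q := 5) (k := 1) (by norm_num) (by decide)
    (by rw [card_eq]; norm_num) _ u_pow normal_top

theorem H_stmt : (Subgroup.closure ({Spor.ON.a, Spor.ON.b, Spor.ON.c, Spor.ON.d, Spor.ON.e, Spor.ON.f} :
    Set (FreeGroup Spor.ON.Gen))).map π = H :=
  (map_closure_eq_clW π hc R.hinv _ [Spor.ON.a, Spor.ON.b, Spor.ON.c, Spor.ON.d, Spor.ON.e, Spor.ON.f]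
    (by ext; simp) (by decide +kernel)).trans H_clW.symm

end Cfsg.Agent.H58.ONP
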