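import Cfsg.Agent.H58.Graph3
import Cfsg.Agent.H58.ONP
import Cfsg.Agent.H58.Cert.ONJ
import Cfsg.Agent.H14.Mathieu
import Cfsg.Agent.H88.J1Model
import Cfsg.Prelude.Def_Sporadic

set_option autoImplicit false
set_option Elab.async false
set_option maxRecDepth 100000
set_option linter.constructorNameAsVariable false
set_option exponentiation.threshold 400000

namespace Cfsg.Agent.H58.ONJ

open Cfsg Cfsg.Agent.H58 ONP H14 H56

theorem base : M.IsBase [35, 1, 0] :=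
  have := finite
  M.isBase_of inj card_eq (by
    have h : 122760 * (58653 * (64 * Nat.card ((M.fixK ⊤ [35, 1, 0]).map M.φ))) ≤
        Nat.card ((M.fixK ⊤ []).map M.φ) :=
      M.lev_step (fun _ _ => trivial) lf0 lo0 (M.lev_step (fun _ _ => trivial) lf1 lo1
        (M.lev_step (fun _ _ => trivial) lf2 lo2 le_rfl))
    omega)

theorem boundJ {G : Type*} [Group G] {e : ℕ → G} (Q : RuleOK e ONJ1.rels ONJ1.iv) :
    Finite (clL e [1, 2, 3]) ∧ Nat.card (clL e [1, 2, 3]) ≤ 175560 :=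
  card_step (card_step card_le_bot (ONJ2.relIndex_le Q ⊥ (forall_nil _)))
    (ONJ1.relIndex_le Q _ (mem_clL e [2, 3] _ (by decide)))

theorem boundM {G : Type*} [Group G] {e : ℕ → G} (Q : RuleOK e ONM1.rels ONM1.iv) :
    Finite (clL e [1, 2, 3, 4]) ∧ Nat.card (clL e [1, 2, 3, 4]) ≤ 7920 :=
  card_step (card_step (card_step card_le_bot (ONM3.relIndex_le Q ⊥ (forall_nil _)))
    (ONM2.relIndex_le Q _ (mem_clL e [1, 4] _ (by decide))))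
    (ONM1.relIndex_le Q _ (mem_clL e [1, 3, 4] _ (by decide)))

def jws : List (List ℕ) := [[1], [4], [5, 3, 2, 8, 4, 3, 2, 3, 4, 7, 2, 3, 5], [0], [0], [0], [0], [0], [0], [0], [0], [0], [0], [0], [0], [0], [0], [0], [0], [0], [0], [0], [0], [0], [0], [0], [0], [0], [0], [0], [0], [0], [0], [0], [0], [0], [0], [0], [0], [0], [0], [0], [0], [0], [0], [0], [0], [0], [0], [0], [0], [0], [0], [0], [0], [0], [0], [0], [0], [0], [0], [0], [0]]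

theorem jok : extOK rels iv 1 jws [] 794688 [] [(0, 0), (0, 0), (0, 0), (0, 0), (0, 0), (0, 0), (0, 0), (0, 0), (0, 0), (0, 0), (0, 0), (0, 0), (0, 0), (0, 0), (0, 0), (0, 0), (0, 0), (0, 0), (0, 0), (0, 0), (0, 0), (0, 0), (0, 0), (0, 0), (0, 0), (0, 0), (0, 0), (0, 0), (0, 0), (0, 0), (0, 0), (0, 0), (0, 0), (0, 0), (0, 0), (0, 0), (0, 0), (0, 0), (0, 0), (0, 0), (0, 0), (0, 0), (0, 0), (0, 0), (0, 0), (0, 0), (0, 0), (0, 0), (0, 0), (0, 0), (0, 0), (0, 0), (0, 0), (0, 0), (0, 0), (0, 0), (0, 0), (0, 0), (0, 0), (0, 0), (0, 0), (0, 0), (0, 0), (0, 0)] = true := by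
  decide +kernel

def mws : List (List ℕ) := [[2], [4], [5], [3, 4, 5, 4, 7, 3, 4, 3, 8, 4, 5, 4, 3], [0], [0], [0], [0], [0], [0], [0], [0], [0], [0], [0], [0], [0], [0], [0], [0], [0], [0], [0], [0], [0], [0], [0], [0], [0], [0], [0], [0], [0], [0], [0], [0], [0], [0], [0], [0], [0], [0], [0], [0], [0], [0], [0], [0], [0], [0], [0], [0], [0], [0], [0], [0], [0], [0], [0], [0], [0], [0], [0]]

theorem mok : extOK rels iv 1 mws [] 67903552 [] [(0, 0), (0, 0), (0, 0), (0, 0), (0, 0), (0, 0), (0, 0), (0, 0), (0, 0), (0, 0), (0, 0), (0, 0), (0, 0), (0, 0), (0, 0), (0, 0), (0, 0), (0, 0), (0, 0), (0, 0), (0, 0), (0, 0), (0, 0), (0, 0), (0, 0), (0, 0), (0, 0), (0, 0), (0, 0), (0, 0), (0, 0), (0, 0), (0, 0), (0, 0), (0, 0), (0, 0), (0, 0), (0, 0), (0, 0), (0, 0), (0, 0), (0, 0), (0, 0), (0, 0), (0, 0), (0, 0), (0, 0), (0, 0), (0, 0), (0, 0), (0, 0), (0, 0), (0, 0),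 (0, 0), (0, 0), (0, 0), (0, 0), (0, 0), (0, 0), (0, 0), (0, 0), (0, 0), (0, 0), (0, 0)] = true := by
  decide +kernel

theorem j0_35 : appW ONM.nets (subst 1 jws [1, 2, 1, 2]) (Nat.pow 2 35) = Nat.pow 2 35 := by decide +kernel
theorem j0_1 : appW ONM.nets (subst 1 jws [1, 2, 1, 2]) (Nat.pow 2 1) = Nat.pow 2 1 := by decide +kernel
theorem j0_0 : appW ONM.nets (subst 1 jws [1, 2, 1, 2]) (Nat.pow 2 0) = Nat.pow 2 0 := by decide +kernel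
theorem j1_35 : appW ONM.nets (subst 1 jws [1, 3, 1, 3, 1, 3, 1, 3, 1, 3]) (Nat.pow 2 35) = Nat.pow 2 35 := by decide +kernel
theorem j1_1 : appW ONM.nets (subst 1 jws [1, 3, 1, 3, 1, 3, 1, 3, 1, 3]) (Nat.pow 2 1) = Nat.pow 2 1 := by decide +kernel
theorem j1_0 : appW ONM.nets (subst 1 jws [1, 3, 1, 3, 1, 3, 1, 3, 1, 3]) (Nat.pow 2 0) = Nat.pow 2 0 := by decide +kernel
theorem j2_35 : appW ONM.nets (subst 1 jws [1, 3, 2, 3, 1, 3, 2, 3, 1, 3, 2, 3, 1, 3, 2, 3, 1, 3, 2, 3]) (Nat.pow 2 35) = Nat.pow 2 35 := by decide +kernel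
theorem j2_1 : appW ONM.nets (subst 1 jws [1, 3, 2, 3, 1, 3, 2, 3, 1, 3, 2, 3, 1, 3, 2, 3, 1, 3, 2, 3]) (Nat.pow 2 1) = Nat.pow 2 1 := by decide +kernel
theorem j2_0 : appW ONM.nets (subst 1 jws [1, 3, 2, 3, 1, 3, 2, 3, 1, 3, 2, 3, 1, 3, 2, 3, 1, 3, 2, 3]) (Nat.pow 2 0) = Nat.pow 2 0 := by decide +kernel
theorem j3_35 : appW ONM.nets (subst 1 jws [2, 3, 2, 3, 2, 3, 2, 3, 2, 3, 2, 3, 2, 3, 2, 3, 2, 3, 2, 3]) (Nat.pow 2 35) = Nat.pow 2 35 := by decide +kernel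
theorem j3_1 : appW ONM.nets (subst 1 jws [2, 3, 2, 3, 2, 3, 2, 3, 2, 3, 2, 3, 2, 3, 2, 3, 2, 3, 2, 3]) (Nat.pow 2 1) = Nat.pow 2 1 := by decide +kernel
theorem j3_0 : appW ONM.nets (subst 1 jws [2, 3, 2, 3, 2, 3, 2, 3, 2, 3, 2, 3, 2, 3, 2, 3, 2, 3, 2, 3]) (Nat.pow 2 0) = Nat.pow 2 0 := by decide +kernel
theorem j4_35 : appW ONM.nets (subst 1 jws [1, 2, 1, 3, 2, 3, 2, 3, 2, 3, 1, 3, 2, 3, 2, 1, 3, 2, 3, 1, 2, 3, 2, 3, 1, 2, 3, 2, 3, 1, 3, 2, 3, 2, 3, 2, 3]) (Nat.pow 2 35) = Nat.pow 2 35 := by decide +kernel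
theorem j4_1 : appW ONM.nets (subst 1 jws [1, 2, 1, 3, 2, 3, 2, 3, 2, 3, 1, 3, 2, 3, 2, 1, 3, 2, 3, 1, 2, 3, 2, 3, 1, 2, 3, 2, 3, 1, 3, 2, 3, 2, 3, 2, 3]) (Nat.pow 2 1) = Nat.pow 2 1 := by decide +kernel
theorem j4_0 : appW ONM.nets (subst 1 jws [1, 2, 1, 3, 2, 3, 2, 3, 2, 3, 1, 3, 2, 3, 2, 1, 3, 2, 3, 1, 2, 3, 2, 3, 1, 2, 3, 2, 3, 1, 3, 2, 3, 2, 3, 2, 3]) (Nat.pow 2 0) = Nat.pow 2 0 := by decide +kernel
theorem j5_35 : appW ONM.nets (subst 1 jws [1, 2, 3, 1, 3, 1, 3, 2, 3, 2, 3, 2, 3, 2, 1, 3, 1, 3, 2, 3, 2, 3, 1, 3, 1, 2, 3, 2, 3, 2, 3, 1, 2, 3, 1, 3, 2, 3]) (Nat.pow 2 35) = Nat.pow 2 35 := by decide +kernel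
theorem j5_1 : appW ONM.nets (subst 1 jws [1, 2, 3, 1, 3, 1, 3, 2, 3, 2, 3, 2, 3, 2, 1, 3, 1, 3, 2, 3, 2, 3, 1, 3, 1, 2, 3, 2, 3, 2, 3, 1, 2, 3, 1, 3, 2, 3]) (Nat.pow 2 1) = Nat.pow 2 1 := by decide +kernel
theorem j5_0 : appW ONM.nets (subst 1 jws [1, 2, 3, 1, 3, 1, 3, 2, 3, 2, 3, 2, 3, 2, 1, 3, 1, 3, 2, 3, 2, 3, 1, 3, 1, 2, 3, 2, 3, 2, 3, 1, 2, 3, 1, 3, 2, 3]) (Nat.pow 2 0) = Nat.pow 2 0 := by decide +kernel
theorem j6_35 : appW ONM.nets (subst 1 jws [1, 2, 3, 1, 3, 2, 3, 2, 3, 2, 3, 1, 3, 2, 3, 2, 3, 2, 3, 1, 3, 1, 2, 3, 2, 3, 1, 3, 2, 3, 2, 3, 2, 3, 1, 3, 2, 3]) (Nat.pow 2 35) = Nat.pow 2 35 := by decide +kernel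
theorem j6_1 : appW ONM.nets (subst 1 jws [1, 2, 3, 1, 3, 2, 3, 2, 3, 2, 3, 1, 3, 2, 3, 2, 3, 2, 3, 1, 3, 1, 2, 3, 2, 3, 1, 3, 2, 3, 2, 3, 2, 3, 1, 3, 2, 3]) (Nat.pow 2 1) = Nat.pow 2 1 := by decide +kernel
theorem j6_0 : appW ONM.nets (subst 1 jws [1, 2, 3, 1, 3, 2, 3, 2, 3, 2, 3, 1, 3, 2, 3, 2, 3, 2, 3, 1, 3, 1, 2, 3, 2, 3, 1, 3, 2, 3, 2, 3, 2, 3, 1, 3, 2, 3]) (Nat.pow 2 0) = Nat.pow 2 0 := by decide +kernel

theorem Rj : RuleOK (elX el iv 1 jws) ONJ1.rels ONJ1.iv :=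
  (R.extend jok).of_nil
    (forall_cons (base.wvX_eq_one (forall_cons j0_35 (forall_cons j0_1 (forall_cons j0_0 (forall_nil' _)))))
    (forall_cons (base.wvX_eq_one (forall_cons j1_35 (forall_cons j1_1 (forall_cons j1_0 (forall_nil' _)))))
    (forall_cons (base.wvX_eq_one (forall_cons j2_35 (forall_cons j2_1 (forall_cons j2_0 (forall_nil' _)))))
    (forall_cons (base.wvX_eq_one (forall_cons j3_35 (forall_cons j3_1 (forall_cons j3_0 (forall_nil' _)))))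
    (forall_cons (base.wvX_eq_one (forall_cons j4_35 (forall_cons j4_1 (forall_cons j4_0 (forall_nil' _)))))
    (forall_cons (base.wvX_eq_one (forall_cons j5_35 (forall_cons j5_1 (forall_cons j5_0 (forall_nil' _)))))
    (forall_cons (base.wvX_eq_one (forall_cons j6_35 (forall_cons j6_1 (forall_cons j6_0 (forall_nil' _))))) (forall_nil' _))))))))
    (by decide +kernel)

theorem m0_35 : appW ONM.nets (subst 1 mws [1, 2, 1, 2]) (Nat.pow 2 35) = Nat.pow 2 35 := by decide +kernel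
theorem m0_1 : appW ONM.nets (subst 1 mws [1, 2, 1, 2]) (Nat.pow 2 1) = Nat.pow 2 1 := by decide +kernel
theorem m0_0 : appW ONM.nets (subst 1 mws [1, 2, 1, 2]) (Nat.pow 2 0) = Nat.pow 2 0 := by decide +kernel
theorem m1_35 : appW ONM.nets (subst 1 mws [1, 3, 1, 3]) (Nat.pow 2 35) = Nat.pow 2 35 := by decide +kernel
theorem m1_1 : appW ONM.nets (subst 1 mws [1, 3, 1, 3]) (Nat.pow 2 1) = Nat.pow 2 1 := by decide +kernel
theorem m1_0 : appW ONM.nets (subst 1 mws [1, 3, 1, 3]) (Nat.pow 2 0) = Nat.pow 2 0 := by decide +kernel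
theorem m2_35 : appW ONM.nets (subst 1 mws [1, 4, 1, 4, 1, 4, 1, 4, 1, 4]) (Nat.pow 2 35) = Nat.pow 2 35 := by decide +kernel
theorem m2_1 : appW ONM.nets (subst 1 mws [1, 4, 1, 4, 1, 4, 1, 4, 1, 4]) (Nat.pow 2 1) = Nat.pow 2 1 := by decide +kernel
theorem m2_0 : appW ONM.nets (subst 1 mws [1, 4, 1, 4, 1, 4, 1, 4, 1, 4]) (Nat.pow 2 0) = Nat.pow 2 0 := by decide +kernel
theorem m3_35 : appW ONM.nets (subst 1 mws [2, 3, 2, 4, 3, 2, 4, 2, 3, 4]) (Nat.pow 2 35) = Nat.pow 2 35 := by decide +kernel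
theorem m3_1 : appW ONM.nets (subst 1 mws [2, 3, 2, 4, 3, 2, 4, 2, 3, 4]) (Nat.pow 2 1) = Nat.pow 2 1 := by decide +kernel
theorem m3_0 : appW ONM.nets (subst 1 mws [2, 3, 2, 4, 3, 2, 4, 2, 3, 4]) (Nat.pow 2 0) = Nat.pow 2 0 := by decide +kernel
theorem m4_35 : appW ONM.nets (subst 1 mws [1, 3, 4, 3, 4, 1, 4, 3, 4, 1, 4, 3, 4]) (Nat.pow 2 35) = Nat.pow 2 35 := by decide +kernel
theorem m4_1 : appW ONM.nets (subst 1 mws [1, 3, 4, 3, 4, 1, 4, 3, 4, 1, 4, 3, 4]) (Nat.pow 2 1) = Nat.pow 2 1 := by decide +kernel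
theorem m4_0 : appW ONM.nets (subst 1 mws [1, 3, 4, 3, 4, 1, 4, 3, 4, 1, 4, 3, 4]) (Nat.pow 2 0) = Nat.pow 2 0 := by decide +kernel
theorem m5_35 : appW ONM.nets (subst 1 mws [1, 2, 3, 2, 1, 4, 2, 3, 2, 3, 4, 2, 3, 4]) (Nat.pow 2 35) = Nat.pow 2 35 := by decide +kernel
theorem m5_1 : appW ONM.nets (subst 1 mws [1, 2, 3, 2, 1, 4, 2, 3, 2, 3, 4, 2, 3, 4]) (Nat.pow 2 1) = Nat.pow 2 1 := by decide +kernel
theorem m5_0 : appW ONM.nets (subst 1 mws [1, 2, 3, 2, 1, 4, 2, 3, 2, 3, 4, 2, 3, 4]) (Nat.pow 2 0) = Nat.pow 2 0 := by decide +kernel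
theorem m6_35 : appW ONM.nets (subst 1 mws [1, 2, 4, 1, 2, 4, 1, 2, 4, 2, 1, 4, 2, 1, 4]) (Nat.pow 2 35) = Nat.pow 2 35 := by decide +kernel
theorem m6_1 : appW ONM.nets (subst 1 mws [1, 2, 4, 1, 2, 4, 1, 2, 4, 2, 1, 4, 2, 1, 4]) (Nat.pow 2 1) = Nat.pow 2 1 := by decide +kernel
theorem m6_0 : appW ONM.nets (subst 1 mws [1, 2, 4, 1, 2, 4, 1, 2, 4, 2, 1, 4, 2, 1, 4]) (Nat.pow 2 0) = Nat.pow 2 0 := by decide +kernel
theorem m7_35 : appW ONM.nets (subst 1 mws [2, 3, 2, 3, 2, 3]) (Nat.pow 2 35) = Nat.pow 2 35 := by decide +kernel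
theorem m7_1 : appW ONM.nets (subst 1 mws [2, 3, 2, 3, 2, 3]) (Nat.pow 2 1) = Nat.pow 2 1 := by decide +kernel
theorem m7_0 : appW ONM.nets (subst 1 mws [2, 3, 2, 3, 2, 3]) (Nat.pow 2 0) = Nat.pow 2 0 := by decide +kernel
theorem m8_35 : appW ONM.nets (subst 1 mws [2, 4, 2, 4, 2, 4]) (Nat.pow 2 35) = Nat.pow 2 35 := by decide +kernel
theorem m8_1 : appW ONM.nets (subst 1 mws [2, 4, 2, 4, 2, 4]) (Nat.pow 2 1) = Nat.pow 2 1 := by decide +kernel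
theorem m8_0 : appW ONM.nets (subst 1 mws [2, 4, 2, 4, 2, 4]) (Nat.pow 2 0) = Nat.pow 2 0 := by decide +kernel
theorem m9_35 : appW ONM.nets (subst 1 mws [3, 4, 3, 4, 3, 4, 3, 4]) (Nat.pow 2 35) = Nat.pow 2 35 := by decide +kernel
theorem m9_1 : appW ONM.nets (subst 1 mws [3, 4, 3, 4, 3, 4, 3, 4]) (Nat.pow 2 1) = Nat.pow 2 1 := by decide +kernel
theorem m9_0 : appW ONM.nets (subst 1 mws [3, 4, 3, 4, 3, 4, 3, 4]) (Nat.pow 2 0) = Nat.pow 2 0 := by decide +kernel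

theorem Rm : RuleOK (elX el iv 1 mws) ONM1.rels ONM1.iv :=
  (R.extend mok).of_nil
    (forall_cons (base.wvX_eq_one (forall_cons m0_35 (forall_cons m0_1 (forall_cons m0_0 (forall_nil' _)))))
    (forall_cons (base.wvX_eq_one (forall_cons m1_35 (forall_cons m1_1 (forall_cons m1_0 (forall_nil' _)))))
    (forall_cons (base.wvX_eq_one (forall_cons m2_35 (forall_cons m2_1 (forall_cons m2_0 (forall_nil' _)))))
    (forall_cons (base.wvX_eq_one (forall_cons m3_35 (forall_cons m3_1 (forall_cons m3_0 (forall_nil' _)))))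
    (forall_cons (base.wvX_eq_one (forall_cons m4_35 (forall_cons m4_1 (forall_cons m4_0 (forall_nil' _)))))
    (forall_cons (base.wvX_eq_one (forall_cons m5_35 (forall_cons m5_1 (forall_cons m5_0 (forall_nil' _)))))
    (forall_cons (base.wvX_eq_one (forall_cons m6_35 (forall_cons m6_1 (forall_cons m6_0 (forall_nil' _)))))
    (forall_cons (base.wvX_eq_one (forall_cons m7_35 (forall_cons m7_1 (forall_cons m7_0 (forall_nil' _)))))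
    (forall_cons (base.wvX_eq_one (forall_cons m8_35 (forall_cons m8_1 (forall_cons m8_0 (forall_nil' _)))))
    (forall_cons (base.wvX_eq_one (forall_cons m9_35 (forall_cons m9_1 (forall_cons m9_0 (forall_nil' _))))) (forall_nil' _)))))))))))
    (by decide +kernel)

theorem mva : appW ONM.nets [1] (Nat.pow 2 54) = Nat.pow 2 6 := by decide +kernel

theorem mvb : appW ONM.nets [2] (Nat.pow 2 10) = Nat.pow 2 1 := by decide +kernel

def cs : List ℕ := [nat_lit 0xbdab49ca307b9ac5a928398a418820, nat_lit 0x2da6ba8e267a9aca38413c2e492500, nat_lit 0x9d8b4ba2303a98d5b85279aa40a460, nat_lit 0x55a74ac0f2795a45dc4888dcc32420, nat_lit 0xb5caf9b230a385252d0938ea433420]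

theorem cs_ok : permOK 5 32 24 cs ONM1.rels ONM1.iv [1, 2, 3, 4] m11Gens [[3, 1, 4, 1, 4, 2, 3, 1, 4, 1, 4, 1], [1, 4, 3, 4, 2, 1, 4, 1]] = true := by
  decide +kernel

/-- the subgroup M11 -/
theorem equivM : Nonempty (clL (elX el iv 1 mws) [1, 2, 3, 4] ≃* Spor.M11) := by
  rw [M11_eq_grp]
  exact equiv_of_permOK boundM Rm GE cs_ok (M11_eq_grp ▸ card_M11) (M11_eq_grp ▸ simple_M11) (x := 1)
    (by decide) (by rw [elX_eq_wv]; exact M.wv_ne_one mvb (by decide))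

open H88.J1 in
/-- packed matrices -/
def jCod : Cod Spor.J1 mmul PI := ⟨Rep, Rep.one, Rep.mul, fun a b => a.eq b rfl⟩

def js : List ℕ := [6277101736848182401506974708411517874814724153223283736577, 51110770291741460746125060143259115539921909874563887624208, 66514362792597813693344861853029661468895733846907902177882, 33922597851240070190032556873992249221127343701142554163028]

open H88.J1 in
theorem js_val : ∀ X ∈ js, ∃ g, jCod.R g X :=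
  exists_cod_of_words jCod (bs := [PI, PX, PX', PY, PY'])
    (forall_cons ⟨_, Rep.one⟩ (forall_cons ⟨_, rX⟩ (forall_cons ⟨_, rX'⟩ (forall_cons ⟨_, rY⟩
      (forall_cons ⟨_, rY'⟩ (forall_nil' _)))))) (ws := [[], [3, 1, 4, 4, 1, 1, 4, 4, 1, 4, 1], [2, 3, 2, 3, 2, 2, 4, 1, 4, 1, 1, 4, 1], [1, 1, 3, 1, 3, 1, 1, 3, 2, 3, 1, 4, 1]]) (by decide +kernel)

open H88.J1 in
/-- the subgroup J1 -/
theorem equivJ : Nonempty (clL (elX el iv 1 jws) [1, 2, 3] ≃* Spor.J1) := by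
  obtain ⟨e, he⟩ := exists_cod_letters jCod js_val
  have Q : RuleOK e ONJ1.rels ONJ1.iv :=
    ruleOK_of_codOK jCod he (ones := [PI]) (forall_cons Rep.one (forall_nil' _)) (by decide +kernel)
  have h1 : clL e [1, 2, 3] = ⊤ := by
    rw [eq_top_iff, ← closure_XY, Subgroup.closure_le]
    rintro x (rfl | rfl)
    · exact mem_clL_of_cod jCod he rX (w := [2, 1, 3, 2, 1, 3, 2, 1, 3, 1, 3, 2, 3, 2, 3, 1, 3, 2, 3, 2, 1, 3, 2, 3, 2, 3, 2]) (by decide +kernel)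
    · exact mem_clL_of_cod jCod he rY (w := [3, 2, 3, 1, 3, 2, 1, 3, 2, 3, 2, 3, 2, 3, 1, 3, 2, 3, 2, 3, 1, 3, 1]) (by decide +kernel)
  exact equiv_of_bound_simple (boundJ (Q.prod Rj)) h1 card_J1.ge (x := 1) (by decide)
    (by rw [elX_eq_wv]; exact M.wv_ne_one mva (by decide))

theorem exists_J1 : ∃ K : Subgroup Spor.ON, IsJ1 K :=
  let ⟨f⟩ := equivJ
  ⟨_, f.isSimpleGroup, (Nat.card_congr f.toEquiv).trans H88.J1.card_J1⟩

theorem exists_M11 : ∃ K : Subgroup Spor.ON, IsM11 K :=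
  let ⟨f⟩ := equivM
  have := simple_M11
  ⟨_, f.isSimpleGroup, (Nat.card_congr f.toEquiv).trans card_M11⟩

end Cfsg.Agent.H58.ONJ
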