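import Cfsg.Agent.H58.SuzJ
import Cfsg.Agent.H58.SuzG

set_option autoImplicit false
set_option Elab.async false
set_option maxRecDepth 100000
set_option linter.constructorNameAsVariable false
set_option exponentiation.threshold 400000

namespace Cfsg.Agent.H58.SuzR

open Cfsg Cfsg.Agent.H58 SuzP

def hw : List (List ℕ) := [[1], [2], [3], [4], [5], [6]]
def jw : List (List ℕ) := [[1], [2], [3], [4], [5]]
def sw : List (List ℕ) := [[1], [3], [4], [5], [6], [2, 6, 1, 2, 1, 2], [2, 1, 2, 1, 6, 2], [2, 3, 4, 1, 2, 3, 1, 2, 3, 4, 3, 6, 2], [2, 6, 3, 4, 3, 2, 1, 3, 2, 1, 4, 3, 2]]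
def bw : List (List ℕ) := [[1], [3], [6], [4, 5, 3, 4, 3, 5, 4], [4, 3, 4, 2, 1, 2, 1, 6, 2], [2, 3, 4, 1, 2, 3, 1, 2, 3, 4, 3, 6, 2]]
def w : List ℕ := [2, 6, 3, 2]
def v : List ℕ := [2, 6, 1, 2, 1, 2]
def DM : ℕ := (nat_lit 0x338007f20c00000000007f00000000008000804eeb80200d31802000000000000000000000000006781e72000040000000000000080181fc0d83ce8a80048c000e3fe382258640c000000000000000000000079c81e600100200000000000000703c0fe0611c474e00140c40003f3fc23904d00262800000000000000079803a00600000000000e787fe047474601cc5000cff9d4744250000000001d034530000000247ffe3ae88d25039ffd11100000034694c00001a7ffba44444ff88800001a694800027fd111f10000d240007a2390008000691000000800000000000)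
def SM : ℕ := (nat_lit 0xc7ff80df3ffffffffff80ffffffffff7fff7fb1147fdff2ce7fdffffffffffffffffffffffffff987e18dffffbffffffffffffff7fe7e03f27c31757ffb73fff1c01c7dda79bf3ffffffffffffffffffffff8637e19ffeffdffffffffffffff8fc3f01f9ee3b8b1ffebf3bfffc0c03dc6fb2ffd9d7fffffffffffffff867fc5ff9fffffffffff187801fb8b8b9fe33afff30062b8bbdafffffffffe2fcbacfffffffdb8001c51772dafc6002eeeffffffcb96b3ffffe580045bbbbb00777ffffe596b7fffd802eee0effff2dbfff85dc6fff7fff96effffff7ffffffffffe)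
def CM : ℕ := (nat_lit 0x860000c400000000000000400000000000000000001000000000000000000000000000000000000000000000000000000000000000000000000000000000000000000000000000000000000000000000000000000000000000000000000000000000000000000000000000000000000000000000000000000000000000000000000000000000000000000000000000000000000000000000000000000000000000000000000000000000000000000000000000000000000000000000000180000000000000000000003000000000000002000004000100018000060010000)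

theorem bD : bfs M.nets hw [5, 1, 0, 2, 1, 3, 2, 0, 4, 1, 5, 3, 0, 2, 1, 5, 0, 3, 4, 1, 2, 0, 1] (2 ^ 995) = DM := by decide +kernel
theorem kD : keepErr M.nets hw DM = 0 := by decide +kernel
theorem cD : cntErr 11 416 DM = 0 := by decide +kernel
theorem bS : bfs M.nets hw [1, 0, 2, 5, 3, 1, 2, 4, 1, 5, 0, 3, 1, 2, 3, 1, 0, 5, 1, 2, 4, 5, 1, 3] (2 ^ 1) = SM := by decide +kernel
theorem kS : keepErr M.nets hw SM = 0 := by decide +kernel
theorem cS : cntErr 11 1365 SM = 0 := by decide +kernel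
theorem bC : bfs M.nets sw [2, 1, 3, 2, 5, 1, 2, 7, 2] (2 ^ 16) = CM := by decide +kernel
theorem kC : keepErr M.nets sw CM = 0 := by decide +kernel
theorem cC : cntErr 11 20 CM = 0 := by decide +kernel
theorem fj : fixErr M.nets jw [0, 995] = 0 := by decide +kernel
theorem fs : fixErr M.nets sw [0, 1] = 0 := by decide +kernel
theorem fb : fixErr M.nets bw [16, 1, 0] = 0 := by decide +kernel
def pj : List (ℕ × ℕ × List ℕ) := [(0, 1, []),
  (995, 1, []),
  (47, 100, [0, 3, 4, 1, 3, 2, 1, 3, 0, 4, 2, 1]),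
  (81, 315, [0, 1, 3, 4, 2, 3, 2, 1, 0, 3, 4, 1, 2, 3, 2, 0, 1]),
  (1, 315, [1, 0, 2, 1, 3, 2, 0, 4, 1, 3, 2, 4, 1, 0, 3, 1, 2, 0, 4, 1, 2]),
  (21, 1050, [0, 2, 3, 2, 4, 1, 3, 0, 2, 4, 1, 3, 0, 2, 1, 0, 4, 2, 3, 1, 2, 0, 3])]
theorem pj_ok : partErr M.nets jw 11 (Nat.pred (Nat.pow 2 M.N)) pj 0 = 0 := by decide +kernel
def ps : List (ℕ × ℕ × List ℕ) := [(0, 1, []),
  (1, 1, []),
  (16, 20, [2, 1, 3, 2, 5, 1, 2, 7, 2]),
  (25, 320, [0, 2, 3, 4, 1, 2, 1, 2, 3, 5, 1, 2, 7, 2]),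
  (2, 1024, [0, 1, 4, 2, 1, 3, 5, 1, 2, 1, 3, 2, 1, 3, 7, 2, 3, 2, 1, 5, 1]),
  (995, 96, [4, 5, 1, 2, 1, 3, 5, 2, 1, 5, 7, 2]),
  (471, 320, [0, 1, 2, 1, 3, 2, 3, 1, 5, 1, 2, 3, 1, 2, 7, 2])]
theorem ps_ok : partErr M.nets sw 11 (Nat.pred (Nat.pow 2 M.N)) ps 0 = 0 := by decide +kernel
def pS : List (ℕ × ℕ × List ℕ) := [(1, 1, []),
  (16, 20, [2, 1, 3, 2, 5, 1, 2, 7, 2]),
  (25, 320, [0, 2, 3, 4, 1, 2, 1, 2, 3, 5, 1, 2, 7, 2]),
  (2, 1024, [0, 1, 4, 2, 1, 3, 5, 1, 2, 1, 3, 2, 1, 3, 7, 2, 3, 2, 1, 5, 1])]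
theorem pS_ok : partErr M.nets sw 11 SM pS 0 = 0 := by decide +kernel
def pl : List (ℕ × ℕ × List ℕ) := [(47, 160, [2, 4, 0, 1, 1, 5, 6, 1, 0, 6, 1, 1]),
  (72, 256, [2, 3, 4, 5, 0, 2, 1, 0, 1, 2, 6, 0])]
theorem pl_ok : partErr M.nets (w :: v :: bw) 11 DM pl 0 = 0 := by decide +kernel
theorem o320 : orbEqErr M.nets sw [0, 2, 3, 4, 1, 2, 1, 2, 3, 5, 1, 2, 7, 2] 25 11 320 = 0 := by decide +kernel
theorem o1024 : orbEqErr M.nets sw [0, 1, 4, 2, 1, 3, 5, 1, 2, 1, 3, 2, 1, 3, 7, 2, 3, 2, 1, 5, 1] 2 11 1024 = 0 := by decide +kernel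
theorem f180 : fixErr M.nets (subW sw [[2], [3], [0, 5], [8, 0, 2, 7]]) [2] = 0 := by decide +kernel
theorem o180 : orbErr M.nets (subW sw [[2], [3], [0, 5], [8, 0, 2, 7]]) [0, 1, 0, 2, 2, 3, 0, 1, 0, 3, 1] 160 11 180 = 0 := by decide +kernel
theorem w0 : appW M.nets w (Nat.pow 2 0) = Nat.pow 2 0 := by decide +kernel
theorem w1 : appW M.nets w (Nat.pow 2 16) = Nat.pow 2 1 := by decide +kernel
theorem w2 : appW M.nets w (Nat.pow 2 1) = Nat.pow 2 16 := by decide +kernel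
theorem v0 : appW M.nets v (Nat.pow 2 0) = Nat.pow 2 0 := by decide +kernel
theorem v1 : appW M.nets v (Nat.pow 2 1) = Nat.pow 2 1 := by decide +kernel
theorem v2 : appW M.nets v (Nat.pow 2 68) = Nat.pow 2 16 := by decide +kernel
theorem h0 : appW M.nets [2, 1, 3, 2, 6] (Nat.pow 2 0) = Nat.pow 2 0 := by decide +kernel
theorem h1 : appW M.nets [2, 1, 3, 2, 6] (Nat.pow 2 471) = Nat.pow 2 995 := by decide +kernel
theorem h2 : appW M.nets [2, 1, 3, 2, 6] (Nat.pow 2 1) = Nat.pow 2 21 := by decide +kernel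
theorem u1 : appW M.nets [7, 2, 3, 4, 3, 2, 7, 6, 2, 3, 4, 3, 2, 6] (Nat.pow 2 0) = Nat.pow 2 995 := by decide +kernel
theorem u2 : appW M.nets [7] (Nat.pow 2 0) = Nat.pow 2 1 := by decide +kernel
def LM : ℕ := (nat_lit 0x100000000000000000000000000000000000000000000000100000000040010000)
theorem lm : (CM ||| 2) &&& appW M.nets w (CM ||| 2) = LM ||| 2 := by decide +kernel
theorem c4 : cntErr 11 4 LM = 0 := by decide +kernel
def R1 : ℕ := (nat_lit 0x20000440000000000000010000000000000000000b00600008000000000000000000000000800000000009c000000000000000000000000000000025b00400f20000002880004000600000000000400008000000000dd70020000020000015800c0000000002066b2004400bc20000117853582292ec0000003005ba000292d9ec3022b0004b030000002024eee04523b500095a5d856c004250b896c5d7443614dc48000124bb0056ca0097616002a3858b5da309e280012d805d00b0a0028c28b5b109e80161615405316dc9782acb42bba9f8b765777fbd6effdfffff)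
def R2 : ℕ := (nat_lit 0x369909f19201040000002ac8080000010801401a33c01e82cc400000a000008000000000000000022c552d600630000000000000200264078440610d4004704403803c2010b1010301000000000000000000054b5859a00818f00000000000028047683c10020231c00010180000f01010c04ec5805002000000000000166805805978000000070077c08020239c1a00a002f808b23b58c3c00000002c034ac60000042726011476a98c05e48eeede400003073b10000163111bb3b3c877664000187368001e20eef0ec8000db800c1d86c00780006ce01000740002000000)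
theorem r1 : appW M.nets [7, 2, 3, 4, 3, 2, 7, 6, 2, 3, 4, 3, 2, 6] DM = R1 := by decide +kernel
theorem r2 : appW M.nets [7] DM = R2 := by decide +kernel
def tbl : List (ℕ × List ℕ) := [(0, []), (995, [7, 2, 3, 4, 3, 2, 7, 6, 2, 3, 4, 3, 2, 6]), (47, [7, 2, 3, 4, 3, 2, 7]), (79, [7, 2, 3, 4, 3, 2, 5, 7]), (125, [7, 2, 3, 4, 3, 2, 5, 4, 7]), (271, [7, 2, 1, 3, 4, 3, 2, 5, 4, 3, 7]), (407, [7, 2, 1, 3, 4, 3, 2, 5, 4, 3, 7, 2]), (653, [7, 2, 3, 4, 3, 2, 5, 4, 3, 2, 1, 4, 7]), (192, [7, 2, 3, 4, 3, 2, 5, 4, 3, 7]), (321, [7, 2, 3, 4, 3, 5, 4, 3, 2, 1, 7]), (229, [7, 2, 1, 3, 2, 4, 3, 2, 4, 5, 4]), (22, [7, 2, 1, 3, 2, 7]), (1404, [7, 2, 1, 2, 3, 4, 3, 2, 5, 4, 3, 2, 4, 6, 2, 7]), (777, [7, 2, 1, 3, 2, 4, 3, 2, 5, 4, 3, 6, 2, 1]), (666, [7, 2, 3, 4, 3, 2, 5, 4, 3, 2, 6, 7, 2]), (554, [7, 2, 1, 3, 2, 4, 3, 5, 4, 3, 2, 7, 6]), (436, [7, 2, 3, 4, 3, 2, 1, 5, 6, 2, 3, 7]), (120, [7, 2, 3, 4, 3, 2, 1, 5, 6]), (204, [7,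 2, 3, 4, 3, 5, 4, 3, 2, 6]), (44, [7, 2, 3, 4, 3, 2, 1]), (169, [7, 2, 1, 3, 2, 4, 7, 6, 2, 3]), (127, [7, 2, 3, 4, 3, 2, 5, 6, 7]), (149, [7, 2, 1, 3, 2, 4, 3, 2, 4, 7]), (221, [7, 2, 1, 3, 2, 4, 3, 2, 1, 2, 5]), (20, [7, 2, 1, 3, 2, 4]), (83, [7, 2, 3, 4, 3, 5, 4, 3])]
def ins : List H57.WL.Ins := [.base 0 1782, .base 995 416, .base 47 100, .base 79 36, .base 125 14, .base 271 4, .base 407 3, .base 653 2, .fix 192, .fix 321, .fix 229, .fix 22, .fix 1404, .fix 777, .fix 666, .fix 554, .fix 436, .fix 120, .fix 204, .fix 44, .fix 169, .fix 127, .fix 149, .fix 221, .fix 20, .fix 83]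
theorem tbl_ok : tblErr M.nets 0 false tbl = 0 := by decide +kernel
theorem wl_ok : H57.WL.run M.N 42 43 (2 ^ M.N - 1) (rowT M.nets DM tbl (M.dflt 995)) (fun _ => 0)
    (List.range M.N) ins [] = true := by decide +kernel

instance : Finite Spor.Suz := finite

theorem St0 : M.St 0 = clW M.el hw := index_H.2.symm.trans H_clW

theorem card0 : Nat.card (M.St 0) = 251596800 := index_H.2 ▸ SuzG.card_H

theorem hD : M.orb (M.St 0) 995 = bits DM := St0 ▸ M.orb_eq_bits bD kD (by decide +kernel)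

theorem hS : M.orb (M.St 0) 1 = bits SM := St0 ▸ M.orb_eq_bits bS kS (by decide +kernel)

theorem nD : (M.orb (M.St 0) 995).ncard = 416 := hD ▸ ncard_of_cntErr cD

theorem nS : (M.orb (M.St 0) 1).ncard = 1365 := hS ▸ ncard_of_cntErr cS

theorem fix {ws : List (List ℕ)} {l : List ℕ} (h : fixErr M.nets ws l = 0) {p : ℕ} (hp : p ∈ l) :
    clW M.el ws ≤ M.St p := M.clW_le_St (fixErr_zero h p hp)

theorem J_eq : clL el [2, 3, 4, 5] = M.St 0 ⊓ M.St 995 := by
  have h1 : clL el [2, 3, 4, 5] ≤ clW M.el jw := (clL_eq_clW el _).le.trans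
    (clW_le fun x hx => wv_mem_clW _ (by revert x; decide))
  have hH : Subgroup.closure (el '' {x | x ∈ [2, 3, 4, 5, 6]}) = M.St 0 := H_eq.symm.trans index_H.2
  have h2 := (M.relIndex_eq (h1.trans (fix fj (p := 995) (by decide))) (Suz2.relIndex_le R _
    (forall_cons (a_mem R (mem_clL el _ _ (by decide))) (mem_clL el [2, 3, 4, 5] _ (by decide))))
    (by rw [hH, nD])).2
  rwa [hH, inf_eq_left.2 (h1.trans (fix fj (by decide))), inf_comm] at h2

theorem fix416 {K : Subgroup Spor.Suz} (hK : K ≤ M.St 0) (hc : Nat.card K = 604800) :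
    ∃ p ∈ M.orb (M.St 0) 995, K ≤ M.St p := by
  obtain ⟨g, hg, h1⟩ := Model.exists_fix (p := 5) (n := 2) (x := 995) hK (by norm_num)
    (by rw [nD]; norm_num) (by rw [hc]; norm_num)
  have h2 := M.card_eq_orb (M.St 0) 995
  rw [card0, nD, ← J_eq] at h2
  have h3 := (card_cj K g).trans hc
  refine ⟨_, ⟨g, hg, rfl⟩, Model.le_St_of_cj ?_⟩
  rcases SuzJ.main (R.drop (by decide +kernel)) (by omega)
    (J_eq ▸ inf_le_inf_right _ (cj_le hK hg)) h1 with h | h
  · exact inf_eq_left.1 (Subgroup.eq_of_le_of_card_ge inf_le_left (by rw [h]; omega))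
  · have h4 := M.card_eq_orb (cj K g) 995
    have h5 := Set.ncard_le_ncard (Model.orb_mono (cj_le hK hg) 995) (M.orb_finite' _ _)
    rw [nD] at h5
    have := Nat.mul_le_mul h5 h
    omega

theorem tb2 (x : ℕ) : (2 : ℕ).testBit x = decide (1 = x) := Nat.testBit_two_pow (n := 1)

theorem cardS : Nat.card ↥(M.St 0 ⊓ M.St 1) = 184320 := by
  have h2 := M.card_eq_orb (M.St 0) 1
  rw [card0, nS] at h2
  omega

theorem S_eq : clW M.el sw = M.St 0 ⊓ M.St 1 := by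
  refine Subgroup.eq_of_le_of_card_ge (le_inf (fix fs (by decide)) (fix fs (by decide))) ?_
  have h1 : 180 ≤ _ := M.le_ncard_orb (K := clW M.el sw ⊓ M.St 2) (fun x hx =>
    ⟨clW_subW_le _ _ _ (wv_mem_clW _ hx), M.mem_St_of f180 (wv_mem_clW _ hx)⟩) o180 (M.orb_finite' _ _)
  rw [cardS, M.card_eq_orb _ 2, M.ncard_orb_eq o1024, M.card_eq_orb _ 160]
  exact Nat.mul_le_mul_left 1024 (Nat.mul_le_mul h1 (Nat.card_pos : 1 ≤ _))

theorem hC : M.orb (M.St 0 ⊓ M.St 1) 16 = bits CM := S_eq ▸ M.orb_eq_bits bC kC (by decide +kernel)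

/-- the orbit consists of collinear points -/
theorem collinear {K : Subgroup Spor.Suz} (hK : K ≤ M.St 0) (hc : Nat.card K = 184320)
    (h : 4096 ∣ Nat.card ↥(K ⊓ M.St 1)) : M.orb K 1 ⊆ bits (CM ||| 2) := by
  intro y hy
  have h1 := M.card_eq_orb K 1
  have h2 : (M.orb K 1).ncard ≤ 45 := by
    have := Nat.le_of_dvd Nat.card_pos h
    nlinarith
  have h3 : (M.orb (K ⊓ M.St 1) y).ncard ≤ 45 := (Set.ncard_le_ncard
    ((Model.orb_mono inf_le_left y).trans (Model.orb_eq_of_mem hy).le) (M.orb_finite' _ _)).trans h2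
  have h4 : 0 < (M.orb (K ⊓ M.St 1) y).ncard :=
    (Set.ncard_pos (M.orb_finite' _ _)).2 ⟨_, Model.mem_orb_self _ _⟩
  have h5 := M.card_eq_orb (M.St 0 ⊓ M.St 1) y
  have h6 := Nat.mul_dvd_mul_left (M.orb (K ⊓ M.St 1) y).ncard (Subgroup.card_dvd_of_le
    (inf_le_inf_right (M.St y) (inf_le_inf_right (M.St 1) hK)))
  rw [← M.card_eq_orb] at h6
  replace h6 := h.trans h6
  rcases (Model.part_spec (M := M) (fun _ h => S_eq ▸ wv_mem_clW _ h) 0 pS_ok).1 y
    (hS ▸ Model.orb_mono hK _ hy) with e | ⟨e, he, h7⟩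
  · simp [bits] at e
  simp only [pS, List.mem_cons, List.not_mem_nil, or_false] at he
  rcases he with rfl | rfl | rfl | rfl
  · obtain ⟨g, hg, rfl⟩ := h7
    rw [show M.φ g 1 = 1 from hg.2]
    exact (by decide +kernel : (CM ||| 2).testBit 1 = true)
  · rw [hC] at h7
    simpa [bits] using Or.inl h7
  · rw [Model.orb_eq_of_mem h7, ← S_eq, M.ncard_orb_eq o320, S_eq, cardS] at h5
    rw [show Nat.card ↥(M.St 0 ⊓ M.St 1 ⊓ M.St y) = 576 by omega] at h6
    omega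
  · rw [Model.orb_eq_of_mem h7, ← S_eq, M.ncard_orb_eq o1024, S_eq, cardS] at h5
    rw [show Nat.card ↥(M.St 0 ⊓ M.St 1 ⊓ M.St y) = 180 by omega] at h6
    omega

/-- the stabiliser of a line -/
theorem line {K : Subgroup Spor.Suz} (hK : K ≤ M.St 0) (hc : Nat.card K = 184320)
    (h : 4096 ∣ Nat.card ↥(K ⊓ M.St 1)) (hy : 16 ∈ M.orb K 1) {d : ℕ}
    (hd : d ∈ M.orb (M.St 0) 995) : Nat.card ↥(K ⊓ M.St d) ≤ 1152 := by
  have a0 : wv M.el w ∈ M.St 0 := M.apply_wv' w0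
  have a1 : M.φ (wv M.el w) 1 = 16 := M.apply_wv' w1
  have a2 : M.φ (wv M.el w) 16 = 1 := M.apply_wv' w2
  have a3 : M.φ (wv M.el w)⁻¹ 1 = 16 := by rw [map_inv, Equiv.Perm.inv_eq_iff_eq, a2]
  have h1 := M.card_eq_orb K 1
  have h2 := M.card_eq_orb K 16
  rw [Model.orb_eq_of_mem hy, h1] at h2
  have h3 := collinear (cj_le hK ((M.St 0).inv_mem a0)) ((card_cj _ _).trans hc) (by
    rw [Model.card_cj_inf, a3, ← Nat.eq_of_mul_eq_mul_left
      ((Set.ncard_pos (M.orb_finite' _ _)).2 ⟨_, hy⟩) h2]; exact h)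
  have h4 : M.orb K 1 ⊆ insert 1 (bits LM) := fun x hx => by
    have b1 : (CM ||| 2).testBit x = true := collinear hK hc h hx
    have b2 : (CM ||| 2).testBit (M.φ (wv M.el w) x) = true := h3 (Model.mem_orb_cj.2 (by
      rw [a3, Model.orb_eq_of_mem hy]; simpa using hx))
    have b3 := congrArg (·.testBit x) lm
    simp only [Nat.testBit_and, b1, (testBit_appW M.hN _ _ _).trans (M.φ_wv w ▸ b2),
      Nat.testBit_or LM, tb2] at b3
    by_cases e : 1 = x
    · exact Or.inl e.symm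
    · exact Or.inr (show LM.testBit x = true by simpa [e] using b3)
  have h5 : (M.orb K 1).ncard ≤ 5 := (Set.ncard_le_ncard h4 ((bits_finite _).insert _)).trans
    ((Set.ncard_insert_le _ _).trans (by rw [ncard_of_cntErr c4]))
  have h6 : ∀ x ∈ M.orb K 1, x ≠ 1 → x ∈ bits LM := fun x hx e => (h4 hx).resolve_left e
  have h7 : M.orb (K ⊓ M.St 1) 16 ⊆ bits LM := by
    rintro _ ⟨g, hg, rfl⟩
    exact h6 _ ((Model.apply_mem_orb hg.1).2 hy) fun e =>
      absurd ((M.φ g).injective (e.trans (Eq.symm hg.2))) (by decide)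
  have h8 := Set.ncard_le_ncard h7 (bits_finite _)
  have h9 := M.card_eq_orb (M.St 0 ⊓ M.St 1) 16
  have h10 := M.card_eq_orb (K ⊓ M.St 1) 16
  have h11 := inf_le_inf_right (M.St 16) (inf_le_inf_right (M.St 1) hK)
  have h12 := Subgroup.card_le_of_le h11
  rw [hC, ncard_of_cntErr cC, cardS] at h9
  rw [ncard_of_cntErr c4] at h8
  have h13 : 36864 ≤ Nat.card ↥(K ⊓ M.St 1) := by nlinarith
  have h14 : M.orb (K ⊓ M.St 1) 16 = bits LM := Set.eq_of_subset_of_ncard_le h7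
    (by rw [ncard_of_cntErr c4]; nlinarith) (bits_finite _)
  have h15 : M.St 0 ⊓ M.St 1 ⊓ M.St 16 ≤ K :=
    (Subgroup.eq_of_le_of_card_ge h11 (by nlinarith)).ge.trans (inf_le_left.trans inf_le_left)
  have h16 : ∀ k ∈ K, ∀ g ∈ M.St 0, M.φ k 1 = M.φ g 1 → M.φ k 16 = M.φ g 16 → g ∈ K :=
    fun k hk g hg e1 e2 => by
      simpa using K.mul_mem hk (h15 (x := k⁻¹ * g) ⟨⟨(M.St 0).mul_mem ((M.St 0).inv_mem (hK hk)) hg,
        by simp [Model.mem_St, ← e1]⟩, by simp [Model.mem_St, ← e2]⟩)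
  have h17 : wv M.el w ∈ K := by
    obtain ⟨k, hk, e⟩ := hy
    obtain ⟨m, hm, e2⟩ : M.φ k⁻¹ 1 ∈ M.orb (K ⊓ M.St 1) 16 := h14 ▸ h6 _ ⟨_, K.inv_mem hk, rfl⟩ fun e3 => by
      rw [map_inv, Equiv.Perm.inv_eq_iff_eq, e] at e3
      exact absurd e3 (by decide)
    exact h16 _ (K.mul_mem hk hm.1) _ a0 (by simp [a1, show M.φ m 1 = 1 from hm.2, e])
      (by simp [a2, e2])
  have h18 : wv M.el v ∈ K := by
    obtain ⟨m, hm, e⟩ : 68 ∈ M.orb (K ⊓ M.St 1) 16 :=
      h14 ▸ (by decide +kernel : LM.testBit 68 = true)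
    exact h16 _ hm.1 _ (M.apply_wv' v0) (hm.2.trans (M.apply_wv' v1).symm)
      (e.trans (M.apply_wv' v2).symm)
  obtain ⟨h19, h20, -⟩ := Model.part_spec (M := M) (K := K) (forall_cons h17 (forall_cons h18 fun x hx =>
    h15 ⟨⟨fix fb (by decide) (wv_mem_clW _ hx), fix fb (by decide) (wv_mem_clW _ hx)⟩,
      fix fb (by decide) (wv_mem_clW _ hx)⟩)) 0 pl_ok
  rcases h19 d (hD ▸ hd) with e | ⟨e, he, h21⟩
  · simp [bits] at e
  have h22 := h20 e he (M.orb_finite' _ _)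
  have h23 := (by decide : ∀ e ∈ pl, 160 ≤ e.2.1) e he
  have h24 := M.card_eq_orb K d
  rw [Model.orb_eq_of_mem h21, hc] at h24
  nlinarith

theorem fix1365 {K : Subgroup Spor.Suz} (hK : K ≤ M.St 0) (hc : Nat.card K = 184320) {d : ℕ}
    (hd : d ∈ M.orb (M.St 0) 995) (h : 1152 < Nat.card ↥(K ⊓ M.St d)) :
    ∃ q ∈ M.orb (M.St 0) 1, K ≤ M.St q := by
  obtain ⟨g, hg, h1⟩ := Model.exists_fix (p := 2) (n := 12) (x := 1) hK (by norm_num)
    (by rw [nS]; norm_num) (by rw [hc]; norm_num)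
  refine ⟨_, ⟨g, hg, rfl⟩, Model.le_St_of_cj fun k hk => by_contra fun hn => ?_⟩
  have h2 := (card_cj K g).trans hc
  have h3 : (CM ||| 2).testBit (M.φ k 1) = true := collinear (cj_le hK hg) h2 h1 ⟨k, hk, rfl⟩
  obtain ⟨s, hs, e⟩ : M.φ k 1 ∈ M.orb (M.St 0 ⊓ M.St 1) 16 := by
    rw [Nat.testBit_or, tb2, Bool.or_eq_true,
      decide_eq_true_eq] at h3
    exact hC ▸ h3.resolve_right fun e => hn e.symm
  have e1 : M.φ s 1 = 1 := hs.2
  have h4 := line (cj_le (cj_le hK hg) hs.1) ((card_cj _ s).trans h2)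
    (by rwa [Model.card_cj_inf, e1]) (Model.mem_orb_cj.2 ⟨k, hk, by rw [e1, e]⟩)
    (d := M.φ (g * s)⁻¹ d)
    ((Model.apply_mem_orb ((M.St 0).inv_mem ((M.St 0).mul_mem hg hs.1))).2 hd)
  rw [Model.card_cj_inf, Model.card_cj_inf] at h4
  simp only [map_inv, map_mul, mul_inv_rev, Equiv.Perm.mul_apply, pself_inv] at h4
  omega

theorem uniq (R : ℕ → ℕ → Prop) (h : M.Good 416 995 R) :
    ∀ z ∈ M.orb (M.St 0) 995 ∪ M.orb (M.St 0) 1, ∀ y, R z y ↔ M.R0 995 z y := by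
  have e1 := h.row (by decide) fj pj_ok
  have e2 := h.row (by decide) fs ps_ok
  have a1 : R 995 0 := h.symm _ _ ((h.zero _).2 (Model.mem_orb_self _ _))
  have a2 : ¬ R 1 0 := fun e => absurd (hD ▸ (h.zero _).1 (h.symm _ _ e) : 1 ∈ bits DM)
    (by decide +kernel : ¬ DM.testBit 1 = true)
  have a3 : R 1 995 ↔ R 995 1 := ⟨h.symm _ _, h.symm _ _⟩
  have a4 : R 1 471 ↔ R 995 21 := by
    rw [← h.iff (M.apply_wv' h0) 995 21, M.apply_wv' h1, M.apply_wv' h2]
    exact ⟨h.symm _ _, h.symm _ _⟩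
  simp only [pj, ps, List.map_cons, List.map_nil, List.sum_cons, List.sum_nil, a1, a2,
    h.irrefl, if_true, if_false] at e1 e2
  obtain ⟨b1, b4, b0⟩ : R 995 47 ∧ ¬ R 995 21 ∧ (R 995 1 → ¬ R 995 81) := by
    split_ifs at e1 <;> first | omega | tauto
  obtain ⟨b3, b5, b6, b7⟩ : R 995 1 ∧ ¬ R 1 16 ∧ R 1 25 ∧ ¬ R 1 2 := by
    split_ifs at e2 <;> first | omega | tauto
  have b2 := b0 b3
  have c1 : ∀ e ∈ pj, R 995 e.1 ↔ R1.testBit e.1 = true := (forall_cons (iff_of_true a1 (by decide +kernel))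
    (forall_cons (iff_of_false (h.irrefl _) (by decide +kernel))
    (forall_cons (iff_of_true b1 (by decide +kernel))
    (forall_cons (iff_of_false b2 (by decide +kernel))
    (forall_cons (iff_of_true b3 (by decide +kernel))
    (forall_cons (iff_of_false b4 (by decide +kernel))
    (forall_nil' _)))))))
  have c2 : ∀ e ∈ ps, R 1 e.1 ↔ R2.testBit e.1 = true := (forall_cons (iff_of_false a2 (by decide +kernel))
    (forall_cons (iff_of_false (h.irrefl _) (by decide +kernel))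
    (forall_cons (iff_of_false b5 (by decide +kernel))
    (forall_cons (iff_of_true b6 (by decide +kernel))
    (forall_cons (iff_of_false b7 (by decide +kernel))
    (forall_cons (iff_of_true (a3.2 b3) (by decide +kernel))
    (forall_cons (iff_of_false (mt a4.1 b4) (by decide +kernel))
    (forall_nil' _))))))))
  rintro z (hz | hz)
  · exact h.row_iff (M := M) hgen (by decide) fj pj_ok (fun e he => (c1 e he).trans
      (Model.r0_iff' hD u1 r1)) z hz
  · exact h.row_iff (M := M) hgen (by decide) fs ps_ok (fun e he => (c2 e he).trans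
      (Model.r0_iff' hD u2 r2)) z hz

theorem bound (K : Subgroup (Equiv.Perm (Fin M.N)))
    (hK : ∀ g ∈ K, ∀ i j : Fin M.N, M.R0 995 (g i) (g j) ↔ M.R0 995 i j) :
    Nat.card K ≤ 2 * Nat.card Spor.Suz :=
  card_eq.symm ▸ le_trans (Model.aut_le hD tbl_ok (by decide) wl_ok K hK) (by decide +kernel)

open MulAction in
theorem main {Γ Ω : Type*} [Group Γ] [MulAction Γ Ω] [FaithfulSMul Γ Ω] {a b c : Ω}
    (h : R3.Hyp Γ a b c 416 1365) (e : stabilizer Γ a ≃* H) : Nonempty (Γ ≃* Spor.Suz) := by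
  have := simple
  let ψ : stabilizer Γ a →* Spor.Suz := H.subtype.comp e.toMonoidHom
  have hψ : Function.Injective ψ := H.subtype_injective.comp e.injective
  have hr : ψ.range = M.St 0 := by
    rw [MonoidHom.range_comp, MonoidHom.range_eq_top.2 e.surjective, ← MonoidHom.range_eq_map,
      Subgroup.range_subtype, index_H.2]
  have c1 := R3.card_map_stab hψ b
  have c2 := R3.card_map_stab hψ c
  rw [hr, card0] at c1 c2
  rw [h.hb] at c1
  rw [h.hc] at c2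
  obtain ⟨p, hp, hb⟩ := fix416 (K := (stabilizer _ b).map ψ) (hr ▸ Subgroup.map_le_range ψ _) (by omega)
  obtain ⟨d, hd, h1⟩ := Model.exists_big h (by rw [h.card]; norm_num) hψ hr hb
  rw [card0] at h1
  obtain ⟨q, hq, hc⟩ := fix1365 (K := (stabilizer _ c).map ψ) (hr ▸ Subgroup.map_le_range ψ _) (by omega)
    (Model.orb_eq_of_mem hp ▸ hd) (by omega)
  exact Model.iso_of (M := M) h hgen inj trans rfl ψ hψ hr (by decide) (by decide) nD nS hp hq hb hc uniq bound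

end Cfsg.Agent.H58.SuzR
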