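import Cfsg.Agent.H58.Fi24H
import Cfsg.Agent.H58.Cert.Y5

set_option autoImplicit false
set_option Elab.async false
set_option maxRecDepth 100000
set_option linter.constructorNameAsVariable false
set_option exponentiation.threshold 400000

namespace Cfsg.Agent.H58.Y5

open Cfsg Cfsg.Agent.H58 Fi24P

def fws : List (List ℕ) := [[1], [2], [3], [4], [5], [6], [7], [8], [9], [10], [11], [1, 2, 3, 4, 5, 6, 8, 1, 2, 3, 4, 5, 6, 8, 1, 2, 3, 4, 5, 6, 8, 1, 2, 3, 4, 5, 6, 8, 1, 2, 3, 4, 5, 6, 8, 1, 2, 3, 4, 5, 6, 8, 1, 2, 3, 4, 5, 6, 8, 1, 2, 3, 4, 5, 6, 8, 1, 2, 3, 4, 5, 6, 8]]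

/-- the letters of Fi24 -/
noncomputable abbrev e2 : ℕ → Spor.Fi24 := elX el iv 1 fws

def ex1 : List (List ℕ) := [[1, 2, 3, 4, 5, 6, 8, 1, 2, 3, 4, 5, 6, 8, 1, 2, 3, 4, 5, 6, 8, 1, 2, 3, 4, 5, 6, 8, 1, 2, 3, 4, 5, 6, 8, 1, 2, 3, 4, 5, 6, 8, 1, 2, 3, 4, 5, 6, 8, 1, 2, 3, 4, 5, 6, 8, 1, 2, 3, 4, 5, 6, 8, 1, 2, 3, 4, 5, 6, 8, 1, 2, 3, 4, 5, 6, 8, 1, 2, 3, 4, 5, 6, 8, 1, 2, 3, 4, 5, 6, 8, 1, 2, 3, 4, 5, 6, 8, 1, 2, 3, 4, 5, 6, 8, 1, 2, 3, 4, 5, 6, 8, 1, 2, 3, 4, 5, 6, 8, 1, 2, 3, 4, 5, 6, 8],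
  [2, 3, 4, 5, 6, 8, 1, 2, 3, 4, 5, 6, 8, 1, 2, 3, 4, 5, 6, 8, 1, 2, 3, 4, 5, 6, 8, 1, 2, 3, 4, 5, 6, 8, 1, 2, 3, 4, 5, 6, 8, 1, 2, 3, 4, 5, 6, 8, 1, 2, 3, 4, 5, 6, 8, 1, 2, 3, 4, 5, 6, 8, 2, 3, 4, 5, 6, 8, 1, 2, 3, 4, 5, 6, 8, 1, 2, 3, 4, 5, 6, 8, 1, 2, 3, 4, 5, 6, 8, 1, 2, 3, 4, 5, 6, 8, 1, 2, 3, 4, 5, 6, 8, 1, 2, 3, 4, 5, 6, 8, 1, 2, 3, 4, 5, 6, 8, 1, 2, 3, 4, 5, 6, 8],
  [2, 1, 2, 3, 4, 5, 6, 8, 1, 2, 3, 4, 5, 6, 8, 1, 2, 3, 4, 5, 6, 8, 1, 2, 3, 4, 5, 6, 8, 1, 2, 3, 4, 5, 6, 8, 1, 2, 3, 4, 5, 6, 8, 1, 2, 3, 4, 5, 6, 8, 1, 2, 3, 4, 5, 6, 8, 1, 2, 3, 4, 5, 6, 8, 2, 1, 2, 3, 4, 5, 6, 8, 1, 2, 3, 4, 5, 6, 8, 1, 2, 3, 4, 5, 6, 8, 1, 2, 3, 4, 5, 6, 8, 1, 2, 3, 4, 5, 6, 8, 1, 2, 3, 4, 5, 6, 8, 1, 2, 3, 4, 5, 6, 8, 1, 2, 3, 4, 5, 6, 8, 1, 2, 3, 4, 5,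 6, 8],
  [3, 1, 2, 3, 4, 5, 6, 8, 1, 2, 3, 4, 5, 6, 8, 1, 2, 3, 4, 5, 6, 8, 1, 2, 3, 4, 5, 6, 8, 1, 2, 3, 4, 5, 6, 8, 1, 2, 3, 4, 5, 6, 8, 1, 2, 3, 4, 5, 6, 8, 1, 2, 3, 4, 5, 6, 8, 1, 2, 3, 4, 5, 6, 8, 3, 1, 2, 3, 4, 5, 6, 8, 1, 2, 3, 4, 5, 6, 8, 1, 2, 3, 4, 5, 6, 8, 1, 2, 3, 4, 5, 6, 8, 1, 2, 3, 4, 5, 6, 8, 1, 2, 3, 4, 5, 6, 8, 1, 2, 3, 4, 5, 6, 8, 1, 2, 3, 4, 5, 6, 8, 1, 2, 3, 4, 5, 6, 8],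
  [4, 1, 2, 3, 4, 5, 6, 8, 1, 2, 3, 4, 5, 6, 8, 1, 2, 3, 4, 5, 6, 8, 1, 2, 3, 4, 5, 6, 8, 1, 2, 3, 4, 5, 6, 8, 1, 2, 3, 4, 5, 6, 8, 1, 2, 3, 4, 5, 6, 8, 1, 2, 3, 4, 5, 6, 8, 1, 2, 3, 4, 5, 6, 8, 4, 1, 2, 3, 4, 5, 6, 8, 1, 2, 3, 4, 5, 6, 8, 1, 2, 3, 4, 5, 6, 8, 1, 2, 3, 4, 5, 6, 8, 1, 2, 3, 4, 5, 6, 8, 1, 2, 3, 4, 5, 6, 8, 1, 2, 3, 4, 5, 6, 8, 1, 2, 3, 4, 5, 6, 8, 1, 2, 3, 4, 5, 6, 8],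
  [5, 1, 2, 3, 4, 5, 6, 8, 1, 2, 3, 4, 5, 6, 8, 1, 2, 3, 4, 5, 6, 8, 1, 2, 3, 4, 5, 6, 8, 1, 2, 3, 4, 5, 6, 8, 1, 2, 3, 4, 5, 6, 8, 1, 2, 3, 4, 5, 6, 8, 1, 2, 3, 4, 5, 6, 8, 1, 2, 3, 4, 5, 6, 8, 5, 1, 2, 3, 4, 5, 6, 8, 1, 2, 3, 4, 5, 6, 8, 1, 2, 3, 4, 5, 6, 8, 1, 2, 3, 4, 5, 6, 8, 1, 2, 3, 4, 5, 6, 8, 1, 2, 3, 4, 5, 6, 8, 1, 2, 3, 4, 5, 6, 8, 1, 2, 3, 4, 5, 6, 8, 1, 2, 3, 4, 5, 6, 8],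
  [6, 1, 2, 3, 4, 5, 6, 8, 1, 2, 3, 4, 5, 6, 8, 1, 2, 3, 4, 5, 6, 8, 1, 2, 3, 4, 5, 6, 8, 1, 2, 3, 4, 5, 6, 8, 1, 2, 3, 4, 5, 6, 8, 1, 2, 3, 4, 5, 6, 8, 1, 2, 3, 4, 5, 6, 8, 1, 2, 3, 4, 5, 6, 8, 6, 1, 2, 3, 4, 5, 6, 8, 1, 2, 3, 4, 5, 6, 8, 1, 2, 3, 4, 5, 6, 8, 1, 2, 3, 4, 5, 6, 8, 1, 2, 3, 4, 5, 6, 8, 1, 2, 3, 4, 5, 6, 8, 1, 2, 3, 4, 5, 6, 8, 1, 2, 3, 4, 5, 6, 8, 1, 2, 3, 4, 5, 6, 8],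
  [8, 1, 2, 3, 4, 5, 6, 8, 1, 2, 3, 4, 5, 6, 8, 1, 2, 3, 4, 5, 6, 8, 1, 2, 3, 4, 5, 6, 8, 1, 2, 3, 4, 5, 6, 8, 1, 2, 3, 4, 5, 6, 8, 1, 2, 3, 4, 5, 6, 8, 1, 2, 3, 4, 5, 6, 8, 1, 2, 3, 4, 5, 6, 1, 2, 3, 4, 5, 6, 8, 1, 2, 3, 4, 5, 6, 8, 1, 2, 3, 4, 5, 6, 8, 1, 2, 3, 4, 5, 6, 8, 1, 2, 3, 4, 5, 6, 8, 1, 2, 3, 4, 5, 6, 8, 1, 2, 3, 4, 5, 6, 8, 1, 2, 3, 4, 5, 6, 8, 1, 2, 3, 4, 5, 6, 8],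
  [9, 1, 2, 3, 4, 5, 6, 8, 1, 2, 3, 4, 5, 6, 8, 1, 2, 3, 4, 5, 6, 8, 1, 2, 3, 4, 5, 6, 8, 1, 2, 3, 4, 5, 6, 8, 1, 2, 3, 4, 5, 6, 8, 1, 2, 3, 4, 5, 6, 8, 1, 2, 3, 4, 5, 6, 8, 1, 2, 3, 4, 5, 6, 8, 9, 1, 2, 3, 4, 5, 6, 8, 1, 2, 3, 4, 5, 6, 8, 1, 2, 3, 4, 5, 6, 8, 1, 2, 3, 4, 5, 6, 8, 1, 2, 3, 4, 5, 6, 8, 1, 2, 3, 4, 5, 6, 8, 1, 2, 3, 4, 5, 6, 8, 1, 2, 3, 4, 5, 6, 8, 1, 2, 3, 4, 5, 6, 8]]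

def vw : List ℕ := [7, 1, 2, 3, 4, 5, 6, 8, 1, 2, 3, 4, 5, 6, 8, 1, 2, 3, 4, 5, 6, 8, 1, 2, 3, 4, 5, 6, 8, 1, 2, 3, 4, 5, 6, 8, 1, 2, 3, 4, 5, 6, 8, 1, 2, 3, 4, 5, 6, 8, 1, 2, 3, 4, 5, 6, 8, 1, 2, 3, 4, 5, 6, 8, 7, 1, 2, 3, 4, 5, 6, 8, 1, 2, 3, 4, 5, 6, 8, 1, 2, 3, 4, 5, 6, 8, 1, 2, 3, 4, 5, 6, 8, 1, 2, 3, 4, 5, 6, 8, 1, 2, 3, 4, 5, 6, 8, 1, 2, 3, 4, 5, 6, 8, 1, 2, 3, 4, 5, 6, 8, 1, 2, 3, 4, 5, 6, 8]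

def uw : List ℕ := [1, 2, 3, 4, 5, 6, 8, 11, 1, 2, 3, 4, 5, 6, 8, 11, 1, 2, 3, 4, 5, 6, 8, 11, 1, 2, 3, 4, 5, 6, 8, 11, 1, 2, 3, 4, 5, 6, 8, 11, 1, 2, 3, 4, 5, 6, 8, 11, 1, 2, 3, 4, 5, 6, 8, 11, 1, 2, 3, 4, 5, 6, 8, 11, 1, 2, 3, 4, 5, 6, 8, 11, 1, 2, 3, 4, 5, 6, 8, 11, 1, 2, 3, 4, 5, 6, 8, 11, 1, 2, 3, 4, 5, 6, 8, 11, 1, 2, 3, 4, 5, 6, 8, 11, 1, 2, 3, 4, 5, 6, 8, 11, 1, 2, 3, 4, 5, 6, 8, 11]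

def w1 : List ℕ := [12, 1, 6, 2, 8, 5, 3, 4, 1, 6, 2, 8, 5, 3, 4, 1, 6, 2, 8, 5, 3, 4, 1, 6, 2, 8, 5, 3, 4, 1, 6, 2, 8, 5, 3, 4, 1, 6, 2, 8, 5, 3, 4, 1, 6, 2, 8, 5, 3, 4, 1, 6, 2, 8, 5, 3, 4, 1, 6, 2, 8, 5, 3, 4]

def w2 : List ℕ := [12, 1, 9, 2, 5, 8, 3, 4, 1, 9, 2, 5, 8, 3, 4, 1, 9, 2, 5, 8, 3, 4, 1, 9, 2, 5, 8, 3, 4, 1, 9, 2, 5, 8, 3, 4, 1, 9, 2, 5, 8, 3, 4, 1, 9, 2, 5, 8, 3, 4, 1, 9, 2, 5, 8, 3, 4, 1, 9, 2, 5, 8, 3, 4]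

theorem F_ok : loopsOK (wstep step fws) (((List.range 64).map fun x => [ivf iv x, x]) ++
    (Y5D.rels ++ (ex1 ++ [vw, uw, w1, w2]))) [51, 6940, 24, 1226, 87475, 0] = true := by
  decide +kernel

theorem F : RuleOK e2 (Y5D.rels ++ (ex1 ++ [vw, uw, w1, w2])) iv :=
  ruleOK_words F_ok (by decide +kernel)

variable {G : Type*} [Group G] {e : ℕ → G}

theorem inj_of {gens : List ℕ} {n : ℕ} (h1 : Finite (clL (fun x => (e x, e2 x)) gens) ∧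
      Nat.card (clL (fun x => (e x, e2 x)) gens) ≤ n) (h2 : n ≤ Nat.card ((clL el gens).map M.φ))
    (hg : (gens.map (fun x => subst 1 fws [x]) == gens.map fun x => [x]) = true) {w : List ℕ}
    (hw : wv (fun x => (e x, e2 x)) w ∈ clL (fun x => (e x, e2 x)) gens)
    (hF : w ∈ ex1 ++ [vw, uw, w1, w2]) : wv (fun x => (e x, e2 x)) w = 1 := by
  refine (inj_on_of_card (M.φ.comp (MonoidHom.snd G _)) h1 ?_).2 _ hw ?_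
  · rw [← Subgroup.map_map, clL_map]
    rwa [clL_eq_clW, ← clL_elX_eq el iv 1 fws gens _ hg] at h2
  · rw [MonoidHom.comp_apply, map_wv]
    exact (congrArg M.φ (F.hrel w (List.mem_append_right _ hF))).trans (map_one _)

def vws : List (List ℕ) := [[1, 2, 3, 4, 5, 6, 8, 1, 2, 3, 4, 5, 6, 8, 1, 2, 3, 4, 5, 6, 8, 1, 2, 3, 4, 5, 6, 8, 1, 2, 3, 4, 5, 6, 8, 1, 2, 3, 4, 5, 6, 8, 1, 2, 3, 4, 5, 6, 8, 1, 2, 3, 4, 5, 6, 8, 1, 2, 3, 4, 5, 6, 8], [7, 1, 2, 3, 4, 5, 6, 8, 1, 2, 3, 4, 5, 6, 8, 1, 2, 3, 4, 5, 6, 8, 1, 2, 3, 4, 5, 6, 8, 1, 2, 3, 4, 5, 6, 8, 1, 2, 3, 4, 5, 6, 8, 1, 2, 3, 4, 5, 6, 8, 1, 2, 3, 4, 5, 6, 8, 1, 2, 3, 4, 5, 6, 8, 7, 1, 2, 3, 4, 5, 6, 8, 1, 2, 3, 4, 5, 6, 8, 1, 2, 3, 4, 5, 6, 8, 1, 2, 3, 4, 5, 6, 8, 1, 2, 3, 4, 5, 6, 8, 1, 2, 3, 4, 5,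 6, 8, 1, 2, 3, 4, 5, 6, 8, 1, 2, 3, 4, 5, 6, 8, 1, 2, 3, 4, 5, 6, 8], [8, 6, 5, 4, 3, 2, 1, 8, 6, 5, 4, 3, 2, 1, 8, 6, 5, 4, 3, 2, 1, 8, 6, 5, 4, 3, 2, 1, 8, 6, 5, 4, 3, 2, 1, 8, 6, 5, 4, 3, 2, 1, 8, 6, 5, 4, 3, 2, 1, 8, 6, 5, 4, 3, 2, 1, 8, 6, 5, 4, 3, 2, 1, 7, 8, 6, 5, 4, 3, 2, 1, 8, 6, 5, 4, 3, 2, 1, 8, 6, 5, 4, 3, 2, 1, 8, 6, 5, 4, 3, 2, 1, 8, 6, 5, 4, 3, 2, 1, 8, 6, 5, 4, 3, 2, 1, 8, 6, 5, 4, 3, 2, 1, 8, 6, 5, 4, 3, 2, 1, 8, 6, 5, 4, 3, 2, 1, 7], [0], [0], [0], [0], [0], [0], [0], [0], [0], [0], [0], [0], [0], [0], [0], [0], [0], [0], [0], [0], [0], [0], [0], [0], [0], [0], [0], [0], [0], [0], [0], [0], [0], [0], [0], [0], [0], [0], [0], [0], [0], [0], [0], [0], [0], [0], [0], [0]]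

theorem vok : extOK (Y5D.rels ++ ex1) iv 13 vws Y5V.rels Y5V.iv [(1, 0), (3, 0), (5, 0), (7, 0), (9, 0), (11, 0), (13, 0), (15, 0), (17, 0), (19, 0), (21, 0), (23, 0), (25, 0), (27, 0), (29, 0), (31, 0), (33, 0), (35, 0), (37, 0), (39, 0), (41, 0), (43, 0), (45, 0), (47, 0), (49, 0), (51, 0), (53, 0), (55, 0), (57, 0), (59, 0), (61, 0), (63, 0), (65, 0), (67, 0), (69, 0), (71, 0), (73, 0), (75, 0), (77, 0), (79, 0), (81, 0), (83, 0), (85, 0), (87, 0), (89, 0), (91, 0), (93, 0), (95, 0), (97, 0), (99, 0), (101, 0), (103, 0), (105, 0), (107, 0), (109, 0), (111, 0), (113, 0), (115, 0), (117, 0), (119, 0), (121, 0), (123, 0), (125, 0), (127, 0), (129, 0), (131, 0), (133, 0), (135, 0), (137, 0), (139, 0), (141, 0), (143, 0), (145, 0), (147, 0), (149,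 0), (151, 0), (0, 0)]
    [(0, 0), (0, 0), (0, 0), (0, 0), (0, 0), (0, 0), (0, 0), (0, 0), (0, 0), (0, 0), (0, 0), (0, 0), (0, 0), (135, 0), (0, 0), (0, 0), (0, 0), (0, 0), (0, 0), (0, 0), (0, 0), (0, 0), (0, 0), (0, 0), (0, 0), (0, 0), (0, 0), (0, 0), (0, 0), (0, 0), (0, 0), (0, 0), (0, 0), (0, 0), (0, 0), (0, 0), (0, 0), (0, 0), (0, 0), (0, 0), (0, 0), (0, 0), (0, 0), (0, 0), (0, 0), (0, 0), (0, 0), (0, 0), (0, 0), (0, 0), (0, 0), (0, 0), (0, 0), (0, 0), (0, 0), (0, 0), (0, 0), (0, 0), (0, 0), (0, 0), (0, 0), (0, 0), (0, 0), (0, 0)] = true := by decide +kernel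

def yws : List (List ℕ) := [[1, 2, 3, 4, 5, 6, 8, 1, 2, 3, 4, 5, 6, 8, 1, 2, 3, 4, 5, 6, 8, 1, 2, 3, 4, 5, 6, 8, 1, 2, 3, 4, 5, 6, 8, 1, 2, 3, 4, 5, 6, 8, 1, 2, 3, 4, 5, 6, 8, 1, 2, 3, 4, 5, 6, 8, 1, 2, 3, 4, 5, 6, 8], [0], [0], [0], [0], [0], [0], [0], [0], [0], [0], [0], [0], [0], [0], [0], [0], [0], [0], [0], [0], [0], [0], [0], [0], [0], [0], [0], [0], [0], [0], [0], [0], [0], [0], [0], [0], [0], [0], [0], [0], [0], [0], [0], [0], [0], [0], [0], [0], [0], [0], [0]]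

theorem yok : extOK (Y5D.rels ++ ex1 ++ [vw]) iv 12 yws FiY.rels FiY.iv [(1, 0), (3, 0), (5, 0), (7, 0), (9, 0), (11, 0), (13, 0), (15, 0), (137, 0), (23, 0), (25, 0), (27, 0), (29, 0), (31, 0), (33, 0), (35, 0), (139, 0), (43, 0), (45, 0), (47, 0), (49, 0), (51, 0), (53, 0), (141, 0), (61, 0), (63, 0), (65, 0), (67, 0), (69, 0), (143, 0), (77, 0), (79, 0), (81, 0), (83, 0), (145, 0), (91, 0), (93, 0), (95, 0), (147, 0), (103, 0), (105, 0), (153, 0), (113, 0), (149, 0), (151, 0), (133, 0), (0, 0)]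
    [(0, 0), (0, 0), (0, 0), (0, 0), (0, 0), (0, 0), (0, 0), (0, 0), (0, 0), (0, 0), (0, 0), (0, 0), (135, 0), (0, 0), (0, 0), (0, 0), (0, 0), (0, 0), (0, 0), (0, 0), (0, 0), (0, 0), (0, 0), (0, 0), (0, 0), (0, 0), (0, 0), (0, 0), (0, 0), (0, 0), (0, 0), (0, 0), (0, 0), (0, 0), (0, 0), (0, 0), (0, 0), (0, 0), (0, 0), (0, 0), (0, 0), (0, 0), (0, 0), (0, 0), (0, 0), (0, 0), (0, 0), (0, 0), (0, 0), (0, 0), (0, 0), (0, 0), (0, 0), (0, 0), (0, 0), (0, 0), (0, 0), (0, 0), (0, 0), (0, 0), (0, 0), (0, 0), (0, 0), (0, 0)] = true := by decide +kernel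

def uws : List (List ℕ) := [[1, 2, 3, 4, 5, 6, 8, 1, 2, 3, 4, 5, 6, 8, 1, 2, 3, 4, 5, 6, 8, 1, 2, 3, 4, 5, 6, 8, 1, 2, 3, 4, 5, 6, 8, 1, 2, 3, 4, 5, 6, 8, 1, 2, 3, 4, 5, 6, 8, 1, 2, 3, 4, 5, 6, 8, 1, 2, 3, 4, 5, 6, 8], [1, 2, 3, 4, 5, 6, 8, 11, 1, 2, 3, 4, 5, 6, 8, 11, 1, 2, 3, 4, 5, 6, 8, 11, 1, 2, 3, 4, 5, 6, 8, 11, 1, 2, 3, 4, 5, 6, 8, 11, 1, 2, 3, 4, 5, 6, 8, 11, 1, 2, 3, 4, 5, 6, 8, 11, 1, 2, 3, 4, 5, 6, 8, 11, 1, 2, 3, 4, 5, 6, 8, 11, 1, 2, 3, 4, 5, 6, 8, 11, 1, 2, 3, 4, 5, 6, 8, 11, 1, 2, 3, 4, 5, 6, 8, 11, 1, 2, 3, 4, 5, 6, 8, 11, 1, 2, 3, 4, 5, 6, 8, 11, 1, 2, 3, 4, 5, 6, 8, 11], [11, 8, 6, 5, 4, 3, 2, 1, 11, 8, 6, 5, 4, 3, 2, 1, 11, 8, 6, 5, 4, 3, 2, 1, 11, 8, 6, 5, 4, 3, 2, 1, 11, 8, 6, 5, 4, 3, 2, 1, 11, 8, 6, 5, 4, 3, 2, 1, 11, 8, 6,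 5, 4, 3, 2, 1, 11, 8, 6, 5, 4, 3, 2, 1, 11, 8, 6, 5, 4, 3, 2, 1, 11, 8, 6, 5, 4, 3, 2, 1, 11, 8, 6, 5, 4, 3, 2, 1, 11, 8, 6, 5, 4, 3, 2, 1, 11, 8, 6, 5, 4, 3, 2, 1, 11, 8, 6, 5, 4, 3, 2, 1, 11, 8, 6, 5, 4, 3, 2, 1], [0], [0], [0], [0], [0], [0], [0], [0], [0], [0], [0], [0], [0], [0], [0], [0], [0], [0], [0], [0], [0], [0], [0], [0], [0], [0], [0], [0], [0], [0], [0], [0], [0], [0], [0], [0], [0], [0], [0], [0], [0], [0], [0], [0], [0], [0], [0], [0]]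

theorem uok : extOK (Y5D.rels ++ ex1 ++ [vw]) iv 13 uws Y5U.rels Y5U.iv [(1, 0), (3, 0), (5, 0), (7, 0), (9, 0), (11, 0), (13, 0), (15, 0), (17, 0), (19, 0), (21, 0), (23, 0), (25, 0), (27, 0), (29, 0), (31, 0), (33, 0), (35, 0), (37, 0), (39, 0), (41, 0), (43, 0), (45, 0), (47, 0), (49, 0), (51, 0), (53, 0), (55, 0), (57, 0), (59, 0), (61, 0), (63, 0), (65, 0), (67, 0), (69, 0), (71, 0), (73, 0), (75, 0), (77, 0), (79, 0), (81, 0), (83, 0), (85, 0), (87, 0), (89, 0), (91, 0), (93, 0), (95, 0), (97, 0), (99, 0), (101, 0), (103, 0), (105, 0), (107, 0), (109, 0), (111, 0), (113, 0), (115, 0), (117, 0), (119, 0), (121, 0), (123, 0), (125, 0), (127, 0), (129, 0), (131, 0), (133, 0), (135, 0), (137, 0), (139, 0), (141, 0), (143, 0), (145, 0), (147, 0),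 (149, 0), (151, 0), (153, 0), (0, 0)]
    [(0, 0), (0, 0), (0, 0), (0, 0), (0, 0), (0, 0), (0, 0), (0, 0), (0, 0), (0, 0), (0, 0), (0, 0), (0, 0), (135, 0), (0, 0), (0, 0), (0, 0), (0, 0), (0, 0), (0, 0), (0, 0), (0, 0), (0, 0), (0, 0), (0, 0), (0, 0), (0, 0), (0, 0), (0, 0), (0, 0), (0, 0), (0, 0), (0, 0), (0, 0), (0, 0), (0, 0), (0, 0), (0, 0), (0, 0), (0, 0), (0, 0), (0, 0), (0, 0), (0, 0), (0, 0), (0, 0), (0, 0), (0, 0), (0, 0), (0, 0), (0, 0), (0, 0), (0, 0), (0, 0), (0, 0), (0, 0), (0, 0), (0, 0), (0, 0), (0, 0), (0, 0), (0, 0), (0, 0), (0, 0)] = true := by decide +kernel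

/-- in a group generated by involutions with the Coxeter relations of Y₅₄₂ and the spider relation, the
end node `l` is the ninth power of a Coxeter element of either subdiagram E₇ -/
theorem main (Q0 : RuleOK e Y5D.rels iv) : wv e w1 = 1 ∧ wv e w2 = 1 := by
  have Q := Q0.prod (F.drop (rels' := Y5D.rels) (by decide +kernel))
  set E : ℕ → G × Spor.Fi24 := fun x => (e x, e2 x) with hE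
  have bY : Finite (clL E [1, 2, 3, 4, 5, 6, 8, 9]) ∧
      Nat.card (clL E [1, 2, 3, 4, 5, 6, 8, 9]) ≤ 9170703360 :=
    card_step (card_step (card_step (card_step card_le_bot (Y5D.relIndex_le Q ⊥ (forall_nil _)))
      (Y5E.relIndex_le Q _ (mem_clL E [3, 4, 5, 6, 8] _ (by decide))))
      (Y5F.relIndex_le Q _ (mem_clL E [2, 3, 4, 5, 6, 8] _ (by decide))))
      (Y5Y.relIndex_le Q _ (mem_clL E [1, 2, 3, 4, 5, 6, 8] _ (by decide)))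
  have Q1 : RuleOK E (Y5D.rels ++ ex1) iv := Q.append ex1 (fun r hr =>
    inj_of bY card_Y_ge (by decide +kernel)
      (wv_mem_letters (el_mem_closure E _) (ws := ex1) (by decide +kernel) r hr)
      (List.mem_append_left _ hr)) (by decide +kernel)
  have Q2 := Q1.snoc vw (inj_of bY card_Y_ge (by decide +kernel)
    (wv_mem_of_elX (Y5V.goal14 (Q1.extend vok) _
      (elX_mem iv 13 vws (el_mem_closure E _) _ (by decide +kernel))) (by decide +kernel))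
    (by decide +kernel)) (by decide +kernel)
  have QY := Q2.extend yok
  have bJ : Finite (clL E [1, 2, 3, 4, 5, 6, 7, 8, 9]) ∧
      Nat.card (clL E [1, 2, 3, 4, 5, 6, 7, 8, 9]) ≤ 258247006617600 :=
    card_congr (clL_elX_eq_clL E iv 12 yws _ (by decide))
      (card_step (FiY.card_O7l QY) (FiY.relIndex_O7 QY _ (el_mem_closure _ _)))
  have Q3 := Q.snoc uw (inj_of bJ card_H1_ge (by decide +kernel)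
    (wv_mem_of_elX (Y5U.goal14 (Q2.extend uok) _
      (elX_mem iv 13 uws (el_mem_closure E _) _ (by decide +kernel))) (by decide +kernel))
    (by decide +kernel)) (by decide +kernel)
  have bX : Finite (clL E [1, 2, 3, 4, 5, 6, 8, 9, 11]) ∧
      Nat.card (clL E [1, 2, 3, 4, 5, 6, 8, 9, 11]) ≤ 9904359628800 :=
    card_step bY (Y5X.relIndex_le Q3 _ (mem_clL E [1, 2, 3, 4, 5, 6, 8, 9] _ (by decide)))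
  have hl : ∀ x ∈ [12, 1, 2, 3, 4, 5, 6, 8, 9, 11], E x ∈ clL E [1, 2, 3, 4, 5, 6, 8, 9, 11] :=
    forall_cons (Y5L.goal12 Q3 _ (el_mem_closure E _)) (el_mem_closure E _)
  have k : ∀ w ∈ [w1, w2], wv e w = 1 := fun w hw =>
    (map_wv (MonoidHom.fst G Spor.Fi24) E w).symm.trans (congrArg Prod.fst
      (inj_of bX card_X_ge (by decide +kernel) (wv_mem_letters hl (by decide +kernel) w hw)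
        (List.mem_append_right _ (List.mem_cons_of_mem _ (List.mem_cons_of_mem _ hw)))))
  exact ⟨k _ List.mem_cons_self, k _ (List.mem_cons_of_mem _ List.mem_cons_self)⟩

end Cfsg.Agent.H58.Y5
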